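import Cfsg.Agent.Lib.Alperin.Theorem
import Cfsg.Agent.Lib.FusionSub.Puig
import Cfsg.Agent.Lib.FusionSub.Induction
import Cfsg.Agent.Lib.FusionExamples.SmallElements
import Cfsg.Agent.Lib.FusionExamples.Hyperfocal
import Cfsg.Agent.Lib.Cores.PCore

/-!
A centric subgroup meeting a normal subsystem in a non-centric subgroup is not radical.
-/

set_option autoImplicit false
set_option linter.style.haveILetI false
set_option linter.unusedSectionVars false

namespace CfsgLib.Alperin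

open Cfsg Cfsg.FusionSystem CfsgLib.FusionSub

variable {Ω : Type*} [Group Ω] {S T : Subgroup Ω} [Finite S] {p : ℕ} [Fact p.Prime]
  {F : FusionSystem S} {E : FusionSystem T}

/-- Some conjugate of `P` has an outer element of `O_p` induced by `S`. -/
theorem exists_conj_pCore_induced (hS : IsPGroup p S) (hF : F.IsSaturated p)
    (hT : F.StronglyClosed T) (hEF : E.IsSubsystemOf F) {P : Subgroup Ω} (hP : P ≤ S)
    (hPT : ¬ E.IsCentric (P ⊓ T)) :
    ∃ φ ∈ F.Hom P, ∃ x ∈ S ⊓ Subgroup.normalizer (φ.range : Set Ω), x ∉ φ.range ∧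
      ∃ α ∈ ((pCore p (F.autGroup φ.range)).map (F.autGroup φ.range).subtype :
        Subgroup (MulAut φ.range)),
        ∀ y : φ.range, ((α y : φ.range) : Ω) = x * (y : Ω) * x⁻¹ := by
  have hTn := stronglyClosed_le_normalizer hT
  set Q := P ⊓ T with hQdef
  have hQS : Q ≤ S := inf_le_left.trans hP
  have hPN : P ≤ normalizerIn S Q := fun g hg =>
    ⟨hP hg, Subgroup.mem_normalizer_iff.mpr fun z => ⟨fun hz =>
      ⟨P.mul_mem (P.mul_mem hg hz.1) (P.inv_mem hg), stronglyClosed_conj hT (hP hg) hz.2⟩,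
      fun hz => by
        have h1 := P.mul_mem (P.mul_mem (P.inv_mem hg) hz.1) hg
        have h2 := stronglyClosed_conj hT (S.inv_mem (hP hg)) hz.2
        exact ⟨by simpa [mul_assoc] using h1, by simpa [mul_assoc] using h2⟩⟩⟩
  obtain ⟨Q', hQQ', hQ'⟩ := exists_isFullyNormalized F hQS
  obtain ⟨χ, hχ, hχN, hχQ⟩ := exists_hom_normalizerIn_of_fullyNormalized hS hF hQ' hQQ'
  have hφ : χ.comp (Subgroup.inclusion hPN) ∈ F.Hom P := restrict_mem hχ hPN
  obtain ⟨φ, hφdef⟩ : ∃ φ, φ = χ.comp (Subgroup.inclusion hPN) := ⟨_, rfl⟩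
  rw [← hφdef] at hφ
  refine ⟨φ, hφ, ?_⟩
  set P' := φ.range with hP'def
  have hP'S : P' ≤ S := range_le hφ
  obtain ⟨θ, hθ, hθr, hθx, -⟩ := exists_inverse hφ hP'def.symm
  -- the meet with `T` is `Q'`
  have hQ'P : Q' ≤ P' ⊓ T := by
    rw [← hχQ]
    rintro _ ⟨w, hw, rfl⟩
    exact ⟨⟨⟨w, hw.1⟩, by rw [hφdef]; rfl⟩, stronglyClosed_apply hT hχ w hw.2⟩
  have hPQ' : P' ⊓ T ≤ Q' := by
    rintro y ⟨hy, hyT⟩
    obtain ⟨x, rfl⟩ := hy
    have h1 := stronglyClosed_apply hT hθ ⟨φ x, ⟨x, rfl⟩⟩ hyT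
    rw [hθx x ⟨x, rfl⟩] at h1
    rw [← hχQ, hφdef]
    exact ⟨_, ⟨x.2, h1⟩, rfl⟩
  set X := T ⊓ Subgroup.centralizer (Q' : Set Ω) with hXdef
  have hXQ : ¬ X ≤ Q' := fun hX => hPT (by
    refine ⟨inf_le_right, fun R hR c hc => ?_⟩
    have hRF : F.IsConj R Q' := by
      obtain ⟨ψ, hψ, hr⟩ := hR
      exact CfsgLib.Alperin.IsConj.trans
        (CfsgLib.Alperin.IsConj.symm ⟨ψ, hEF _ hψ, hr⟩) hQQ'
    obtain ⟨ξ, hξ, hξN, hξR⟩ := exists_hom_normalizerIn_of_fullyNormalized hS hF hQ' hRF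
    have hcN : c ∈ normalizerIn S R :=
      centralizerIn_le_normalizerIn S R ⟨hT.1 hc.1, hc.2⟩
    have h1 : ξ ⟨c, hcN⟩ ∈ X := by
      refine ⟨stronglyClosed_apply hT hξ _ hc.1, ?_⟩
      intro y hy
      obtain ⟨w, hw, rfl⟩ := hξR.ge hy
      rw [← map_mul, ← map_mul]
      exact congrArg ξ (Subtype.ext (hc.2 _ hw))
    obtain ⟨w, hw, he⟩ := hξR.ge (hX h1)
    have h2 : (w : Ω) = c := congrArg Subtype.val (F.injective_of_mem hξ he)
    exact h2 ▸ hw)
  have hXS : X ≤ S := inf_le_left.trans hT.1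
  have hP'X : P' ≤ Subgroup.normalizer (X : Set Ω) := by
    have key : ∀ g ∈ P', ∀ z ∈ X, g * z * g⁻¹ ∈ X := by
      intro g hg z hz
      refine ⟨stronglyClosed_conj hT (hP'S hg) hz.1, fun q hq => ?_⟩
      have hq' : g⁻¹ * q * g⁻¹⁻¹ ∈ Q' := by
        refine hPQ' ⟨P'.mul_mem (P'.mul_mem (P'.inv_mem hg) (hQ'P hq).1) (P'.inv_mem (P'.inv_mem hg)),
          stronglyClosed_conj hT (S.inv_mem (hP'S hg)) (hQ'P hq).2⟩
      have e := hz.2 _ hq'
      show q * (g * z * g⁻¹) = g * z * g⁻¹ * q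
      calc q * (g * z * g⁻¹) = g * ((g⁻¹ * q * g⁻¹⁻¹) * z) * g⁻¹ := by group
        _ = g * (z * (g⁻¹ * q * g⁻¹⁻¹)) * g⁻¹ := by rw [e]
        _ = g * z * g⁻¹ * q := by group
    intro g hg
    refine Subgroup.mem_normalizer_iff.mpr fun z => ⟨key g hg z, fun hz => ?_⟩
    simpa [mul_assoc] using key g⁻¹ (P'.inv_mem hg) _ hz
  have hlt : P' < P' ⊔ X := lt_of_le_of_ne le_sup_left fun h =>
    hXQ fun z hz => hPQ' ⟨h.ge (Subgroup.mem_sup_right hz), hz.1⟩
  obtain ⟨g, hg, hgN, hgP⟩ :=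
    CfsgLib.FusionSub.exists_mem_normalizer_not_mem hS hlt (sup_le hP'S hXS)
  obtain ⟨c, hc, q, hq, hgcq⟩ : ∃ c ∈ X, ∃ q ∈ P', g = c * q := by
    have h1 : (g : Ω) ∈ ((X ⊔ P' : Subgroup Ω) : Set Ω) := sup_comm P' X ▸ hg
    rw [Subgroup.coe_mul_of_right_le_normalizer_left X P' hP'X] at h1
    obtain ⟨c, hc, q, hq, he⟩ := Set.mem_mul.mp h1
    exact ⟨c, hc, q, hq, he.symm⟩
  have hcN : c ∈ Subgroup.normalizer (P' : Set Ω) := by
    rw [show c = g * q⁻¹ by rw [hgcq, mul_inv_cancel_right]]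
    exact Subgroup.mul_mem _ hgN (Subgroup.le_normalizer (P'.inv_mem hq))
  refine ⟨c, ⟨hXS hc, hcN⟩, fun h => hgP (hgcq ▸ P'.mul_mem h hq), conjAut P' c hcN, ?_,
    fun y => rfl⟩
  have hcA := autInducedBy_le_autGroup F hP'S (conjAut_mem (hXS hc) hcN)
  refine ⟨⟨conjAut P' c hcN, hcA⟩, ?_, rfl⟩
  haveI := finite_of_le hP'S
  haveI := finite_autGroup F hP'S
  -- automorphisms stabilizing `1 ≤ Q' ≤ P'`
  let A : Subgroup (F.autGroup P') :=
    { carrier := {a | (∀ x : P', (x : Ω) ∈ Q' → (a : MulAut P') x = x) ∧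
        ∀ x : P', (x : Ω)⁻¹ * (((a : MulAut P') x : P') : Ω) ∈ Q'}
      one_mem' := ⟨fun _ _ => rfl, fun x => by
        rw [show (((1 : F.autGroup P') : MulAut P') x) = x from rfl, inv_mul_cancel]
        exact Q'.one_mem⟩
      mul_mem' := fun {a b} ha hb => ⟨fun x hx => by
          show (a : MulAut P') ((b : MulAut P') x) = x
          rw [hb.1 x hx, ha.1 x hx],
        fun x => by
          have h1 := Q'.mul_mem (hb.2 x) (ha.2 ((b : MulAut P') x))
          rw [mul_assoc, mul_inv_cancel_left] at h1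
          exact h1⟩
      inv_mem' := fun {a} ha => by
        have h2 : ∀ x, (a : MulAut P') ((a : MulAut P')⁻¹ x) = x :=
          fun x => (a : MulAut P').apply_symm_apply x
        refine ⟨fun x hx => ?_, fun x => ?_⟩
        · show (a : MulAut P')⁻¹ x = x
          conv_lhs => rw [← ha.1 x hx]
          exact (a : MulAut P').symm_apply_apply x
        · have h1 := Q'.inv_mem (ha.2 ((a : MulAut P')⁻¹ x))
          rw [h2, mul_inv_rev, inv_inv] at h1
          exact h1 }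
  haveI : A.Normal := by
    refine ⟨fun a ha b => ?_⟩
    have hQb : ∀ (β : MulAut P'), β ∈ F.autGroup P' → ∀ x : P', (x : Ω) ∈ Q' →
        ((β x : P') : Ω) ∈ Q' := fun β hβ x hx =>
      hPQ' ⟨(β x).2, stronglyClosed_apply hT ((mem_autGroup_iff F hP'S).mp hβ) x (hQ'P hx).2⟩
    have e : ∀ x, ((b * a * b⁻¹ : F.autGroup P') : MulAut P') x =
        (b : MulAut P') ((a : MulAut P') ((b : MulAut P')⁻¹ x)) := fun x => rfl
    refine ⟨fun x hx => ?_, fun x => ?_⟩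
    · rw [e, ha.1 _ (hQb _ (Subgroup.inv_mem _ b.2) x hx)]
      exact (b : MulAut P').apply_symm_apply x
    · rw [e]
      have h2 : (b : MulAut P') ((b : MulAut P')⁻¹ x) = x := (b : MulAut P').apply_symm_apply x
      have h3 := hQb _ b.2 (((b : MulAut P')⁻¹ x)⁻¹ * (a : MulAut P') ((b : MulAut P')⁻¹ x))
        (ha.2 _)
      rw [map_mul, map_inv, h2] at h3
      exact h3
  have hAp : IsPGroup p A := by
    intro a
    obtain ⟨k, m, hkm, hm⟩ :=
      CfsgLib.FusionExamples.exists_coprime_power (p := p) (a : F.autGroup P')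
    refine ⟨k, Subtype.ext (Subtype.ext (MulEquiv.ext fun x => ?_))⟩
    have hb := A.pow_mem a.2 (p ^ k)
    exact CfsgLib.FusionExamples.eq_of_stable (isPGroup_of_le hS hP'S)
      (((a : F.autGroup P') ^ p ^ k : F.autGroup P') : MulAut P') (m := m)
      (congrArg Subtype.val hkm) hm (hb.1 _ (hb.2 x))
  refine le_sSup (show A ∈ {N : Subgroup (F.autGroup P') | N.Normal ∧ IsPGroup p N} from
    ⟨inferInstance, hAp⟩) ⟨fun x hx => Subtype.ext ?_, fun x => ?_⟩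
  · show c * (x : Ω) * c⁻¹ = x
    rw [← hc.2 x hx, mul_inv_cancel_right]
  · show (x : Ω)⁻¹ * (c * (x : Ω) * c⁻¹) ∈ Q'
    refine hPQ' ⟨P'.mul_mem (P'.inv_mem x.2) (mem_normalizer_conj hcN x.2), ?_⟩
    rw [← mul_assoc]
    refine T.mul_mem ?_ (T.inv_mem hc.1)
    simpa [mul_assoc] using stronglyClosed_conj hT (S.inv_mem (hP'S x.2)) hc.1

/-- Such a centric subgroup is not radical. -/
theorem not_isRadical_of_pCore_induced {P : Subgroup Ω} (hP : F.IsCentric P) {φ : P →* Ω}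
    (hφ : φ ∈ F.Hom P) {x : Ω} (hx : x ∈ S ⊓ Subgroup.normalizer (φ.range : Set Ω))
    (hxP : x ∉ φ.range) {α : MulAut φ.range}
    (hα : α ∈ (pCore p (F.autGroup φ.range)).map (F.autGroup φ.range).subtype)
    (hαx : ∀ y : φ.range, ((α y : φ.range) : Ω) = x * (y : Ω) * x⁻¹) : ¬ F.IsRadical p P := by
  intro hR
  set e := isoOfHom φ (F.injective_of_mem hφ) rfl with he
  have hmap := autGroup_map_congr hφ (rfl : φ.range = φ.range)
  let c : F.autGroup P ≃* F.autGroup φ.range :=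
    ((F.autGroup P).equivMapOfInjective (MulAut.congr e).toMonoidHom
      (MulAut.congr e).injective).trans (MulEquiv.subgroupCongr hmap)
  obtain ⟨a, ha, rfl⟩ := hα
  rw [← CfsgLib.Cores.map_pCore_equiv c] at ha
  obtain ⟨b, hb, rfl⟩ := ha
  have hb' : ((b : F.autGroup P) : MulAut P) ∈ Inn P := by
    rw [← hR.2]
    exact ⟨b, hb, rfl⟩
  obtain ⟨z, hz⟩ := hb'
  refine hxP (mem_of_conjAut_mem_inn (range_le hφ) (hP.2 _ ⟨φ, hφ, rfl⟩) hx.1
    (α := ((c b : F.autGroup φ.range) : MulAut φ.range)) hαx ⟨e z, MulEquiv.ext fun y => ?_⟩)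
  show e z * y * (e z)⁻¹ = e (((b : F.autGroup P) : MulAut P) (e.symm y))
  rw [← hz]
  show e z * y * (e z)⁻¹ = e (z * e.symm y * z⁻¹)
  rw [map_mul, map_mul, map_inv, MulEquiv.apply_symm_apply]

end CfsgLib.Alperin
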