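import Cfsg.Agent.Lib.Alperin.ClassS

/-!
The subsystem of index prime to `p` cut out by a `p'`-character of `Aut_F(T)` trivial on `Aut_E(T)`.
-/

set_option autoImplicit false
set_option linter.style.haveILetI false
set_option linter.unusedSectionVars false

namespace CfsgLib.Alperin

open Cfsg Cfsg.FusionSystem CfsgLib.FusionSub

variable {Ω : Type*} [Group Ω] {S T : Subgroup Ω} [Finite S]
variable {F : FusionSystem S} {E : FusionSystem T} {Δ : Type*} [Group Δ]
variable {χ : F.autGroup T →* Δ} {p : ℕ} [Fact p.Prime]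

/-- The restriction of an automorphism of `S` in the system to a strongly closed subgroup. -/
def resAut (hT : F.StronglyClosed T) (a : F.autGroup S) : MulAut T where
  toFun t := ⟨(a : MulAut S) ⟨t, hT.1 t.2⟩,
    stronglyClosed_apply hT ((mem_autGroup_iff F le_rfl).mp a.2) ⟨t, hT.1 t.2⟩ t.2⟩
  invFun t := ⟨((a⁻¹ : F.autGroup S) : MulAut S) ⟨t, hT.1 t.2⟩,
    stronglyClosed_apply hT ((mem_autGroup_iff F le_rfl).mp (a⁻¹).2) ⟨t, hT.1 t.2⟩ t.2⟩
  left_inv t := Subtype.ext (by simp)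
  right_inv t := Subtype.ext (by simp)
  map_mul' s t := Subtype.ext
    (congrArg (Subtype.val : S → Ω) (map_mul (a : MulAut S) ⟨s, hT.1 s.2⟩ ⟨t, hT.1 t.2⟩))

theorem resAut_apply (hT : F.StronglyClosed T) (a : F.autGroup S) (t : T) :
    ((resAut hT a t : T) : Ω) = (((a : MulAut S) ⟨t, hT.1 t.2⟩ : S) : Ω) := rfl

theorem resAut_mem (hT : F.StronglyClosed T) (a : F.autGroup S) : resAut hT a ∈ F.autGroup T :=
  (mem_autGroup_iff F hT.1).mpr
    (mem_of_apply_eq (restrict_mem ((mem_autGroup_iff F le_rfl).mp a.2) hT.1) fun _ => rfl)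

/-- Restriction to `T` as a homomorphism. -/
def resHom (hT : F.StronglyClosed T) : F.autGroup S →* F.autGroup T :=
  MonoidHom.mk' (fun a => ⟨resAut hT a, resAut_mem hT a⟩) fun a b =>
    Subtype.ext (MulEquiv.ext fun t => Subtype.ext rfl)

theorem resHom_apply (hT : F.StronglyClosed T) (a : F.autGroup S) (t : T) :
    ((((resHom hT a : F.autGroup T) : MulAut T) t : T) : Ω) =
      (((a : MulAut S) ⟨t, hT.1 t.2⟩ : S) : Ω) := rfl

variable (hs : ClassSetup F E χ p)
include hs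

theorem gcl_of_aut (a : F.autGroup S) :
    GCl E χ S (S.subtype.comp (a : MulAut S).toMonoidHom) (χ (resHom hs.closed a)) :=
  (GCl.base (f := S.subtype.comp (a : MulAut S).toMonoidHom) le_rfl (isCentric_top F)
    (tCentric_meet_top hs) ((mem_autGroup_iff F le_rfl).mp a.2)
    ((ClT.of_aut (resHom hs.closed a) inf_le_right fun _ => rfl).congr fun _ => rfl)).congr
    fun _ => rfl

theorem gcl_of_gen {P : Subgroup Ω} {z : P →* Ω} (hz : Gen F p P z) : GCl E χ P z 1 := by
  induction hz with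
  | @base P Q hPQ hQ β hβ k hk =>
    obtain ⟨c, hc⟩ := exists_gcl hs ((mem_autGroup_iff F hQ.1).mp hβ)
    have h1 := eq_one_of_pElement hs (fun e he => gcl_unique_incl hs hQ he) hk hc
    subst h1
    exact hc.restrict hs hPQ fun _ => rfl
  | @comp P Q φ ψ h₁ h₂ h ih₁ ih₂ =>
    have := GCl.comp ih₁ ih₂ h
    rwa [mul_one] at this

theorem gcl_of_cl {P : Subgroup Ω} {φ : P →* Ω} {c : Δ}
    (h : Cl (χ.comp (resHom hs.closed)) p P φ c) : GCl E χ P φ c := by
  obtain ⟨a, rfl, z, hz, hza⟩ := h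
  have h1 := (gcl_of_gen hs hz).comp_apply (gcl_of_aut hs a) (fun x => apply_mem hz.mem x)
    (ρ := φ) fun x => hza x _
  rwa [mul_one] at h1

theorem h0_le_ker : h0 F p ≤ (χ.comp (resHom hs.closed)).ker := by
  refine (Subgroup.closure_le _).mpr ?_
  rintro a ⟨Q, hQ, ha⟩
  have h1 := gcl_of_gen hs ha
  have h2 := (gcl_of_aut hs a).restrict hs hQ.1
    (ρ := (S.subtype.comp (a : MulAut S).toMonoidHom).comp (Subgroup.inclusion hQ.1)) fun _ => rfl
  obtain ⟨θ, hθ, hθr, hθx, hθy⟩ := exists_inverse h1.mem rfl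
  have h3 := h2.comp_apply (h1.inv hs rfl hθx) (fun x => ⟨x, rfl⟩) (ρ := Q.subtype)
    fun x => (hθx x ⟨x, rfl⟩).symm
  have h4 := gcl_unique_incl hs hQ h3
  rw [inv_one, one_mul] at h4
  exact h4

theorem clT_of_cl {R : Subgroup Ω} (hR : TCentric F T R) {φ : R →* Ω} {c : Δ}
    (h : Cl (χ.comp (resHom hs.closed)) p R φ c) : ClT E χ R φ c := by
  have hRT : R ⊓ T = R := inf_eq_left.mpr hR.1
  have h1 := (gcl_of_cl hs h).clT hs le_rfl (show TCentric F T (R ⊓ T) by rw [hRT]; exact hR)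
  exact h1.restrict (le_inf le_rfl hR.1) fun _ => rfl

theorem mem_classSystem_of_mem {P : Subgroup Ω} {φ : P →* Ω} (hφ : φ ∈ E.Hom P) :
    Cl (χ.comp (resHom hs.closed)) p P φ 1 := by
  haveI := finite_of_le hs.closed.1
  set π := χ.comp (resHom hs.closed)
  refine closed_induction_centric (isPGroup_of_le hs.pgroup hs.closed.1) hs.saturated_sub
    (Good := fun P φ => Cl π p P φ 1)
    ⟨fun {P Q φ} hQ _ h => h.restrict hQ fun _ => rfl,
      fun {P Q φ ψ} _ _ h h₁ h₂ => by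
        have := h₁.comp h₂ h (χ := ψ.comp (φ.codRestrict Q h)) fun _ => rfl
        rwa [one_mul] at this,
      fun {P Q φ ψ} _ _ hr hx h => by
        have := h.inv hr hx
        rwa [inv_one] at this⟩ ?_ hφ
  intro Q hQn hQc _ α hα
  have hα' := (mem_autGroup_iff E hQn.1).mp hα
  obtain ⟨c, hc⟩ := exists_cl hs.pgroup hs.saturated π (hs.sub Q hα')
  have hT := tCentric_of_isCentric hs.decomp hQc
  exact (clT_unique hs hT (clT_of_cl hs hT hc) (ClT.of_mem hα')) ▸ hc

theorem exists_aut_class (α : F.autGroup T) :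
    ∃ a : F.autGroup S, χ (resHom hs.closed a) = χ α := by
  obtain ⟨c, hc⟩ := exists_cl hs.pgroup hs.saturated (χ.comp (resHom hs.closed))
    ((mem_autGroup_iff F hs.closed.1).mp α.2)
  have hT := tCentric_top (F := F) hs.closed
  have h1 := clT_unique hs hT (clT_of_cl hs hT hc) (ClT.of_aut α le_rfl fun _ => rfl)
  obtain ⟨a, ha, -⟩ := hc
  exact ⟨a, ha.trans h1⟩

theorem mem_autGroup_classSystem_iff (α : MulAut S) :
    α ∈ (classSystem (χ.comp (resHom hs.closed)) hs.pgroup).autGroup S ↔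
      ∃ h : α ∈ F.autGroup S, χ (resHom hs.closed ⟨α, h⟩) = 1 := by
  rw [mem_autGroup_iff _ le_rfl]
  constructor
  · intro h
    have hF : α ∈ F.autGroup S := (mem_autGroup_iff F le_rfl).mpr (Cl.mem h)
    refine ⟨hF, ?_⟩
    have h2 : Cl (χ.comp (resHom hs.closed)) p S (S.subtype.comp α.toMonoidHom) _ :=
      Cl.of_aut (π := χ.comp (resHom hs.closed)) ⟨α, hF⟩ le_rfl fun _ => rfl
    exact Cl.unique (h0_le_ker hs) (isCentric_top F) h2 h
  · rintro ⟨hF, h1⟩
    have h2 : Cl (χ.comp (resHom hs.closed)) p S (S.subtype.comp α.toMonoidHom) _ :=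
      Cl.of_aut (π := χ.comp (resHom hs.closed)) ⟨α, hF⟩ le_rfl fun _ => rfl
    rw [MonoidHom.comp_apply, h1] at h2
    exact h2

omit hs in
/-- The class systems are normal. -/
theorem classSystem_isNormalIn {Γ : Type*} [Group Γ] {π : F.autGroup S →* Γ} (hS : IsPGroup p S)
    (hF : F.IsSaturated p) (hπ : h0 F p ≤ π.ker) : (classSystem π hS).IsNormalIn F p := by
  refine ⟨⟨classSystem_isSaturated hS hF hπ, hF, classSystem_le hS, stronglyClosed_self F,
    fun P hP φ hφ a ha => ?_, fun P hP φ hφ => ?_⟩, fun α hα => ?_⟩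
  · set A : F.autGroup S := ⟨a, ha⟩
    set a' := S.subtype.comp a.toMonoidHom with ha'
    set P' := (P.subgroupOf S).map a' with hP'
    set f := a'.comp (Subgroup.inclusion hP) with hf
    have hfc : Cl π p P f (π A) := Cl.of_aut A hP fun _ => rfl
    have hfr : f.range = P' := by
      rw [hP', hf, range_comp_inclusion]
    obtain ⟨θ, hθ, hθr, hθx, hθy⟩ := exists_inverse hfc.mem hfr
    have hθc := hfc.inv hfr hθx
    have hφc : Cl π p P φ 1 := hφ
    have hm : ∀ z : P', θ z ∈ P := fun z => hθr.le ⟨z, rfl⟩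
    have hm2 : ∀ z : P', φ ⟨θ z, hm z⟩ ∈ S := fun z => apply_mem hφc.mem _
    refine ⟨a'.comp ((φ.comp (θ.codRestrict P hm)).codRestrict S hm2), ?_, fun x hφx hax => ?_⟩
    · have h1 := (hθc.comp hφc hm (χ := φ.comp (θ.codRestrict P hm)) fun _ => rfl).comp
        (Cl.of_aut A le_rfl fun _ => rfl : Cl π p S a' (π A)) hm2
        (χ := a'.comp ((φ.comp (θ.codRestrict P hm)).codRestrict S hm2)) fun _ => rfl
      have e : π A * (1 * (π A)⁻¹) = 1 := by group
      rw [e] at h1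
      exact h1
    · show a' ⟨φ ⟨θ ⟨_, hax⟩, _⟩, _⟩ = a' ⟨φ x, hφx⟩
      refine congrArg a' (Subtype.ext (congrArg φ (Subtype.ext ?_)))
      exact hθx x hax
  · obtain ⟨c, hc⟩ := exists_cl hS hF π hφ
    obtain ⟨a, -, z, hz, hza⟩ := hc
    exact ⟨a, a.2, z, Cl.of_gen hz, fun x hx => hza x hx⟩
  · have hle : S ⊔ centralizerIn S S = S := sup_eq_left.mpr (centralizerIn_le S S)
    have hαF : α ∈ F.autGroup S := autGroup_mono (classSystem_le hS) S hα
    let e : ↥(S ⊔ centralizerIn S S) ≃* S := MulEquiv.subgroupCongr hle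
    refine ⟨e.trans (α.trans e.symm), ?_, fun x => ?_, fun c hc => ?_⟩
    · refine (mem_autGroup_iff F hle.le).mpr ?_
      exact restrict_mem_apply ((mem_autGroup_iff F le_rfl).mp hαF) hle.le fun _ => rfl
    · rfl
    · refine ⟨S.mul_mem (S.inv_mem hc.1) (α _).2, fun s hs => ?_⟩
      obtain ⟨t, ht⟩ := α.surjective ⟨s, hs⟩
      have h1 : s * (((α (e c) : S) : Ω)) = ((α (e c) : S) : Ω) * s := by
        rw [show s = ((α t : S) : Ω) from (congrArg Subtype.val ht).symm, ← Subgroup.coe_mul,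
          ← Subgroup.coe_mul, ← map_mul, ← map_mul]
        exact congrArg (fun w => ((α w : S) : Ω)) (Subtype.ext (hc.2 _ t.2))
      calc s * ((c : Ω)⁻¹ * ((α (e c) : S) : Ω))
          = (c : Ω)⁻¹ * ((c : Ω) * s) * (c : Ω)⁻¹ * ((α (e c) : S) : Ω) := by group
        _ = (c : Ω)⁻¹ * (s * ((α (e c) : S) : Ω)) := by rw [← hc.2 s hs]; group
        _ = (c : Ω)⁻¹ * ((α (e c) : S) : Ω) * s := by rw [h1]; group

end CfsgLib.Alperin
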