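import Cfsg.Agent.Lib.Alperin.PPrimeMain
import Cfsg.Agent.Lib.FusionSub.Residual
import Cfsg.Prelude.Def_FusionComponents

/-!
The saturated subsystems of index prime to `p` cut out by the class group; the least one.
-/

set_option autoImplicit false
set_option linter.style.haveILetI false
set_option linter.unusedSectionVars false

namespace CfsgLib.Alperin

open Cfsg Cfsg.FusionSystem CfsgLib.FusionSub CfsgLib.FusionBasics

variable {Ω : Type*} [Group Ω] {S : Subgroup Ω} [Finite S] {F : FusionSystem S} {p : ℕ} [Fact p.Prime]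
variable {Γ : Type*} [Group Γ] (π : F.autGroup S →* Γ) (hS : IsPGroup p S) (hF : F.IsSaturated p)

/-- The maps of class one. -/
def classSystem : FusionSystem S where
  Hom P := {φ | Cl π p P φ 1}
  le_of_mem h := F.le_of_mem h.mem
  injective_of_mem h := F.injective_of_mem h.mem
  conj_mem hP hg := Cl.of_gen (Gen.conj hS hP hg)
  comp_mem {P Q φ ψ} h₁ h₂ h := by
    have h' := h₁.comp (χ := ψ.comp (φ.codRestrict Q h)) h₂ h fun _ => rfl
    rwa [one_mul] at h'
  inv_mem {P φ} h := by
    obtain ⟨θ, -, -, hθx, -⟩ := exists_inverse h.mem rfl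
    have h' := h.inv rfl hθx
    rw [inv_one] at h'
    exact ⟨θ, h', fun x => hθx x ⟨x, rfl⟩⟩

variable {π}

theorem classSystem_le : (classSystem π hS).IsSubsystemOf F := fun _ _ h => h.mem

include hF in
theorem classSystem_index :
    (classSystem π hS).HasPrimeToPIndexIn F p := by
  refine ⟨classSystem_le hS, fun P hP => ?_⟩
  rw [MonoidHom.map_closure]
  refine (Subgroup.closure_le _).mpr ?_
  rintro _ ⟨α, ⟨k, hk⟩, rfl⟩
  refine (mem_autGroup_iff _ hP).mpr (cl_one_of_pElement hS hF π hP α.2 (k := k) ?_)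
  exact congrArg Subtype.val (hk ▸ pow_orderOf_eq_one α : α ^ p ^ k = 1)

theorem card_normalizerIn_le_of_aut (a : MulAut S) {A B : Subgroup Ω} (hA : A ≤ S)
    (ha : a ∈ F.autGroup S) (hB : (A.subgroupOf S).map (S.subtype.comp a.toMonoidHom) = B) :
    Nat.card (normalizerIn S A) ≤ Nat.card (normalizerIn S B) :=
  card_le_of_maps_to (ψ := S.subtype.comp a.toMonoidHom)
    (F.injective_of_mem ((mem_autGroup_iff F le_rfl).mp ha)) (normalizerIn_le S A)
    (normalizerIn_le S B) fun x hx =>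
      apply_mem_normalizerIn ((mem_autGroup_iff F le_rfl).mp ha) hA hB x hx.2

include hF in
/-- Fully normalized subgroups of the class system are fully normalized in `F`. -/
theorem isFullyNormalized_of_classSystem {P : Subgroup Ω}
    (hP : (classSystem π hS).IsFullyNormalized P) : F.IsFullyNormalized P := by
  refine ⟨hP.1, fun Q ⟨φ, hφ, hr⟩ => ?_⟩
  subst hr
  obtain ⟨c, a, -, z, hz, hza⟩ := exists_cl hS hF π hφ
  refine le_trans ?_ (hP.2 z.range ⟨z, Cl.of_gen hz, rfl⟩)
  refine card_normalizerIn_le_of_aut (F := F) ((a⁻¹ : F.autGroup S) : MulAut S) (range_le hφ) (a⁻¹).2 ?_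
  have hk : ∀ x : P, ((a⁻¹ : F.autGroup S) : MulAut S) ⟨φ x, apply_mem hφ x⟩ =
      ⟨z x, apply_mem hz.mem x⟩ := fun x => by
    apply (a : MulAut S).injective
    simp only [InvMemClass.coe_inv, MulAut.apply_inv_self]
    exact Subtype.ext (hza x (apply_mem hz.mem x))
  ext y
  constructor
  · rintro ⟨w, ⟨x, hx⟩, rfl⟩
    refine ⟨x, Eq.trans (congrArg Subtype.val (hk x)).symm ?_⟩
    exact congrArg (fun v : S => ((((a⁻¹ : F.autGroup S) : MulAut S) v : S) : Ω)) (Subtype.ext hx)
  · rintro ⟨x, rfl⟩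
    exact ⟨⟨φ x, apply_mem hφ x⟩, ⟨x, rfl⟩, congrArg Subtype.val (hk x)⟩

include hF in
/-- The class systems are saturated. -/
theorem classSystem_isSaturated (hπ : h0 F p ≤ π.ker) : (classSystem π hS).IsSaturated p := by
  refine isSaturated_of_top_of_receptive hS _ ?_ fun P hP => ?_
  · haveI := finite_autGroup (classSystem π hS) (le_refl S)
    haveI := finite_autGroup F (le_refl S)
    obtain ⟨-, R, hR⟩ := (centralized_automized_of_fullyNormalized hS hF (isFullyNormalized_top F)).2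
    have hle : (classSystem π hS).autGroup S ≤ F.autGroup S :=
      autGroup_mono (classSystem_le hS) S
    have hAle := autInducedBy_le_autGroup (classSystem π hS) (le_refl S)
    have hcard : Nat.card (autInducedBy S S) = p ^ (Nat.card (F.autGroup S)).factorization p := by
      rw [← Nat.card_congr (Subgroup.subgroupOfEquivOfLe (autInducedBy_le_autGroup F le_rfl)).toEquiv,
        ← hR]
      exact R.card_eq_multiplicity
    refine ⟨le_rfl, Sylow.ofCard ((autInducedBy S S).subgroupOf _) ?_, rfl⟩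
    rw [Nat.card_congr (Subgroup.subgroupOfEquivOfLe hAle).toEquiv]
    refine le_antisymm (card_le_sylow_card_of_le hAle (isPGroup_autInducedBy hS S)) ?_
    rw [hcard]
    refine Nat.pow_le_pow_right (Fact.out : p.Prime).pos ?_
    exact (Nat.factorization_le_iff_dvd Nat.card_pos.ne' Nat.card_pos.ne').mpr
      (Subgroup.card_dvd_of_le hle) p
  · have hPF := isFullyNormalized_of_classSystem hS hF hP
    refine ⟨hP.1, fun Q φ hφ hr => ?_⟩
    have hφ' : Cl π p Q φ 1 := hφ
    obtain ⟨ψ, hψ, hψx⟩ := (receptive_of_fullyNormalized hS hF hPF).2 Q φ hφ'.mem hr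
    obtain ⟨c, hc⟩ := exists_cl hS hF π hψ
    have hQle := le_extender hφ'.mem
    have hφc : Cl π p Q φ c := hc.restrict hQle fun x => (hψx x x.2 _).symm
    obtain ⟨θ, -, hθr, hθx, hθy⟩ := exists_inverse hφ'.mem hr
    have hid : Cl π p P P.subtype c⁻¹ := by
      have h := (hφc.inv hr hθx).comp (χ := P.subtype) hφ' (fun z => hθr.le ⟨z, rfl⟩)
        fun z => (hθy z _).symm
      rwa [one_mul] at h
    obtain ⟨χ, hχ, -, hχfix⟩ := fixCl_of_cl_subtype hS hF hπ hPF hid
    have hmap : (Q.subgroupOf (extender S Q φ)).map ψ = P :=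
      (map_subgroupOf_of_extends hQle hψx).trans hr
    have hm : ∀ x, ψ x ∈ normalizerIn S P := fun x =>
      apply_mem_normalizerIn hψ hQle hmap x (extender_le_normalizerIn Q φ x.2).2
    have h := hc.comp (χ := χ.comp (ψ.codRestrict _ hm)) hχ hm fun _ => rfl
    rw [inv_mul_cancel] at h
    refine ⟨χ.comp (ψ.codRestrict _ hm), h, fun x hxQ hxN => ?_⟩
    have h1 : ψ ⟨x, hxN⟩ = φ ⟨x, hxQ⟩ := hψx x hxQ hxN
    have h2 : φ ⟨x, hxQ⟩ ∈ P := hr.le ⟨_, rfl⟩
    refine Eq.trans (congrArg χ (Subtype.ext ?_)) (hχfix _ h2 (le_normalizerIn hP.1 h2))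
    exact h1

include hS hF in
/-- The generated maps and the automorphisms in `h0` lie in every saturated subsystem of index prime
to `p`. -/
theorem gen_le_of_index {D : FusionSystem S} (hD : D.IsSaturated p)
    (hDi : D.HasPrimeToPIndexIn F p) :
    (∀ {P : Subgroup Ω} {φ : P →* Ω}, Gen F p P φ → φ ∈ D.Hom P) ∧
      ∀ a ∈ h0 F p, (a : MulAut S) ∈ D.autGroup S := by
  have hgen : ∀ {P : Subgroup Ω} {φ : P →* Ω}, Gen F p P φ → φ ∈ D.Hom P := by
    intro P φ h
    induction h with
    | @base P Q hPQ hQ β hβ k hk =>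
      refine restrict_mem ((mem_autGroup_iff D hQ.1).mp (hDi.2 Q hQ.1 ⟨⟨β, hβ⟩, ?_, rfl⟩)) hPQ
      refine Subgroup.subset_closure ?_
      obtain ⟨e, -, he⟩ := (Nat.dvd_prime_pow Fact.out).mp
        (orderOf_dvd_of_pow_eq_one (x := (⟨β, hβ⟩ : F.autGroup Q)) (Subtype.ext hk))
      exact ⟨e, he⟩
    | comp _ _ h ih₁ ih₂ => exact D.comp_mem ih₁ ih₂ h
  refine ⟨hgen, fun a ha => ?_⟩
  suffices h : h0 F p ≤ (D.autGroup S).comap (F.autGroup S).subtype from h ha
  refine (Subgroup.closure_le _).mpr ?_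
  rintro b ⟨Q, hQ, hb⟩
  exact (mem_autGroup_iff D le_rfl).mpr (CfsgLib.FusionExamples.mem_of_restrict_centric hS hF hD
    hDi.1 hQ.1 hQ ((mem_autGroup_iff F le_rfl).mp b.2) (hgen hb))

include hS hF in
/-- Every saturated system has a `p'`-residual subsystem. -/
theorem exists_isPPrimeResidual : ∃ E : FusionSystem S, F.IsPPrimeResidual p E := by
  haveI := h0_normal (F := F) (p := p)
  have hπ : h0 F p ≤ (QuotientGroup.mk' (h0 F p)).ker := (QuotientGroup.ker_mk' _).ge
  refine ⟨classSystem (QuotientGroup.mk' (h0 F p)) hS, classSystem_isSaturated hS hF hπ,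
    classSystem_index hS hF, fun D hD hDi P φ hφ => ?_⟩
  obtain ⟨a, ha, z, hz, hza⟩ := hφ
  obtain ⟨hgen, hh0⟩ := gen_le_of_index hS hF hD hDi
  exact comp_mem_apply (hgen hz) ((mem_autGroup_iff D le_rfl).mp
    (hh0 a ((QuotientGroup.eq_one_iff a).mp ha))) (apply_mem hz.mem) fun x => hza x _

end CfsgLib.Alperin
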