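import Cfsg.Agent.Lib.Alperin.ClassT
import Cfsg.Agent.Lib.Alperin.CentricMeet
import Cfsg.Agent.Lib.Alperin.PPrimeSystem

/-!
The class of a map between `T`-centric subgroups extends uniquely to all centric subgroups.
-/

set_option autoImplicit false
set_option linter.style.haveILetI false
set_option linter.unusedSectionVars false

namespace CfsgLib.Alperin

open Cfsg Cfsg.FusionSystem CfsgLib.FusionSub

variable {Ω : Type*} [Group Ω] {S T : Subgroup Ω}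
variable {F : FusionSystem S} {E : FusionSystem T} {Δ : Type*} [Group Δ]
variable {χ : F.autGroup T →* Δ}

/-- Composites of restrictions of maps on centric subgroups with `T`-centric meet with `T`, with
the product of their classes. -/
inductive GCl (E : FusionSystem T) (χ : F.autGroup T →* Δ) :
    ∀ P : Subgroup Ω, (P →* Ω) → Δ → Prop
  | base {P Q : Subgroup Ω} (hPQ : P ≤ Q) (hQ : F.IsCentric Q) (hg : TCentric F T (Q ⊓ T))
      {f : Q →* Ω} (hf : f ∈ F.Hom Q) {c : Δ}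
      (hc : ClT E χ (Q ⊓ T) (f.comp (Subgroup.inclusion inf_le_left)) c) :
      GCl E χ P (f.comp (Subgroup.inclusion hPQ)) c
  | comp {P Q : Subgroup Ω} {φ : P →* Ω} {ψ : Q →* Ω} {c d : Δ} (h₁ : GCl E χ P φ c)
      (h₂ : GCl E χ Q ψ d) (h : ∀ x : P, φ x ∈ Q) :
      GCl E χ P (ψ.comp (φ.codRestrict Q h)) (d * c)

theorem GCl.mem {P : Subgroup Ω} {φ : P →* Ω} {c : Δ} (h : GCl E χ P φ c) : φ ∈ F.Hom P := by
  induction h with
  | base hPQ _ _ hf _ => exact restrict_mem hf hPQ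
  | comp _ _ h ih₁ ih₂ => exact F.comp_mem ih₁ ih₂ h

theorem GCl.congr {P : Subgroup Ω} {φ ψ : P →* Ω} {c : Δ} (h : GCl E χ P φ c)
    (hx : ∀ x, ψ x = φ x) : GCl E χ P ψ c := by
  rwa [MonoidHom.ext hx]

theorem GCl.comp_apply {P Q : Subgroup Ω} {φ : P →* Ω} {ψ : Q →* Ω} {ρ : P →* Ω} {c d : Δ}
    (h₁ : GCl E χ P φ c) (h₂ : GCl E χ Q ψ d) (h : ∀ x : P, φ x ∈ Q)
    (hx : ∀ x, ρ x = ψ ⟨φ x, h x⟩) : GCl E χ P ρ (d * c) :=
  (GCl.comp h₁ h₂ h).congr hx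

variable [Finite S] {p : ℕ} [Fact p.Prime] (hs : ClassSetup F E χ p)
include hs

theorem tCentric_meet_top : TCentric F T (S ⊓ T) := by
  rw [inf_eq_right.mpr hs.closed.1]
  exact tCentric_top hs.closed

theorem GCl.incl {P : Subgroup Ω} (hP : P ≤ S) : GCl E χ P P.subtype 1 :=
  (GCl.base (f := S.subtype) hP (isCentric_top F) (tCentric_meet_top hs) (incl_mem F le_rfl)
    ((ClT.of_mem (incl_mem E inf_le_right)).congr fun _ => rfl)).congr fun _ => rfl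

theorem GCl.restrict {P Q : Subgroup Ω} {φ : P →* Ω} {ρ : Q →* Ω} {c : Δ} (h : GCl E χ P φ c)
    (hQ : Q ≤ P) (hx : ∀ x : Q, ρ x = φ ⟨x, hQ x.2⟩) : GCl E χ Q ρ c := by
  have h1 := (GCl.incl hs (hQ.trans (dom_le h.mem))).comp_apply h (fun x => hQ x.2) hx
  rwa [mul_one] at h1

theorem GCl.conj {P : Subgroup Ω} {t : Ω} (hP : P ≤ S) (ht : t ∈ T) : GCl E χ P (conjHom P t) 1 := by
  have htS : t ∈ S := hs.closed.1 ht
  refine (GCl.base (f := conjHom S t) hP (isCentric_top F) (tCentric_meet_top hs)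
    (F.conj_mem le_rfl htS) ?_).congr fun _ => rfl
  exact (ClT.of_mem (E.conj_mem inf_le_right ht)).congr fun _ => rfl

omit hs in
theorem range_inf_stronglyClosed (hT : F.StronglyClosed T) {Q : Subgroup Ω} {f : Q →* Ω}
    (hf : f ∈ F.Hom Q) : (f.comp (Subgroup.inclusion (inf_le_left : Q ⊓ T ≤ Q))).range =
      f.range ⊓ T := by
  obtain ⟨θ, hθ, -, hθx, -⟩ := exists_inverse hf rfl
  refine le_antisymm ?_ ?_
  · rintro _ ⟨x, rfl⟩
    exact ⟨⟨_, rfl⟩, stronglyClosed_apply hT hf _ x.2.2⟩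
  · rintro _ ⟨⟨x, rfl⟩, hxT⟩
    have h1 := stronglyClosed_apply hT hθ ⟨f x, ⟨x, rfl⟩⟩ hxT
    rw [hθx x ⟨x, rfl⟩] at h1
    exact ⟨⟨x, x.2, h1⟩, rfl⟩

omit hs in
theorem TCentric.range_inf (hT : F.StronglyClosed T) {Q : Subgroup Ω} (hQ : TCentric F T (Q ⊓ T))
    {f : Q →* Ω} (hf : f ∈ F.Hom Q) : TCentric F T (f.range ⊓ T) :=
  hQ.of_isConj hT ⟨_, restrict_mem hf inf_le_left, range_inf_stronglyClosed hT hf⟩

theorem GCl.exists_inv {P : Subgroup Ω} {φ : P →* Ω} {c : Δ} (h : GCl E χ P φ c) :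
    ∃ θ : φ.range →* Ω, GCl E χ φ.range θ c⁻¹ ∧ ∀ x : P, θ ⟨φ x, ⟨x, rfl⟩⟩ = x := by
  induction h with
  | @base P Q hPQ hQ hg f hf c hc =>
    obtain ⟨θ, hθ, -, hθx, -⟩ := exists_inverse hf rfl
    have hle : (f.comp (Subgroup.inclusion hPQ)).range ≤ f.range := by
      rintro _ ⟨x, rfl⟩
      exact ⟨_, rfl⟩
    refine ⟨_, GCl.base hle (CfsgLib.FusionExamples.isCentric_of_isConj hQ ⟨f, hf, rfl⟩)
      (hg.range_inf hs.closed hf) hθ ?_, fun x => hθx _ ⟨_, rfl⟩⟩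
    exact hc.inv hs.invCond (range_inf_stronglyClosed hs.closed hf) fun x _ => hθx _ ⟨_, rfl⟩
  | @comp P Q φ ψ c d h₁ h₂ h ih₁ ih₂ =>
    obtain ⟨θ₁, hθ₁, hx₁⟩ := ih₁
    obtain ⟨θ₂, hθ₂, hx₂⟩ := ih₂
    have hle : (ψ.comp (φ.codRestrict Q h)).range ≤ ψ.range := by
      rintro _ ⟨x, rfl⟩
      exact ⟨_, rfl⟩
    have hm : ∀ y : (ψ.comp (φ.codRestrict Q h)).range,
        (θ₂.comp (Subgroup.inclusion hle)) y ∈ φ.range := by
      rintro ⟨_, x, rfl⟩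
      exact ⟨x, (hx₂ (φ.codRestrict Q h x)).symm⟩
    refine ⟨θ₁.comp ((θ₂.comp (Subgroup.inclusion hle)).codRestrict _ hm), ?_, fun x => ?_⟩
    · rw [mul_inv_rev]
      exact GCl.comp (hθ₂.restrict hs hle fun _ => rfl) hθ₁ hm
    refine Eq.trans (congrArg θ₁ (Subtype.ext ?_)) (hx₁ x)
    exact hx₂ (φ.codRestrict Q h x)

theorem GCl.inv {P Q : Subgroup Ω} {φ : P →* Ω} {θ : Q →* Ω} {c : Δ} (h : GCl E χ P φ c)
    (hr : φ.range = Q) (hx : ∀ (x : P) (hx : φ x ∈ Q), θ ⟨φ x, hx⟩ = x) : GCl E χ Q θ c⁻¹ := by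
  subst hr
  obtain ⟨θ', hθ', hx'⟩ := h.exists_inv hs
  refine hθ'.congr ?_
  rintro ⟨_, x, rfl⟩
  rw [hx x ⟨x, rfl⟩, hx' x]

/-- On subgroups with `T`-centric meet the class is that of the restriction to `T`. -/
theorem GCl.clT {P : Subgroup Ω} {φ : P →* Ω} {c : Δ} (h : GCl E χ P φ c) :
    ∀ {P' : Subgroup Ω} (hP' : P' ≤ P), TCentric F T (P' ⊓ T) →
      ClT E χ (P' ⊓ T) (φ.comp (Subgroup.inclusion (inf_le_left.trans hP'))) c := by
  induction h with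
  | base hPQ hQ hg hf hc =>
    intro P' hP' _
    exact hc.restrict (inf_le_inf_right T (hP'.trans hPQ)) fun _ => rfl
  | @comp P Q φ ψ c d h₁ h₂ h ih₁ ih₂ =>
    intro P' hP' hT
    set φ' := φ.comp (Subgroup.inclusion hP')
    have hφ' : φ' ∈ F.Hom P' := restrict_mem h₁.mem hP'
    have hle : φ'.range ≤ Q := by
      rintro _ ⟨x, rfl⟩
      exact h _
    have h2 := ih₂ hle (hT.range_inf hs.closed hφ')
    exact (ih₁ hP' hT).comp hs.invCond h2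
      (fun x => ⟨⟨Subgroup.inclusion inf_le_left x, rfl⟩,
        stronglyClosed_apply hs.closed h₁.mem _ x.2.2⟩) fun _ => rfl

theorem GCl.unique_of_meet {P : Subgroup Ω} (hP : TCentric F T (P ⊓ T)) {φ : P →* Ω} {c d : Δ}
    (h₁ : GCl E χ P φ c) (h₂ : GCl E χ P φ d) : c = d :=
  clT_unique hs hP (h₁.clT hs le_rfl hP) (h₂.clT hs le_rfl hP)

omit hs in
/-- The elements of `N_S(P)` inducing elements of `O_p(Aut_F(P))`. -/
def coreHat (F : FusionSystem S) (p : ℕ) (P : Subgroup Ω) : Subgroup Ω :=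
  ((((pCore p (F.autGroup P)).map (F.autGroup P).subtype).comap P.normalizerMonoidHom).map
    (Subgroup.normalizer (P : Set Ω)).subtype) ⊓ S

omit hs in
theorem mem_coreHat {P : Subgroup Ω} {g : Ω} :
    g ∈ coreHat F p P ↔ ∃ (_ : g ∈ S) (hN : g ∈ Subgroup.normalizer (P : Set Ω)),
      conjAut P g hN ∈ (pCore p (F.autGroup P)).map (F.autGroup P).subtype := by
  constructor
  · rintro ⟨⟨⟨g, hN⟩, hg, rfl⟩, hgS⟩
    exact ⟨hgS, hN, hg⟩
  · rintro ⟨hgS, hN, hg⟩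
    exact ⟨⟨⟨g, hN⟩, hg, rfl⟩, hgS⟩

omit hs in
theorem coreHat_le_normalizerIn {P : Subgroup Ω} : coreHat F p P ≤ normalizerIn S P := fun _ hg =>
  let ⟨hgS, hN, _⟩ := mem_coreHat.mp hg
  ⟨hgS, hN⟩

omit hs in
theorem le_coreHat (hS : IsPGroup p S) {P : Subgroup Ω} (hP : P ≤ S) : P ≤ coreHat F p P := by
  intro g hg
  refine mem_coreHat.mpr ⟨hP hg, Subgroup.le_normalizer hg, ?_⟩
  haveI : ((Inn P).subgroupOf (F.autGroup P)).Normal := by
    refine ⟨fun n hn a => ?_⟩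
    obtain ⟨q, hq⟩ := hn
    refine ⟨(a : MulAut P) q, MulEquiv.ext fun x => ?_⟩
    show (a : MulAut P) q * x * ((a : MulAut P) q)⁻¹ =
      (a : MulAut P) ((n : MulAut P) ((a : MulAut P)⁻¹ x))
    rw [show (n : MulAut P) ((a : MulAut P)⁻¹ x) = q * ((a : MulAut P)⁻¹ x) * q⁻¹ from
      (DFunLike.congr_fun hq _).symm]
    simp
  have hp : IsPGroup p ((Inn P).subgroupOf (F.autGroup P)) := by
    refine IsPGroup.comap_of_injective ?_ _ (F.autGroup P).subtype_injective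
    exact (isPGroup_of_le hS hP).of_surjective (MulAut.conj : P →* MulAut P).rangeRestrict
      (MonoidHom.rangeRestrict_surjective _)
  have hmem : conjAut P g (Subgroup.le_normalizer hg) ∈ F.autGroup P :=
    autInducedBy_le_autGroup F hP (conjAut_mem (hP hg) _)
  exact ⟨⟨_, hmem⟩, CfsgLib.Cores.le_pCore hp ⟨⟨g, hg⟩, MulEquiv.ext fun x => rfl⟩, rfl⟩

/-- At a fully normalized centric subgroup without `T`-centric meet, some element outside induces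
an element of `O_p`. -/
theorem lt_coreHat {P : Subgroup Ω} (hP : F.IsFullyNormalized P) (hPc : F.IsCentric P)
    (hbad : ¬ TCentric F T (P ⊓ T)) : P < coreHat F p P := by
  refine lt_of_le_of_ne (le_coreHat hs.pgroup hP.1) fun heq => ?_
  obtain ⟨φ, hφ, x, hx, hxP, α, hα, hαx⟩ := exists_conj_pCore_induced hs.pgroup hs.saturated
    hs.closed hs.sub hP.1 fun h => hbad (tCentric_of_isCentric hs.decomp h)
  refine not_isRadical_of_pCore_induced hPc hφ hx hxP hα hαx ⟨hP.1, le_antisymm ?_ ?_⟩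
  · intro β hβ
    obtain ⟨b, hb, rfl⟩ := hβ
    haveI := finite_autGroup F hP.1
    obtain ⟨-, R, hR⟩ := (centralized_automized_of_fullyNormalized hs.pgroup hs.saturated hP).2
    have h1 : b ∈ (autInducedBy S P).subgroupOf (F.autGroup P) :=
      hR.le (CfsgLib.Cores.pCore_le_sylow R hb)
    obtain ⟨g, hgS, hg⟩ := mem_autInducedBy_iff.mp h1
    have hgP : g ∈ P := by
      rw [heq]
      refine mem_coreHat.mpr ⟨hgS, normalizer_of_induced hg, b, hb, MulEquiv.ext fun y => ?_⟩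
      exact Subtype.ext (hg y)
    exact ⟨⟨g, hgP⟩, MulEquiv.ext fun y => Subtype.ext (hg y).symm⟩
  · rintro _ ⟨q, rfl⟩
    obtain ⟨_, _, h⟩ := mem_coreHat.mp (le_coreHat (F := F) hs.pgroup hP.1 q.2)
    rw [show MulAut.conj q = conjAut P (q : Ω) (Subgroup.le_normalizer q.2) from
      MulEquiv.ext fun x => Subtype.ext rfl]
    exact h

theorem coreHat_le_extender {P : Subgroup Ω} (hP : F.IsFullyNormalized P) {α : MulAut P}
    (hα : α ∈ F.autGroup P) : coreHat F p P ≤ extender S P (P.subtype.comp α.toMonoidHom) := by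
  intro g hg
  obtain ⟨hgS, hN, b, hb, hbg⟩ := mem_coreHat.mp hg
  haveI := finite_autGroup F hP.1
  obtain ⟨-, R, hR⟩ := (centralized_automized_of_fullyNormalized hs.pgroup hs.saturated hP).2
  have h1 : (⟨α, hα⟩ : F.autGroup P) * b * (⟨α, hα⟩ : F.autGroup P)⁻¹ ∈
      (autInducedBy S P).subgroupOf (F.autGroup P) :=
    hR.le (CfsgLib.Cores.pCore_le_sylow R ((inferInstance :
      (pCore p (F.autGroup P)).Normal).conj_mem b hb _))
  obtain ⟨h, hh, hhx⟩ := mem_autInducedBy_iff.mp h1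
  refine mem_extender_iff.mpr ⟨hgS, hN, h, hh, fun y hy => ?_⟩
  refine Eq.trans ?_ (hhx (α y))
  have hb' : (b : MulAut P) y = ⟨g * y * g⁻¹, hy⟩ :=
    Subtype.ext (congrArg (fun (β : MulAut P) => ((β y : P) : Ω)) hbg)
  show ((α ⟨g * y * g⁻¹, hy⟩ : P) : Ω) = ((α ((b : MulAut P) (α⁻¹ (α y))) : P) : Ω)
  rw [MulAut.inv_apply_self, hb']

/-- Extensions of automorphisms of `P` preserve `coreHat`. -/
theorem apply_mem_coreHat {P R : Subgroup Ω} (hPR : P ≤ R) {α : MulAut P} (hα : α ∈ F.autGroup P)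
    {γ : R →* Ω} (hγ : γ ∈ F.Hom R) (hγx : ∀ (x : P), γ ⟨x, hPR x.2⟩ = ((α x : P) : Ω))
    {g : Ω} (hg : g ∈ coreHat F p P) (hgR : g ∈ R) : γ ⟨g, hgR⟩ ∈ coreHat F p P := by
  obtain ⟨hgS, hN, b, hb, hbg⟩ := mem_coreHat.mp hg
  have h1 : ∀ y : P, (((α * (b : MulAut P) * α⁻¹ : MulAut P) y : P) : Ω) =
      γ ⟨g, hgR⟩ * (y : Ω) * (γ ⟨g, hgR⟩)⁻¹ := by
    intro y
    obtain ⟨y, rfl⟩ := α.surjective y
    show ((α ((b : MulAut P) (α⁻¹ (α y))) : P) : Ω) = _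
    rw [MulAut.inv_apply_self, ← hγx y, ← hγx, ← map_inv, ← map_mul, ← map_mul]
    exact congrArg γ (Subtype.ext (congrArg (fun (β : MulAut P) => ((β y : P) : Ω)) hbg))
  refine mem_coreHat.mpr ⟨apply_mem hγ _, normalizer_of_induced h1,
    (⟨α, hα⟩ : F.autGroup P) * b * (⟨α, hα⟩ : F.autGroup P)⁻¹,
    (inferInstance : (pCore p (F.autGroup P)).Normal).conj_mem b hb _,
    MulEquiv.ext fun y => Subtype.ext (h1 y)⟩

theorem exists_gcl {P : Subgroup Ω} {φ : P →* Ω} (hφ : φ ∈ F.Hom P) : ∃ c, GCl E χ P φ c := by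
  refine closed_induction_centric hs.pgroup hs.saturated (Good := fun P φ => ∃ c, GCl E χ P φ c)
    ⟨fun {P Q φ} hQ _ ⟨c, h⟩ => ⟨c, h.restrict hs hQ fun _ => rfl⟩,
      fun {P Q φ ψ} _ _ h ⟨c, h₁⟩ ⟨d, h₂⟩ => ⟨d * c, GCl.comp h₁ h₂ h⟩,
      fun {P Q φ ψ} _ _ hr hx ⟨c, h⟩ => ⟨c⁻¹, h.inv hs hr hx⟩⟩ ?_ hφ
  intro Q hQn hQc hbig α hα
  have hα' := (mem_autGroup_iff F hQn.1).mp hα
  by_cases hg : TCentric F T (Q ⊓ T)
  · obtain ⟨c, hc⟩ := exists_clT hs inf_le_right (restrict_mem hα' inf_le_left)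
    exact ⟨c, (GCl.base le_rfl hQc hg hα' hc).congr fun _ => rfl⟩
  obtain ⟨γ, hγ, hγx⟩ := (receptive_of_fullyNormalized hs.pgroup hs.saturated hQn).2 Q _ hα'
    (range_subtype_comp_aut α)
  have hlt := lt_of_lt_of_le (lt_coreHat hs hQn hQc hg) (coreHat_le_extender hs hQn hα)
  obtain ⟨c, hc⟩ := hbig _ γ hγ (card_lt_card (extender_le Q _) hlt)
  exact ⟨c, hc.restrict hs hlt.le fun x => (hγx x x.2 _).symm⟩

/-- A `p`-automorphism has trivial class where the class is unique. -/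
theorem eq_one_of_pElement {R : Subgroup Ω} (hu : ∀ e : Δ, GCl E χ R R.subtype e → e = 1)
    {θ : MulAut R} {k : ℕ} (hk : θ ^ p ^ k = 1) {c : Δ}
    (hc : GCl E χ R (R.subtype.comp θ.toMonoidHom) c) : c = 1 := by
  have hRS : R ≤ S := dom_le hc.mem
  have hpow : ∀ j : ℕ, GCl E χ R (R.subtype.comp (θ ^ j : MulAut R).toMonoidHom) (c ^ j) := by
    intro j
    induction j with
    | zero =>
      rw [pow_zero, pow_zero]
      exact (GCl.incl hs hRS).congr fun _ => rfl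
    | succ j ihj =>
      rw [pow_succ, pow_succ]
      exact hc.comp_apply ihj (fun x => (θ x).2) fun x => rfl
  refine eq_one_of_pow_prime_pow hs.coprime (k := k) (hu _ ((hpow (p ^ k)).congr fun x => ?_))
  rw [hk]
  rfl

omit hs in
/-- The transported map extends to `coreHat` with the transported class. -/
def Transports (E : FusionSystem T) (χ : F.autGroup T →* Δ) (p : ℕ) (P A : Subgroup Ω)
    (φ : A →* Ω) (c : Δ) : Prop :=
  ∀ (B : Subgroup Ω), φ.range = B → ∀ (ψA : normalizerIn S A →* Ω) (dA : Δ)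
    (ψB : normalizerIn S B →* Ω) (dB : Δ),
    GCl E χ (normalizerIn S A) ψA dA → GCl E χ (normalizerIn S B) ψB dB →
    (A.subgroupOf (normalizerIn S A)).map ψA = P →
    (B.subgroupOf (normalizerIn S B)).map ψB = P →
    ∃ δ : coreHat F p P →* Ω, GCl E χ (coreHat F p P) δ (dB * c * dA⁻¹) ∧
      (∀ z, δ z ∈ coreHat F p P) ∧
      ∀ (x : A) (h₁ : (x : Ω) ∈ normalizerIn S A) (h₂ : ψA ⟨x, h₁⟩ ∈ coreHat F p P)
        (h₃ : φ x ∈ normalizerIn S B), δ ⟨ψA ⟨x, h₁⟩, h₂⟩ = ψB ⟨φ x, h₃⟩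

/-- Uniqueness at all larger centric subgroups. -/
def UniqueAbove (E : FusionSystem T) (χ : F.autGroup T →* Δ) (n : ℕ) : Prop :=
  ∀ X : Subgroup Ω, F.IsCentric X → n < Nat.card X → ∀ e : Δ, GCl E χ X X.subtype e → e = 1

theorem transports_base {P : Subgroup Ω} (hP : F.IsFullyNormalized P) (hPc : F.IsCentric P)
    (hu : UniqueAbove E χ (Nat.card P)) (hbad : ¬ TCentric F T (P ⊓ T)) {A Q : Subgroup Ω}
    (hAP : F.IsConj A P) (hAQ : A ≤ Q) (hQ : TCentric F T (Q ⊓ T)) {f : Q →* Ω} {c : Δ}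
    (hf : GCl E χ Q f c) : Transports E χ p P A (f.comp (Subgroup.inclusion hAQ)) c := by
  intro B hB ψA dA ψB dB hψA hψB hrA hrB
  have hQS : Q ≤ S := dom_le hf.mem
  have hAlt : A < Q := by
    refine lt_of_le_of_ne hAQ fun h => hbad ?_
    obtain ⟨η, hη, rfl⟩ := hAP
    subst h
    exact hQ.range_inf hs.closed hη
  obtain ⟨g, hgQ, hgN, hgA⟩ :=
    CfsgLib.FusionSub.exists_mem_normalizer_not_mem hs.pgroup hAlt hQS
  set A1 := Q ⊓ Subgroup.normalizer (A : Set Ω) with hA1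
  have hAA1 : A ≤ A1 := le_inf hAQ Subgroup.le_normalizer
  have hA1N : A1 ≤ normalizerIn S A := inf_le_inf_right _ hQS
  have hmapA : (A.subgroupOf Q).map f = B := by rw [← hB, range_comp_inclusion]
  have hfN : ∀ x : A1, f (Subgroup.inclusion inf_le_left x) ∈ normalizerIn S B := fun x =>
    apply_mem_normalizerIn hf.mem hAQ hmapA _ x.2.2
  set ψA1 := ψA.comp (Subgroup.inclusion hA1N) with hψA1
  set γ0 := ψB.comp ((f.comp (Subgroup.inclusion (inf_le_left : A1 ≤ Q))).codRestrict _ hfN) with hγ0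
  have hγ0c : GCl E χ A1 γ0 (dB * c) :=
    GCl.comp (hf.restrict hs (inf_le_left : A1 ≤ Q) fun _ => rfl) hψB hfN
  have hψA1c : GCl E χ A1 ψA1 dA := hψA.restrict hs hA1N fun _ => rfl
  set X := ψA1.range with hX
  obtain ⟨θ1, hθ1, hθ1r, hθ1x, -⟩ := exists_inverse hψA1c.mem hX.symm
  set γ' := γ0.comp (θ1.codRestrict A1 fun z => hθ1r.le ⟨z, rfl⟩) with hγ'
  have hγ'c : GCl E χ X γ' (dB * c * dA⁻¹) :=
    GCl.comp (hψA1c.inv hs rfl hθ1x) hγ0c fun z => hθ1r.le ⟨z, rfl⟩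
  have hγ'x : ∀ (x : Ω) (hx : x ∈ A1), γ' ⟨ψA1 ⟨x, hx⟩, ⟨_, rfl⟩⟩ = γ0 ⟨x, hx⟩ := fun x hx =>
    congrArg γ0 (Subtype.ext (hθ1x ⟨x, hx⟩ _))
  have hPX : P ≤ X := by
    rw [← hrA]
    rintro _ ⟨⟨x, hxN⟩, hx, rfl⟩
    exact ⟨⟨x, hAA1 hx⟩, rfl⟩
  have hXN : X ≤ normalizerIn S P := by
    rintro _ ⟨x, rfl⟩
    exact apply_mem_normalizerIn hψA.mem (le_normalizerIn (IsConj.left_le hAP)) hrA _ (hA1N x.2).2
  have hγ'N : ∀ z, γ' z ∈ normalizerIn S P := by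
    rintro ⟨_, ⟨x, hx⟩, rfl⟩
    rw [hγ'x x hx]
    refine apply_mem_normalizerIn hψB.mem (le_normalizerIn ?_) hrB _ (hfN ⟨x, hx⟩).2
    rw [← hB]
    exact range_le (restrict_mem hf.mem hAQ)
  have hPltX : P < X := by
    refine lt_of_le_of_ne hPX fun h => hgA ?_
    have h1 : ψA1 ⟨g, hgQ, hgN⟩ ∈ P := h.ge ⟨_, rfl⟩
    rw [← hrA] at h1
    obtain ⟨w, hw, he⟩ := h1
    have := congrArg Subtype.val (F.injective_of_mem hψA.mem he)
    exact (show (w : Ω) = g from this) ▸ hw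
  have hγ'P : ∀ (y : Ω) (hy : y ∈ P), γ' ⟨y, hPX hy⟩ ∈ P := by
    intro y hy
    have hy' := hy
    rw [← hrA] at hy'
    obtain ⟨⟨x, hxN⟩, hx, rfl⟩ := hy'
    rw [show (⟨ψA ⟨x, hxN⟩, hPX hy⟩ : X) = ⟨ψA1 ⟨x, hAA1 hx⟩, ⟨_, rfl⟩⟩ from rfl, hγ'x x (hAA1 hx)]
    refine hrB.le ⟨_, ?_, rfl⟩
    exact hmapA.le ⟨⟨x, hAQ hx⟩, hx, rfl⟩
  set φ' := γ'.comp (Subgroup.inclusion hPX) with hφ'
  haveI := finite_of_le hP.1
  obtain ⟨α, hα, hαx⟩ := exists_aut_of_hom' F (restrict_mem hγ'c.mem hPX : φ' ∈ F.Hom P)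
    fun x => hγ'P x x.2
  obtain ⟨γ, hγ, hγx⟩ := (receptive_of_fullyNormalized hs.pgroup hs.saturated hP).2 P _
    ((mem_autGroup_iff F hP.1).mp hα) (range_subtype_comp_aut α)
  have hHle := coreHat_le_extender hs hP hα
  have hPH : P < coreHat F p P := lt_coreHat hs hP hPc hbad
  have hXext : X ≤ extender S P (P.subtype.comp α.toMonoidHom) := fun z hz => by
    refine mem_extender_iff.mpr ⟨(hXN hz).1, (hXN hz).2, γ' ⟨z, hz⟩, (hγ'N _).1, fun x hx => ?_⟩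
    show ((α ⟨z * x * z⁻¹, hx⟩ : P) : Ω) = γ' ⟨z, hz⟩ * ((α x : P) : Ω) * (γ' ⟨z, hz⟩)⁻¹
    rw [hαx, hαx]
    show γ' ⟨z * x * z⁻¹, hPX hx⟩ = γ' ⟨z, hz⟩ * γ' ⟨x, hPX x.2⟩ * (γ' ⟨z, hz⟩)⁻¹
    rw [← map_inv, ← map_mul, ← map_mul]
    rfl
  have hPR := le_extender ((mem_autGroup_iff F hP.1).mp hα)
  have hγP : ∀ x : P, γ ⟨x, hPR x.2⟩ = ((α x : P) : Ω) := fun x => hγx x x.2 _
  obtain ⟨e, he⟩ := exists_gcl hs hγ
  have heq : dB * c * dA⁻¹ = e := by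
    set γX := γ.comp (Subgroup.inclusion hXext) with hγX
    have hγXc : GCl E χ X γX e := he.restrict hs hXext fun _ => rfl
    set X2 := γX.range with hX2
    obtain ⟨θ2, hθ2, hθ2r, hθ2x, -⟩ := exists_inverse hγXc.mem hX2.symm
    have hPX2 : P ≤ X2 := fun y hy => by
      obtain ⟨x, hx⟩ := α.surjective ⟨y, hy⟩
      exact ⟨⟨x, hPX x.2⟩, (hγP x).trans (congrArg Subtype.val hx)⟩
    have hdiff : ∀ z : X, (γ' z)⁻¹ * γX z ∈ centralizerIn S P := by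
      intro z
      refine ⟨S.mul_mem (S.inv_mem (apply_mem hγ'c.mem _)) (apply_mem hγXc.mem _), fun y hy => ?_⟩
      obtain ⟨x, hx⟩ := α.surjective ⟨y, hy⟩
      have hxz : (z : Ω) * x * (z : Ω)⁻¹ ∈ P := mem_normalizer_conj (hXN z.2).2 x.2
      have hy1 : y = γ' ⟨x, hPX x.2⟩ := by
        rw [← show ((α x : P) : Ω) = y from congrArg Subtype.val hx, hαx]
        rfl
      have hy2 : γX ⟨x, hPX x.2⟩ = γ' ⟨x, hPX x.2⟩ := (hγP x).trans (hαx x)
      have e1 : γ' z * y * (γ' z)⁻¹ = γX z * y * (γX z)⁻¹ := by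
        conv_lhs => rw [hy1]
        conv_rhs => rw [hy1, ← hy2]
        rw [← map_inv, ← map_mul, ← map_mul, ← map_inv, ← map_mul, ← map_mul]
        exact (hαx ⟨_, hxz⟩).symm.trans (hγP ⟨_, hxz⟩).symm
      calc y * ((γ' z)⁻¹ * γX z) = (γ' z)⁻¹ * (γ' z * y * (γ' z)⁻¹) * γX z := by group
        _ = (γ' z)⁻¹ * γX z * y := by rw [e1]; group
    have hCP : centralizerIn S P ≤ P := hPc.2 P (isConj_refl F hP.1)
    have hm : ∀ z : X, γ' z ∈ X2 := fun z => by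
      have h1 : (γX z) * ((γ' z)⁻¹ * γX z)⁻¹ ∈ X2 :=
        X2.mul_mem ⟨z, rfl⟩ (X2.inv_mem (hPX2 (hCP (hdiff z))))
      simpa using h1
    set β := γ'.comp (θ2.codRestrict X fun w => hθ2r.le ⟨w, rfl⟩) with hβ
    have hβc : GCl E χ X2 β (dB * c * dA⁻¹ * e⁻¹) :=
      GCl.comp (hγXc.inv hs rfl hθ2x) hγ'c fun w => hθ2r.le ⟨w, rfl⟩
    have hX2S : X2 ≤ S := range_le hγXc.mem
    haveI := finite_of_le hX2S
    obtain ⟨b, hb, hbx⟩ := exists_aut_of_hom' F hβc.mem fun w => hm _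
    have hfix : ∀ w : X2, (w : Ω) ∈ P → b w = w := by
      intro w hw
      obtain ⟨x, hx⟩ := α.surjective ⟨w, hw⟩
      refine Subtype.ext ((hbx w).trans ?_)
      have hwx : w = ⟨γX ⟨x, hPX x.2⟩, ⟨_, rfl⟩⟩ :=
        Subtype.ext ((congrArg Subtype.val hx).symm.trans (hγP x).symm)
      rw [hwx]
      show γ' ⟨θ2 ⟨γX ⟨x, hPX x.2⟩, _⟩, _⟩ = γX ⟨x, hPX x.2⟩
      refine (congrArg γ' (Subtype.ext (hθ2x _ ⟨_, rfl⟩))).trans ?_
      exact (hαx x).symm.trans (hγP x).symm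
    have hX2N : X2 ≤ Subgroup.normalizer (P : Set Ω) := by
      rintro _ ⟨z, rfl⟩
      refine (apply_mem_normalizerIn hγ hPR ?_ _ (hXN z.2).2).2
      exact (map_subgroupOf_of_extends hPR fun x hx hxR => hγx x hx hxR).trans
        (range_subtype_comp_aut α)
    obtain ⟨k, hk⟩ := exists_pow_eq_one_of_fix (p := p) hs.pgroup hX2S hPX2 hX2N
      (fun y hy => hCP ⟨hX2S hy.1, hy.2⟩) b hfix
    have hcard : Nat.card P < Nat.card X2 := by
      rw [hX2, card_range_eq (F.injective_of_mem hγXc.mem)]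
      exact card_lt_card (hXN.trans (normalizerIn_le S P)) hPltX
    have h1 := eq_one_of_pElement hs
      (fun e' h' => hu X2 (CfsgLib.FusionExamples.isCentric_of_ge hPc hPX2 hX2S) hcard e' h') hk
      (hβc.congr fun w => hbx w)
    exact mul_inv_eq_one.mp h1
  refine ⟨γ.comp (Subgroup.inclusion hHle), ?_, fun z => ?_, fun x h₁ h₂ h₃ => ?_⟩
  · rw [heq]
    exact he.restrict hs hHle fun _ => rfl
  · exact apply_mem_coreHat hs hPR hα hγ hγP z.2 (hHle z.2)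
  · have hP' : ψA ⟨x, h₁⟩ ∈ P := hrA.le ⟨_, x.2, rfl⟩
    refine (hγP ⟨_, hP'⟩).trans ((hαx _).trans ?_)
    exact hγ'x x (hAA1 x.2)

theorem Transports.trans {P A : Subgroup Ω} (hP : F.IsFullyNormalized P) {φ : A →* Ω}
    {B : Subgroup Ω} {ψ : B →* Ω} {ρ : A →* Ω} {c d : Δ} (hr : φ.range = B)
    (hBP : F.IsConj B P) (hρ : ∀ x (hx : φ x ∈ B), ρ x = ψ ⟨φ x, hx⟩)
    (h₁ : Transports E χ p P A φ c) (h₂ : Transports E χ p P B ψ d) :
    Transports E χ p P A ρ (d * c) := by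
  intro C hC ψA dA ψC dC hψA hψC hrA hrC
  subst hr
  obtain ⟨ψB, hψB, -, hψBP⟩ :=
    exists_hom_normalizerIn_of_fullyNormalized hs.pgroup hs.saturated hP hBP
  obtain ⟨dB, hdB⟩ := exists_gcl hs hψB
  have hr' : ψ.range = C := by
    rw [← hC]
    ext z
    constructor
    · rintro ⟨⟨_, x, rfl⟩, rfl⟩
      exact ⟨x, hρ x _⟩
    · rintro ⟨x, rfl⟩
      exact ⟨_, (hρ x ⟨x, rfl⟩).symm⟩
  obtain ⟨δ₁, hδ₁, hm₁, hx₁⟩ := h₁ φ.range rfl ψA dA ψB dB hψA hdB hrA hψBP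
  obtain ⟨δ₂, hδ₂, hm₂, hx₂⟩ := h₂ C hr' ψB dB ψC dC hdB hψC hψBP hrC
  refine ⟨δ₂.comp (δ₁.codRestrict _ hm₁), ?_, fun z => hm₂ _, fun x h₁' h₂' h₃ => ?_⟩
  · have h := GCl.comp hδ₁ hδ₂ hm₁
    convert h using 1
    group
  · have lB : φ.range ≤ normalizerIn S φ.range := le_normalizerIn (IsConj.left_le hBP)
    have hin : ψB ⟨φ x, lB ⟨x, rfl⟩⟩ ∈ coreHat F p P :=
      le_coreHat hs.pgroup hP.1 (hψBP.le ⟨_, ⟨x, rfl⟩, rfl⟩)
    have hψm : ψ ⟨φ x, ⟨x, rfl⟩⟩ ∈ normalizerIn S C := by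
      rw [← hρ x ⟨x, rfl⟩]
      exact h₃
    have h2 := hx₂ ⟨φ x, ⟨x, rfl⟩⟩ (lB ⟨x, rfl⟩) hin hψm
    refine Eq.trans (congrArg δ₂ (Subtype.ext ?_)) (h2.trans ?_)
    · exact hx₁ x h₁' h₂' (lB ⟨x, rfl⟩)
    · exact congrArg ψC (Subtype.ext (hρ x ⟨x, rfl⟩).symm)

theorem transports_of_gcl {P : Subgroup Ω} (hP : F.IsFullyNormalized P) (hPc : F.IsCentric P)
    (hu : UniqueAbove E χ (Nat.card P)) (hbad : ¬ TCentric F T (P ⊓ T)) {A : Subgroup Ω}
    {φ : A →* Ω} {c : Δ} (h : GCl E χ A φ c) : ∀ {A' : Subgroup Ω} (hA' : A' ≤ A),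
      F.IsConj A' P → Transports E χ p P A' (φ.comp (Subgroup.inclusion hA')) c := by
  induction h with
  | @base A Q hAQ hQ hg f hf c hc =>
    intro A' hA' hA
    have e : (f.comp (Subgroup.inclusion hAQ)).comp (Subgroup.inclusion hA') =
        f.comp (Subgroup.inclusion (hA'.trans hAQ)) := MonoidHom.ext fun _ => rfl
    rw [e]
    exact transports_base hs hP hPc hu hbad hA (hA'.trans hAQ) hg
      ((GCl.base le_rfl hQ hg hf hc).congr fun _ => rfl)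
  | @comp A B φ ψ c d h₁ h₂ h ih₁ ih₂ =>
    intro A' hA' hA
    set φ₀ := φ.comp (Subgroup.inclusion hA') with hφ₀
    have hφ₀F : φ₀ ∈ F.Hom A' := restrict_mem h₁.mem hA'
    have hle : φ₀.range ≤ B := by
      rintro _ ⟨x, rfl⟩
      exact h _
    have hB : F.IsConj φ₀.range P := IsConj.trans (IsConj.symm ⟨φ₀, hφ₀F, rfl⟩) hA
    exact Transports.trans hs hP rfl hB (fun _ _ => rfl) (ih₁ hA' hA) (ih₂ hle hB)

theorem gcl_unique_incl : ∀ {P : Subgroup Ω}, F.IsCentric P → ∀ {c : Δ},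
    GCl E χ P P.subtype c → c = 1 := by
  suffices H : ∀ (n : ℕ) {P : Subgroup Ω}, Nat.card S - Nat.card P = n → F.IsCentric P →
      ∀ {c : Δ}, GCl E χ P P.subtype c → c = 1 from fun {P} hP {c} hc => H _ rfl hP hc
  intro n
  induction n using Nat.strong_induction_on with
  | _ n ih =>
  intro P hn hPc c hc
  by_cases hgood : TCentric F T (P ⊓ T)
  · exact GCl.unique_of_meet hs hgood hc (GCl.incl hs hPc.1)
  obtain ⟨P', ⟨η, hη, rfl⟩, hP'⟩ := exists_isFullyNormalized F hPc.1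
  obtain ⟨e, he⟩ := exists_gcl hs hη
  obtain ⟨θ, hθ, hθr, hθx, hθy⟩ := exists_inverse hη rfl
  have hc1 : GCl E χ η.range θ (c * e⁻¹) :=
    (he.inv hs rfl hθx).comp_apply hc (fun z => hθr.le ⟨z, rfl⟩) fun _ => rfl
  have hc2 : GCl E χ η.range η.range.subtype (e * (c * e⁻¹)) :=
    hc1.comp_apply he (fun z => hθr.le ⟨z, rfl⟩) fun z => (hθy z _).symm
  have hcard : Nat.card η.range = Nat.card P := card_range_eq (F.injective_of_mem hη)
  suffices h1 : e * (c * e⁻¹) = 1 by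
    rwa [← mul_assoc, conj_eq_one_iff] at h1
  have hP'c := CfsgLib.FusionExamples.isCentric_of_isConj hPc ⟨η, hη, rfl⟩
  have hbad : ¬ TCentric F T (η.range ⊓ T) := by
    intro h
    have h1 := h.range_inf hs.closed hθ
    rw [hθr] at h1
    exact hgood h1
  set P' := η.range
  have hu : UniqueAbove E χ (Nat.card P') := fun X hX hlt e' he' => by
    have := Subgroup.card_le_of_le (K := S) hX.1
    exact ih _ (by omega) rfl hX he'
  have hPN : P' ≤ normalizerIn S P' := le_normalizerIn hP'.1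
  have hmap : (P'.subgroupOf (normalizerIn S P')).map (normalizerIn S P').subtype = P' :=
    Subgroup.map_subgroupOf_eq_of_le hPN
  have htr := transports_of_gcl hs hP' hP'c hu hbad hc2 le_rfl (isConj_refl F hP'.1)
  have hi : P'.subtype.comp (Subgroup.inclusion (le_refl P')) = P'.subtype :=
    MonoidHom.ext fun _ => rfl
  rw [hi] at htr
  obtain ⟨δ, hδ, hδm, hδx⟩ := htr P' P'.range_subtype (normalizerIn S P').subtype 1
    (normalizerIn S P').subtype 1 (GCl.incl hs (normalizerIn_le S P'))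
    (GCl.incl hs (normalizerIn_le S P')) hmap hmap
  rw [inv_one, mul_one, one_mul] at hδ
  have hHS : coreHat F p P' ≤ S := inf_le_right
  haveI := finite_of_le hHS
  obtain ⟨b, hb, hbx⟩ := exists_aut_of_hom' F hδ.mem hδm
  have hPH := lt_coreHat hs hP' hP'c hbad
  obtain ⟨k, hk⟩ := exists_pow_eq_one_of_fix (p := p) hs.pgroup hHS hPH.le
    (fun g hg => (coreHat_le_normalizerIn hg).2)
    (fun y hy => hP'c.2 P' (isConj_refl F hP'.1) ⟨hHS hy.1, hy.2⟩) b fun x hx => by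
      refine Subtype.ext ((hbx x).trans ?_)
      exact hδx ⟨x, hx⟩ (hPN hx) x.2 (hPN hx)
  exact eq_one_of_pElement hs
    (fun e' h' => hu _ (CfsgLib.FusionExamples.isCentric_of_ge hP'c hPH.le hHS)
      (card_lt_card hHS hPH) e' h') hk (hδ.congr fun x => hbx x)

end CfsgLib.Alperin
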