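import Cfsg.Agent.Lib.Alperin.Invariant
import Cfsg.Agent.Lib.FusionSub.Induction
import Cfsg.Agent.Lib.FusionExamples.CentricExtension
import Cfsg.Agent.Lib.FusionBasics.KSaturated
import Cfsg.Agent.Lib.FusionBasics.Extension

/-!
Saturated subsystems of index prime to `p`: every map has a class in `Aut_F(S)` modulo the
automorphisms generated on centric subgroups by `p`-elements, the classes of maps fixing a fully
normalized subgroup come from `N_S(P)`, and each quotient of the class group gives a saturated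
subsystem. In particular the `p'`-residual subsystem exists.
-/

set_option autoImplicit false
set_option linter.style.haveILetI false
set_option linter.unusedSectionVars false

namespace CfsgLib.Alperin

open Cfsg Cfsg.FusionSystem CfsgLib.FusionSub CfsgLib.FusionBasics

variable {Ω : Type*} [Group Ω] {S : Subgroup Ω}

/-- Composites of restrictions of `p`-automorphisms of centric subgroups. -/
inductive Gen (F : FusionSystem S) (p : ℕ) : ∀ P : Subgroup Ω, (P →* Ω) → Prop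
  | base {P Q : Subgroup Ω} (hPQ : P ≤ Q) (hQ : F.IsCentric Q) (β : MulAut Q)
      (hβ : β ∈ F.autGroup Q) (k : ℕ) (hk : β ^ p ^ k = 1) :
      Gen F p P ((Q.subtype.comp β.toMonoidHom).comp (Subgroup.inclusion hPQ))
  | comp {P Q : Subgroup Ω} {φ : P →* Ω} {ψ : Q →* Ω} (h₁ : Gen F p P φ) (h₂ : Gen F p Q ψ)
      (h : ∀ x : P, φ x ∈ Q) : Gen F p P (ψ.comp (φ.codRestrict Q h))

variable {F : FusionSystem S} {p : ℕ}

theorem Gen.mem {P : Subgroup Ω} {φ : P →* Ω} (h : Gen F p P φ) : φ ∈ F.Hom P := by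
  induction h with
  | base hPQ hQ β hβ k hk => exact restrict_mem ((mem_autGroup_iff F hQ.1).mp hβ) hPQ
  | comp _ _ h ih₁ ih₂ => exact F.comp_mem ih₁ ih₂ h

theorem Gen.congr {P : Subgroup Ω} {φ χ : P →* Ω} (h : Gen F p P φ) (hx : ∀ x, χ x = φ x) :
    Gen F p P χ := by
  rwa [MonoidHom.ext hx]

theorem Gen.comp_apply {P Q : Subgroup Ω} {φ : P →* Ω} {ψ : Q →* Ω} {χ : P →* Ω}
    (h₁ : Gen F p P φ) (h₂ : Gen F p Q ψ) (h : ∀ x : P, φ x ∈ Q)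
    (hx : ∀ x, χ x = ψ ⟨φ x, h x⟩) : Gen F p P χ :=
  (Gen.comp h₁ h₂ h).congr hx

variable [Finite S]

theorem Gen.incl {P : Subgroup Ω} (hP : P ≤ S) : Gen F p P P.subtype :=
  (Gen.base hP (isCentric_top F) 1 (Subgroup.one_mem _) 0 (one_pow _)).congr fun _ => rfl

theorem Gen.restrict {P Q : Subgroup Ω} {φ : P →* Ω} (h : Gen F p P φ) (hQ : Q ≤ P) :
    Gen F p Q (φ.comp (Subgroup.inclusion hQ)) :=
  Gen.comp_apply (Gen.incl (hQ.trans (dom_le h.mem))) h (fun x => hQ x.2) fun _ => rfl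

theorem Gen.restrict_apply {P Q : Subgroup Ω} {φ : P →* Ω} {χ : Q →* Ω} (h : Gen F p P φ)
    (hQ : Q ≤ P) (hx : ∀ x : Q, χ x = φ ⟨x, hQ x.2⟩) : Gen F p Q χ :=
  (h.restrict hQ).congr hx

theorem Gen.exists_inv {P : Subgroup Ω} {φ : P →* Ω} (h : Gen F p P φ) :
    ∃ θ : φ.range →* Ω, Gen F p φ.range θ ∧ ∀ x : P, θ ⟨φ x, ⟨x, rfl⟩⟩ = x := by
  induction h with
  | @base P Q hPQ hQ β hβ k hk =>
    have hle : ((Q.subtype.comp β.toMonoidHom).comp (Subgroup.inclusion hPQ)).range ≤ Q := by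
      rintro _ ⟨x, rfl⟩
      exact (β _).2
    refine ⟨_, Gen.base hle hQ β⁻¹ (Subgroup.inv_mem _ hβ) k (by rw [inv_pow, hk, inv_one]),
      fun x => ?_⟩
    show ((β⁻¹ (β (Subgroup.inclusion hPQ x)) : Q) : Ω) = _
    rw [MulAut.inv_apply_self]
    rfl
  | @comp P Q φ ψ h₁ h₂ h ih₁ ih₂ =>
    obtain ⟨θ₁, hθ₁, hx₁⟩ := ih₁
    obtain ⟨θ₂, hθ₂, hx₂⟩ := ih₂
    have hle : (ψ.comp (φ.codRestrict Q h)).range ≤ ψ.range := by
      rintro _ ⟨x, rfl⟩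
      exact ⟨_, rfl⟩
    have hm : ∀ y : (ψ.comp (φ.codRestrict Q h)).range,
        (θ₂.comp (Subgroup.inclusion hle)) y ∈ φ.range := by
      rintro ⟨_, x, rfl⟩
      exact ⟨x, (hx₂ (φ.codRestrict Q h x)).symm⟩
    refine ⟨_, Gen.comp (hθ₂.restrict hle) hθ₁ hm, fun x => ?_⟩
    refine Eq.trans (congrArg θ₁ (Subtype.ext ?_)) (hx₁ x)
    exact hx₂ (φ.codRestrict Q h x)

variable [Fact p.Prime]

theorem exists_pow_eq_one_of_mem_autInducedBy (hS : IsPGroup p S) {P : Subgroup Ω}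
    {α : MulAut P} (hα : α ∈ autInducedBy S P) : ∃ k, α ^ p ^ k = 1 := by
  obtain ⟨k, hk⟩ := isPGroup_autInducedBy hS P ⟨α, hα⟩
  exact ⟨k, congrArg Subtype.val hk⟩

theorem Gen.conj (hS : IsPGroup p S) {P : Subgroup Ω} {g : Ω} (hP : P ≤ S) (hg : g ∈ S) :
    Gen F p P (conjHom P g) := by
  have hn : g ∈ Subgroup.normalizer (S : Set Ω) := Subgroup.le_normalizer hg
  obtain ⟨k, hk⟩ := exists_pow_eq_one_of_mem_autInducedBy hS (conjAut_mem hg hn)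
  exact (Gen.base hP (isCentric_top F) (conjAut S g hn)
    (autInducedBy_le_autGroup F le_rfl (conjAut_mem hg hn)) k hk).congr fun _ => rfl

/-- The system generated by the `p`-automorphisms of the centric subgroups. -/
def genSystem (F : FusionSystem S) (hS : IsPGroup p S) : FusionSystem S where
  Hom P := {φ | Gen F p P φ}
  le_of_mem h := F.le_of_mem h.mem
  injective_of_mem h := F.injective_of_mem h.mem
  conj_mem hP hg := Gen.conj hS hP hg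
  comp_mem h₁ h₂ h := Gen.comp h₁ h₂ h
  inv_mem h := h.exists_inv

/-- Transport of `Gen` by an automorphism of `S` in the system. -/
theorem Gen.transport {a : MulAut S} (ha : a ∈ F.autGroup S) {P : Subgroup Ω} {φ : P →* Ω}
    (h : Gen F p P φ) :
    ∃ χ : ((P.subgroupOf S).map (S.subtype.comp a.toMonoidHom) : Subgroup Ω) →* Ω,
      Gen F p ((P.subgroupOf S).map (S.subtype.comp a.toMonoidHom)) χ ∧
      ∀ (x : P) (hx : (x : Ω) ∈ S) (hφx : φ x ∈ S)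
        (hax : ((a ⟨x, hx⟩ : S) : Ω) ∈ (P.subgroupOf S).map (S.subtype.comp a.toMonoidHom)),
        χ ⟨(a ⟨x, hx⟩ : S), hax⟩ = ((a ⟨φ x, hφx⟩ : S) : Ω) := by
  have haF := (mem_autGroup_iff F le_rfl).mp ha
  induction h with
  | @base P Q hPQ hQ β hβ k hk =>
    set ψ := (S.subtype.comp a.toMonoidHom).comp (Subgroup.inclusion hQ.1) with hψ
    have hψF : ψ ∈ F.Hom Q := restrict_mem haF hQ.1
    set e := isoOfHom ψ (F.injective_of_mem hψF) rfl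
    have hβ' : MulAut.congr e β ∈ F.autGroup ψ.range :=
      (autGroup_map_congr hψF rfl).le ⟨β, hβ, rfl⟩
    have hle : (P.subgroupOf S).map (S.subtype.comp a.toMonoidHom) ≤ ψ.range := by
      rintro _ ⟨x, hx, rfl⟩
      exact ⟨⟨x, hPQ hx⟩, rfl⟩
    refine ⟨_, Gen.base hle (CfsgLib.FusionExamples.isCentric_of_isConj hQ ⟨ψ, hψF, rfl⟩) _ hβ' k
      (by rw [← map_pow, hk, map_one]), fun x hx hφx hax => ?_⟩
    show ((MulAut.congr e β (e ⟨x, hPQ x.2⟩) : ψ.range) : Ω) = _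
    rw [MulAut.congr_apply]
    simp only [MulEquiv.trans_apply, MulEquiv.symm_apply_apply]
    rfl
  | @comp P Q φ ψ h₁ h₂ h ih₁ ih₂ =>
    obtain ⟨χ₁, hχ₁, hx₁⟩ := ih₁
    obtain ⟨χ₂, hχ₂, hx₂⟩ := ih₂
    have hval : ∀ (x : Ω) (hxP : x ∈ P) (hxS : x ∈ S),
        χ₁ ⟨(a ⟨x, hxS⟩ : S), ⟨⟨x, hxS⟩, hxP, rfl⟩⟩ = ((a ⟨φ ⟨x, hxP⟩, apply_mem h₁.mem _⟩ : S) : Ω) :=
      fun x hxP hxS => hx₁ ⟨x, hxP⟩ hxS _ _
    have hm : ∀ y, χ₁ y ∈ (Q.subgroupOf S).map (S.subtype.comp a.toMonoidHom) := by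
      rintro ⟨_, ⟨x, hxS⟩, hxP, rfl⟩
      exact ⟨⟨φ ⟨x, hxP⟩, apply_mem h₁.mem _⟩, h _, (hval x hxP hxS).symm⟩
    refine ⟨_, Gen.comp hχ₁ hχ₂ hm, fun x hx hφx hax => ?_⟩
    refine Eq.trans (congrArg χ₂ (Subtype.ext ?_))
      (hx₂ ⟨φ x, h x⟩ (apply_mem h₁.mem x) hφx ⟨⟨φ x, apply_mem h₁.mem x⟩, h x, rfl⟩)
    exact hx₁ x hx (apply_mem h₁.mem x) hax

/-- The automorphisms of `S` whose restriction to some centric subgroup is generated. -/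
def h0 (F : FusionSystem S) (p : ℕ) : Subgroup (F.autGroup S) :=
  Subgroup.closure {a | ∃ Q : Subgroup Ω, ∃ hQ : F.IsCentric Q,
    Gen F p Q ((S.subtype.comp (a : MulAut S).toMonoidHom).comp (Subgroup.inclusion hQ.1))}

theorem h0_normal : (h0 F p).Normal := by
  refine ⟨fun n hn g => ?_⟩
  suffices h : h0 F p ≤ (h0 F p).comap (MulAut.conj g).toMonoidHom from h hn
  refine (Subgroup.closure_le _).mpr ?_
  rintro a ⟨Q, hQ, ha⟩
  obtain ⟨χ, hχ, hx⟩ := Gen.transport g.2 ha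
  have hgF := (mem_autGroup_iff F le_rfl).mp g.2
  have hc : F.IsCentric ((Q.subgroupOf S).map (S.subtype.comp (g : MulAut S).toMonoidHom)) := by
    refine CfsgLib.FusionExamples.isCentric_of_isConj hQ ⟨_, restrict_mem hgF hQ.1, ?_⟩
    ext y
    exact ⟨fun ⟨x, hxy⟩ => ⟨⟨x, hQ.1 x.2⟩, x.2, hxy⟩, fun ⟨x, hx, hxy⟩ => ⟨⟨x, hx⟩, hxy⟩⟩
  refine Subgroup.subset_closure ⟨_, hc, hχ.congr ?_⟩
  rintro ⟨_, ⟨x, hxS⟩, hxQ, rfl⟩
  refine Eq.trans ?_ (hx ⟨x, hxQ⟩ hxS (Subtype.mem _) ⟨⟨x, hxS⟩, hxQ, rfl⟩).symm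
  show ((((g * a * g⁻¹ : F.autGroup S) : MulAut S) ((g : MulAut S) ⟨x, hxS⟩) : S) : Ω) = _
  simp
  rfl

variable {Γ : Type*} [Group Γ] (π : F.autGroup S →* Γ)

/-- The map `φ` has class `c`: it is generated up to an automorphism of `S` with image `c`. -/
def Cl (p : ℕ) (P : Subgroup Ω) (φ : P →* Ω) (c : Γ) : Prop :=
  ∃ a : F.autGroup S, π a = c ∧ ∃ z : P →* Ω, Gen F p P z ∧
    ∀ (x : P) (hx : z x ∈ S), φ x = (((a : MulAut S) ⟨z x, hx⟩ : S) : Ω)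

variable {π}

theorem Cl.mem {P : Subgroup Ω} {φ : P →* Ω} {c : Γ} (h : Cl π p P φ c) : φ ∈ F.Hom P := by
  obtain ⟨a, -, z, hz, hx⟩ := h
  exact comp_mem_apply hz.mem ((mem_autGroup_iff F le_rfl).mp a.2) (apply_mem hz.mem)
    fun x => hx x _

theorem Cl.of_gen {P : Subgroup Ω} {φ : P →* Ω} (h : Gen F p P φ) : Cl π p P φ 1 :=
  ⟨1, map_one _, φ, h, fun _ _ => rfl⟩

theorem Cl.of_aut (a : F.autGroup S) {P : Subgroup Ω} {φ : P →* Ω} (hP : P ≤ S)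
    (hx : ∀ x : P, φ x = (((a : MulAut S) ⟨x, hP x.2⟩ : S) : Ω)) : Cl π p P φ (π a) :=
  ⟨a, rfl, P.subtype, Gen.incl hP, fun x _ => hx x⟩

theorem Cl.congr {P : Subgroup Ω} {φ χ : P →* Ω} {c : Γ} (h : Cl π p P φ c) (hx : ∀ x, χ x = φ x) :
    Cl π p P χ c := by
  rwa [MonoidHom.ext hx]

theorem Cl.comp {P Q : Subgroup Ω} {φ : P →* Ω} {ψ : Q →* Ω} {χ : P →* Ω} {c d : Γ}
    (hφ : Cl π p P φ c) (hψ : Cl π p Q ψ d) (h : ∀ x : P, φ x ∈ Q)
    (hx : ∀ x, χ x = ψ ⟨φ x, h x⟩) : Cl π p P χ (d * c) := by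
  obtain ⟨a, rfl, z, hz, hza⟩ := hφ
  obtain ⟨b, rfl, w, hw, hwb⟩ := hψ
  have hQS : Q ≤ S := dom_le hw.mem
  obtain ⟨w', hw', hw'x⟩ := Gen.transport (a⁻¹).2 hw
  have hk : ∀ x : P, ((a⁻¹ : F.autGroup S) : MulAut S) ⟨φ x, hQS (h x)⟩ = ⟨z x, apply_mem hz.mem x⟩ :=
    fun x => by
      apply (a : MulAut S).injective
      simp only [InvMemClass.coe_inv, MulAut.apply_inv_self]
      exact Subtype.ext (hza x (apply_mem hz.mem x))
  have hm : ∀ x : P, z x ∈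
      (Q.subgroupOf S).map (S.subtype.comp ((a⁻¹ : F.autGroup S) : MulAut S).toMonoidHom) :=
    fun x => ⟨⟨φ x, hQS (h x)⟩, h x, congrArg Subtype.val (hk x)⟩
  refine ⟨b * a, map_mul _ _ _, _, Gen.comp hz hw' hm, fun x hxS => ?_⟩
  rw [hx, hwb _ (apply_mem hw.mem _)]
  have e1 : (⟨(w'.comp (z.codRestrict _ hm)) x, hxS⟩ : S) =
      ((a⁻¹ : F.autGroup S) : MulAut S) ⟨w ⟨φ x, h x⟩, apply_mem hw.mem _⟩ := by
    refine Subtype.ext ?_
    show w' ⟨z x, hm x⟩ = _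
    have e2 : (⟨z x, hm x⟩ :
        ↥((Q.subgroupOf S).map (S.subtype.comp ((a⁻¹ : F.autGroup S) : MulAut S).toMonoidHom))) =
        ⟨(((a⁻¹ : F.autGroup S) : MulAut S) ⟨φ x, hQS (h x)⟩ : S), ⟨⟨φ x, hQS (h x)⟩, h x, rfl⟩⟩ :=
      Subtype.ext (congrArg Subtype.val (hk x)).symm
    rw [e2]
    exact hw'x ⟨φ x, h x⟩ _ _ _
  rw [e1]
  simp

theorem Cl.restrict {P Q : Subgroup Ω} {φ : P →* Ω} {χ : Q →* Ω} {c : Γ} (h : Cl π p P φ c)
    (hQ : Q ≤ P) (hx : ∀ x : Q, χ x = φ ⟨x, hQ x.2⟩) : Cl π p Q χ c := by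
  obtain ⟨a, ha, z, hz, hza⟩ := h
  exact ⟨a, ha, _, hz.restrict hQ, fun x hxS => (hx x).trans (hza _ hxS)⟩

theorem Cl.inv {P Q : Subgroup Ω} {φ : P →* Ω} {θ : Q →* Ω} {c : Γ} (h : Cl π p P φ c)
    (hr : φ.range = Q) (hx : ∀ (x : P) (hx : φ x ∈ Q), θ ⟨φ x, hx⟩ = x) : Cl π p Q θ c⁻¹ := by
  subst hr
  obtain ⟨a, rfl, z, hz, hza⟩ := h
  obtain ⟨θz, hθz, hθzx⟩ := hz.exists_inv
  have hQS : φ.range ≤ S := by
    rintro _ ⟨x, rfl⟩
    rw [hza x (apply_mem hz.mem x)]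
    exact Subtype.mem _
  have h1 : Cl π p φ.range ((S.subtype.comp ((a⁻¹ : F.autGroup S) : MulAut S).toMonoidHom).comp
      (Subgroup.inclusion hQS)) (π a⁻¹) := Cl.of_aut a⁻¹ hQS fun _ => rfl
  have hk : ∀ x : P, ((a⁻¹ : F.autGroup S) : MulAut S) ⟨φ x, hQS ⟨x, rfl⟩⟩ =
      ⟨z x, apply_mem hz.mem x⟩ := fun x => by
    apply (a : MulAut S).injective
    simp only [InvMemClass.coe_inv, MulAut.apply_inv_self]
    exact Subtype.ext (hza x (apply_mem hz.mem x))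
  have hm : ∀ y : φ.range, ((S.subtype.comp ((a⁻¹ : F.autGroup S) : MulAut S).toMonoidHom).comp
      (Subgroup.inclusion hQS)) y ∈ z.range := by
    rintro ⟨_, x, rfl⟩
    exact ⟨x, (congrArg Subtype.val (hk x)).symm⟩
  have := Cl.comp (χ := θ) h1 (Cl.of_gen hθz) hm ?_
  · rwa [one_mul, map_inv] at this
  rintro ⟨_, x, rfl⟩
  rw [hx x ⟨x, rfl⟩, ← hθzx x]
  exact congrArg θz (Subtype.ext (congrArg Subtype.val (hk x)).symm)

/-- On centric sources the class is unique. -/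
theorem Cl.unique (hπ : h0 F p ≤ π.ker) {P : Subgroup Ω} (hP : F.IsCentric P) {φ : P →* Ω}
    {c d : Γ} (h₁ : Cl π p P φ c) (h₂ : Cl π p P φ d) : c = d := by
  obtain ⟨θ, hθ, hθr, hθx, hθy⟩ := exists_inverse h₂.mem rfl
  have hid : Cl π p P P.subtype (d⁻¹ * c) :=
    Cl.comp h₁ (h₂.inv rfl hθx) (fun x => ⟨x, rfl⟩) fun x => (hθx x ⟨x, rfl⟩).symm
  obtain ⟨a, ha, z, hz, hza⟩ := hid
  have hmem : a⁻¹ ∈ h0 F p := by
    refine Subgroup.subset_closure ⟨P, hP, hz.congr fun x => ?_⟩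
    show ((((a⁻¹ : F.autGroup S) : MulAut S) ⟨(x : Ω), hP.1 x.2⟩ : S) : Ω) = z x
    have : (⟨(x : Ω), hP.1 x.2⟩ : S) = (a : MulAut S) ⟨z x, apply_mem hz.mem x⟩ :=
      Subtype.ext (hza x (apply_mem hz.mem x))
    rw [this]
    simp
  have h1 := hπ hmem
  rw [MonoidHom.mem_ker, map_inv, inv_eq_one, ha, inv_mul_eq_one] at h1
  exact h1.symm

/-- Every map of a saturated system has a class. -/
theorem exists_cl (hS : IsPGroup p S) (hF : F.IsSaturated p) (π : F.autGroup S →* Γ)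
    {P : Subgroup Ω} {φ : P →* Ω} (hφ : φ ∈ F.Hom P) : ∃ c, Cl π p P φ c := by
  refine closed_induction_centric hS hF (Good := fun P φ => ∃ c, Cl π p P φ c)
    ⟨fun {P Q φ} hQ _ ⟨c, h⟩ => ⟨c, h.restrict hQ fun _ => rfl⟩,
      fun {P Q φ ψ} _ _ h ⟨c, h₁⟩ ⟨d, h₂⟩ => ⟨d * c, h₁.comp h₂ h fun _ => rfl⟩,
      fun {P Q φ ψ} _ _ hr hx ⟨c, h⟩ => ⟨c⁻¹, h.inv hr hx⟩⟩ ?_ hφ
  intro Q hQn hQc hbig α hα
  rcases hQn.1.eq_or_lt with rfl | hlt
  · exact ⟨_, Cl.of_aut (⟨α, hα⟩ : F.autGroup Q) le_rfl fun _ => rfl⟩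
  let K : Subgroup (MulAut Q) := Subgroup.closure {β | β ∈ F.autGroup Q ∧ ∃ k, β ^ p ^ k = 1}
  have hKn : ∀ a ∈ F.autGroup Q, ∀ κ ∈ K, a * κ * a⁻¹ ∈ K := by
    intro a ha κ hκ
    suffices h : K ≤ K.comap (MulAut.conj a).toMonoidHom from h hκ
    refine (Subgroup.closure_le _).mpr ?_
    rintro β ⟨hβ, k, hk⟩
    refine Subgroup.subset_closure ⟨mul_mem (mul_mem ha hβ) (Subgroup.inv_mem _ ha), k, ?_⟩
    show (a * β * a⁻¹) ^ p ^ k = 1
    rw [conj_pow, hk, mul_one, mul_inv_cancel]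
  obtain ⟨κ, ⟨hκ, -⟩, χ, -, hαχ, R, hQR, ψ, -, hψ, hψx, hR⟩ := frattini_extend hS hF hQn K hKn hα
  have hκ' : κ ∈ (genSystem F hS).autGroup Q := by
    refine Subgroup.closure_le _ |>.mpr ?_ hκ
    rintro β ⟨hβ, k, hk⟩
    exact (mem_autGroup_iff _ hQn.1).mpr ((Gen.base le_rfl hQc β hβ k hk).congr fun _ => rfl)
  have hN : normalizerIn S Q ≤ R := fun g hg => hR g hg.1 hg.2 (Subgroup.subset_closure
    ⟨autInducedBy_le_autGroup F hQn.1 (conjAut_mem hg.1 hg.2),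
      exists_pow_eq_one_of_mem_autInducedBy hS (conjAut_mem hg.1 hg.2)⟩)
  obtain ⟨c, hc⟩ := hbig R ψ hψ (card_lt_card (dom_le hψ)
    (lt_of_lt_of_le (CfsgLib.FusionSub.lt_normalizerIn hS hlt) hN))
  refine ⟨_, Cl.comp (hc.restrict (χ := ψ.comp (Subgroup.inclusion hQR)) hQR fun _ => rfl)
    (Cl.of_gen ((mem_autGroup_iff _ hQn.1).mp hκ'))
    (fun x => show ψ ⟨x, hQR x.2⟩ ∈ Q from (hψx x).symm ▸ (χ x).2) fun x => ?_⟩
  show ((α x : Q) : Ω) = ((κ ⟨_, _⟩ : Q) : Ω)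
  rw [hαχ]
  exact congrArg (fun w : Q => ((κ w : Q) : Ω)) (Subtype.ext (hψx x).symm)

theorem cl_one_of_pElement (hS : IsPGroup p S) (hF : F.IsSaturated p)
    (π : F.autGroup S →* Γ) {P : Subgroup Ω} (hP : P ≤ S) {χ : MulAut P} (hχ : χ ∈ F.autGroup P)
    {k : ℕ} (hk : χ ^ p ^ k = 1) : Cl π p P (P.subtype.comp χ.toMonoidHom) 1 := by
  obtain ⟨φ, hφ, -, s, hs, hsy⟩ := exists_conj_of_pElement hP
    (fun R _ hR => (centralized_automized_of_fullyNormalized hS hF hR).2) hχ hk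
  obtain ⟨d, hd⟩ := exists_cl hS hF π hφ
  have hm : ∀ x : φ.range, conjHom φ.range s x ∈ φ.range := by
    rintro ⟨_, x, rfl⟩
    exact ⟨χ x, hsy x⟩
  have hc : Cl π p φ.range (conjHom φ.range s) 1 :=
    Cl.of_gen (Gen.conj hS (range_le hφ) hs)
  obtain ⟨θ, -, -, hθx, -⟩ := exists_inverse hφ rfl
  have h2 := Cl.comp (χ := θ.comp ((conjHom φ.range s).codRestrict φ.range hm))
    hc (hd.inv rfl hθx) hm fun _ => rfl
  have h3 := Cl.comp (χ := P.subtype.comp χ.toMonoidHom) hd h2 (fun x => ⟨x, rfl⟩) fun x => ?_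
  · simpa using h3
  refine (hθx (χ x) ⟨χ x, rfl⟩).symm.trans (congrArg θ (Subtype.ext ?_))
  exact hsy x

theorem isCentric_sup_centralizerIn {P : Subgroup Ω}
    (hP : F.IsFullyCentralized P) : F.IsCentric (P ⊔ centralizerIn S P) := by
  have hle : P ⊔ centralizerIn S P ≤ S := sup_le hP.1 inf_le_left
  refine ⟨hle, fun Q hQ => ?_⟩
  obtain ⟨φ, hφ, rfl⟩ := hQ
  set φP := φ.comp (Subgroup.inclusion (le_sup_left : P ≤ P ⊔ centralizerIn S P)) with hφP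
  haveI := finite_of_le (centralizerIn_le S φP.range)
  have hsub : (P.subgroupOf (P ⊔ centralizerIn S P)).map φ = φP.range := by
    rw [hφP, range_comp_inclusion]
  have hle' : ((centralizerIn S P).subgroupOf (P ⊔ centralizerIn S P)).map φ ≤
      centralizerIn S φP.range := by
    rintro _ ⟨x, hx, rfl⟩
    exact apply_mem_centralizerIn hφ le_sup_left hsub x hx.2
  have heq := Subgroup.eq_of_le_of_card_ge hle' (by
    rw [Subgroup.card_map_of_injective (F.injective_of_mem hφ),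
      Nat.card_congr (Subgroup.subgroupOfEquivOfLe le_sup_right).toEquiv]
    exact hP.2 _ ⟨φP, restrict_mem hφ _, rfl⟩)
  refine le_trans (inf_le_inf_left _ (Subgroup.centralizer_le ?_)) (heq.ge.trans ?_)
  · rintro _ ⟨x, rfl⟩
    exact ⟨_, rfl⟩
  · rintro _ ⟨x, -, rfl⟩
    exact ⟨x, rfl⟩

/-- `c` is the class of a map on `N_S(P)` fixing `P` pointwise. -/
def FixCl (π : F.autGroup S →* Γ) (p : ℕ) (P : Subgroup Ω) (c : Γ) : Prop :=
  ∃ γ : normalizerIn S P →* Ω, Cl π p (normalizerIn S P) γ c ∧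
    (∀ x, γ x ∈ normalizerIn S P) ∧
    ∀ (x : Ω) (hx : x ∈ P) (hN : x ∈ normalizerIn S P), γ ⟨x, hN⟩ = x

theorem FixCl.one {P : Subgroup Ω} : FixCl π p P 1 :=
  ⟨_, Cl.of_gen (Gen.incl (normalizerIn_le S P)), fun x => x.2, fun _ _ _ => rfl⟩

theorem FixCl.mul {P : Subgroup Ω} {c d : Γ} (h₁ : FixCl π p P c) (h₂ : FixCl π p P d) :
    FixCl π p P (d * c) := by
  obtain ⟨γ, hγ, hm, hfix⟩ := h₁
  obtain ⟨δ, hδ, hm', hfix'⟩ := h₂
  refine ⟨δ.comp (γ.codRestrict _ hm), hγ.comp hδ hm fun _ => rfl, fun x => hm' _, fun x hx hN => ?_⟩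
  exact (congrArg δ (Subtype.ext (hfix x hx hN))).trans (hfix' x hx hN)

theorem FixCl.inv {P : Subgroup Ω} {c : Γ} (h : FixCl π p P c) : FixCl π p P c⁻¹ := by
  obtain ⟨γ, hγ, hm, hfix⟩ := h
  haveI := finite_of_le (normalizerIn_le S P)
  have hr : γ.range = normalizerIn S P := by
    refine Subgroup.eq_of_le_of_card_ge ?_ (card_range_eq (F.injective_of_mem hγ.mem)).ge
    rintro _ ⟨x, rfl⟩
    exact hm x
  obtain ⟨θ, -, hθr, hθx, -⟩ := exists_inverse hγ.mem hr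
  refine ⟨θ, hγ.inv hr hθx, fun x => hθr.le ⟨x, rfl⟩, fun x hx hN => ?_⟩
  have h1 := hθx ⟨x, hN⟩ (hm _)
  exact (congrArg θ (Subtype.ext (hfix x hx hN).symm)).trans h1

end CfsgLib.Alperin
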