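import Cfsg.Agent.Lib.Alperin.Invariant
import Cfsg.Agent.Lib.Alperin.PPrimeIndex
import Cfsg.Agent.Lib.FusionExamples.SmallElements
import Cfsg.Agent.Lib.FusionExamples.Hyperfocal

/-!
A `p'`-character of `Aut_F(T)` trivial on `Aut_E(T)` gives a class for every map of `F` between
subgroups of `T`, unique at the centric ones.
-/

set_option autoImplicit false
set_option linter.style.haveILetI false
set_option linter.unusedSectionVars false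

namespace CfsgLib.Alperin

open Cfsg Cfsg.FusionSystem CfsgLib.FusionSub

variable {Ω : Type*} [Group Ω] {S T : Subgroup Ω}

/-- `T`-centric: no conjugate of `R` has centralizer in `T` outside itself. -/
def TCentric (F : FusionSystem S) (T R : Subgroup Ω) : Prop :=
  R ≤ T ∧ ∀ Q : Subgroup Ω, F.IsConj R Q → centralizerIn T Q ≤ Q

theorem TCentric.of_isConj {F : FusionSystem S} (hT : F.StronglyClosed T) {R Q : Subgroup Ω}
    (h : TCentric F T R) (hQ : F.IsConj R Q) : TCentric F T Q := by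
  refine ⟨?_, fun Q' hQ' => h.2 Q' (IsConj.trans hQ hQ')⟩
  obtain ⟨φ, hφ, rfl⟩ := hQ
  rintro _ ⟨x, rfl⟩
  exact stronglyClosed_apply hT hφ x (h.1 x.2)

theorem TCentric.of_ge {F : FusionSystem S} {R Q : Subgroup Ω}
    (h : TCentric F T R) (hRQ : R ≤ Q) (hQ : Q ≤ T) : TCentric F T Q := by
  refine ⟨hQ, ?_⟩
  rintro Q' ⟨φ, hφ, rfl⟩
  have hle : (φ.comp (Subgroup.inclusion hRQ)).range ≤ φ.range := by
    rintro _ ⟨x, rfl⟩
    exact ⟨_, rfl⟩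
  exact ((inf_le_inf_left T (Subgroup.centralizer_le hle)).trans
    (h.2 _ ⟨_, restrict_mem hφ hRQ, rfl⟩)).trans hle

theorem tCentric_top [Finite S] {F : FusionSystem S} (hT : F.StronglyClosed T) :
    TCentric F T T := by
  refine ⟨le_rfl, ?_⟩
  rintro Q ⟨φ, hφ, rfl⟩
  exact fun y hy => mem_range_of_stronglyClosed hT le_rfl hφ hy.1

/-- A centric subgroup of an invariant subsystem is `T`-centric. -/
theorem tCentric_of_isCentric {F : FusionSystem S} {E : FusionSystem T}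
    (hdec : ∀ (P : Subgroup Ω), P ≤ T → ∀ (φ : P →* Ω), φ ∈ F.Hom P → Decomp E F P φ)
    {R : Subgroup Ω} (h : E.IsCentric R) : TCentric F T R := by
  refine ⟨h.1, ?_⟩
  rintro Q ⟨φ, hφ, rfl⟩
  obtain ⟨a, -, ε, hε, hx⟩ := hdec R h.1 φ hφ
  intro y hy
  have hy1 : ((a⁻¹ ⟨y, hy.1⟩ : T) : Ω) ∈ centralizerIn T ε.range := by
    refine ⟨(a⁻¹ _).2, ?_⟩
    rintro _ ⟨x, rfl⟩
    have h1 : (⟨φ x, by rw [hx x (apply_mem hε x)]; exact (a _).2⟩ : T) * ⟨y, hy.1⟩ =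
        ⟨y, hy.1⟩ * ⟨φ x, by rw [hx x (apply_mem hε x)]; exact (a _).2⟩ :=
      Subtype.ext (hy.2 _ ⟨x, rfl⟩)
    have h2 := congrArg (fun w => ((a⁻¹ w : T) : Ω)) h1
    simp only [map_mul, Subgroup.coe_mul] at h2
    have h3 : a⁻¹ (⟨φ x, by rw [hx x (apply_mem hε x)]; exact (a _).2⟩ : T) =
        ⟨ε x, apply_mem hε x⟩ := by
      apply a.injective
      rw [MulAut.apply_inv_self]
      exact Subtype.ext (hx x _)
    rw [h3] at h2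
    exact h2
  obtain ⟨x, hxy⟩ := h.2 _ ⟨ε, hε, rfl⟩ hy1
  refine ⟨x, ?_⟩
  rw [hx x (apply_mem hε x)]
  have h4 : (⟨ε x, apply_mem hε x⟩ : T) = a⁻¹ ⟨y, hy.1⟩ := Subtype.ext hxy
  rw [h4, MulAut.apply_inv_self]

variable {F : FusionSystem S} {E : FusionSystem T} {Δ : Type*} [Group Δ]

/-- The map `φ` is `α ∘ ε` with `ε` in `E` and `χ α = c`. -/
def ClT (E : FusionSystem T) (χ : F.autGroup T →* Δ) (R : Subgroup Ω) (φ : R →* Ω) (c : Δ) : Prop :=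
  ∃ α : F.autGroup T, χ α = c ∧ ∃ ε ∈ E.Hom R,
    ∀ (x : R) (hx : ε x ∈ T), φ x = (((α : MulAut T) ⟨ε x, hx⟩ : T) : Ω)

variable {χ : F.autGroup T →* Δ}

theorem ClT.congr {R : Subgroup Ω} {φ ψ : R →* Ω} {c : Δ} (h : ClT E χ R φ c)
    (hx : ∀ x, ψ x = φ x) : ClT E χ R ψ c := by
  rwa [MonoidHom.ext hx]

theorem ClT.dom {R : Subgroup Ω} {φ : R →* Ω} {c : Δ} (h : ClT E χ R φ c) : R ≤ T := by
  obtain ⟨α, -, ε, hε, -⟩ := h
  exact dom_le hε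

theorem ClT.of_mem {R : Subgroup Ω} {φ : R →* Ω} (h : φ ∈ E.Hom R) : ClT E χ R φ 1 :=
  ⟨1, map_one χ, φ, h, fun _ _ => rfl⟩

theorem ClT.of_aut (α : F.autGroup T) {R : Subgroup Ω} (hR : R ≤ T) {φ : R →* Ω}
    (hx : ∀ x : R, φ x = (((α : MulAut T) ⟨x, hR x.2⟩ : T) : Ω)) : ClT E χ R φ (χ α) :=
  ⟨α, rfl, R.subtype, incl_mem E hR, fun x _ => hx x⟩

theorem ClT.restrict {R R' : Subgroup Ω} {φ : R →* Ω} {ψ : R' →* Ω} {c : Δ} (h : ClT E χ R φ c)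
    (hR : R' ≤ R) (hx : ∀ x : R', ψ x = φ ⟨x, hR x.2⟩) : ClT E χ R' ψ c := by
  obtain ⟨α, hα, ε, hε, he⟩ := h
  exact ⟨α, hα, _, restrict_mem hε hR, fun x hxT => (hx x).trans (he _ hxT)⟩

theorem ClT.comp (hinv : InvCond E F) {P Q : Subgroup Ω} {φ : P →* Ω} {ψ : Q →* Ω} {ρ : P →* Ω}
    {c d : Δ} (h₁ : ClT E χ P φ c) (h₂ : ClT E χ Q ψ d) (h : ∀ x : P, φ x ∈ Q)
    (hρ : ∀ x, ρ x = ψ ⟨φ x, h x⟩) : ClT E χ P ρ (d * c) := by
  obtain ⟨a, rfl, φ₀, hφ₀, hx⟩ := h₁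
  obtain ⟨b, rfl, ψ₀, hψ₀, hy⟩ := h₂
  have hQT : Q ≤ T := dom_le hψ₀
  obtain ⟨κ, hκ, hκx⟩ := hinv Q hQT ψ₀ hψ₀ ((a : MulAut T)⁻¹) (Subgroup.inv_mem _ a.2)
  have hk : ∀ x : P, (a : MulAut T)⁻¹ ⟨φ x, hQT (h x)⟩ = ⟨φ₀ x, apply_mem hφ₀ x⟩ := fun x => by
    apply (a : MulAut T).injective
    rw [MulAut.apply_inv_self]
    exact Subtype.ext (hx x (apply_mem hφ₀ x))
  have hm : ∀ x : P, φ₀ x ∈
      (Q.subgroupOf T).map (T.subtype.comp ((a : MulAut T)⁻¹ : MulAut T).toMonoidHom) :=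
    fun x => ⟨⟨φ x, hQT (h x)⟩, h x, congrArg Subtype.val (hk x)⟩
  refine ⟨b * a, map_mul χ b a, _, E.comp_mem hφ₀ hκ hm, fun x hxT => ?_⟩
  show ρ x = (((b : MulAut T) ((a : MulAut T) ⟨κ ⟨φ₀ x, hm x⟩, hxT⟩) : T) : Ω)
  rw [hρ, hy ⟨φ x, h x⟩ (apply_mem hψ₀ _)]
  have e1 : (⟨φ₀ x, hm x⟩ :
      ((Q.subgroupOf T).map (T.subtype.comp ((a : MulAut T)⁻¹ : MulAut T).toMonoidHom))) =
      ⟨((a : MulAut T)⁻¹ ⟨φ x, hQT (h x)⟩ : T), ⟨⟨φ x, hQT (h x)⟩, h x, rfl⟩⟩ :=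
    Subtype.ext (congrArg Subtype.val (hk x)).symm
  have e2 : (⟨κ ⟨φ₀ x, hm x⟩, hxT⟩ : T) = (a : MulAut T)⁻¹ ⟨ψ₀ ⟨φ x, h x⟩, apply_mem hψ₀ _⟩ :=
    Subtype.ext (by
      show κ ⟨φ₀ x, hm x⟩ = _
      rw [e1]
      exact hκx ⟨φ x, h x⟩ _ _)
  rw [e2]
  simp

theorem ClT.inv (hinv : InvCond E F) {P Q : Subgroup Ω} {φ : P →* Ω} {θ : Q →* Ω} {c : Δ}
    (h : ClT E χ P φ c) (hr : φ.range = Q)
    (hθ : ∀ (x : P) (hx : φ x ∈ Q), θ ⟨φ x, hx⟩ = x) : ClT E χ Q θ c⁻¹ := by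
  obtain ⟨a, rfl, φ₀, hφ₀, hx⟩ := h
  subst hr
  obtain ⟨θ₀, hθ₀, -, hθ1, -⟩ := exists_inverse hφ₀ rfl
  have hrT : φ₀.range ≤ T := range_le hφ₀
  obtain ⟨κ, hκ, hκx⟩ := hinv φ₀.range hrT θ₀ hθ₀ (a : MulAut T) a.2
  have hle : φ.range ≤ (φ₀.range.subgroupOf T).map (T.subtype.comp (a : MulAut T).toMonoidHom) := by
    rintro _ ⟨x, rfl⟩
    exact ⟨⟨φ₀ x, apply_mem hφ₀ x⟩, ⟨x, rfl⟩, (hx x (apply_mem hφ₀ x)).symm⟩
  refine ⟨a⁻¹, map_inv χ a, κ.comp (Subgroup.inclusion hle), restrict_mem hκ hle, ?_⟩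
  rintro ⟨_, x, rfl⟩ hxT
  rw [hθ x ⟨x, rfl⟩]
  have hxT' : (x : Ω) ∈ T := dom_le hφ₀ x.2
  have hth : θ₀ ⟨φ₀ x, ⟨x, rfl⟩⟩ = (x : Ω) := hθ1 x ⟨x, rfl⟩
  have hp : θ₀ ⟨φ₀ x, ⟨x, rfl⟩⟩ ∈ T := by rw [hth]; exact hxT'
  have e1 : (⟨φ x, hle ⟨x, rfl⟩⟩ :
      ((φ₀.range.subgroupOf T).map (T.subtype.comp (a : MulAut T).toMonoidHom))) =
      ⟨((a : MulAut T) ⟨φ₀ x, hrT ⟨x, rfl⟩⟩ : T), ⟨⟨φ₀ x, hrT ⟨x, rfl⟩⟩, ⟨x, rfl⟩, rfl⟩⟩ :=
    Subtype.ext (hx x (apply_mem hφ₀ x))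
  have e2 : (κ ⟨φ x, hle ⟨x, rfl⟩⟩ : Ω) = (((a : MulAut T) ⟨x, hxT'⟩ : T) : Ω) := by
    rw [e1]
    refine (hκx ⟨φ₀ x, ⟨x, rfl⟩⟩ hp _).trans ?_
    simp only [hth]
  show (x : Ω) = (((a⁻¹ : F.autGroup T) : MulAut T) ⟨_, hxT⟩ : T)
  rw [show (⟨κ.comp (Subgroup.inclusion hle) ⟨φ x, ⟨x, rfl⟩⟩, hxT⟩ : T) =
    (a : MulAut T) ⟨x, hxT'⟩ from Subtype.ext e2]
  simp

/-- The standing hypotheses. -/
structure ClassSetup (F : FusionSystem S) (E : FusionSystem T) (χ : F.autGroup T →* Δ) (p : ℕ) :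
    Prop where
  pgroup : IsPGroup p S
  saturated : F.IsSaturated p
  saturated_sub : E.IsSaturated p
  sub : E.IsSubsystemOf F
  closed : F.StronglyClosed T
  invCond : InvCond E F
  decomp : ∀ (P : Subgroup Ω), P ≤ T → ∀ (φ : P →* Ω), φ ∈ F.Hom P → Decomp E F P φ
  coprime : (Nat.card Δ).Coprime p
  ker : ∀ α : F.autGroup T, (α : MulAut T) ∈ E.autGroup T → χ α = 1

variable {p : ℕ}

theorem exists_clT (h : ClassSetup F E χ p) {R : Subgroup Ω} (hR : R ≤ T) {φ : R →* Ω}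
    (hφ : φ ∈ F.Hom R) : ∃ c, ClT E χ R φ c := by
  obtain ⟨a, ha, ε, hε, hx⟩ := h.decomp R hR φ hφ
  exact ⟨χ ⟨a, ha⟩, ⟨a, ha⟩, rfl, ε, hε, hx⟩

variable [Finite S] [Fact p.Prime]

/-- An automorphism fixing a self-centralizing normal subgroup is a `p`-element. -/
theorem exists_pow_eq_one_of_fix (hS : IsPGroup p S) {P N : Subgroup Ω} (hNS : N ≤ S)
    (hPN : P ≤ N) (hNn : N ≤ Subgroup.normalizer (P : Set Ω)) (hC : centralizerIn N P ≤ P)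
    (θ : MulAut N) (hfix : ∀ x : N, (x : Ω) ∈ P → θ x = x) : ∃ k : ℕ, θ ^ p ^ k = 1 := by
  haveI := finite_of_le hNS
  haveI := finite_mulAut (P := N)
  obtain ⟨k, m, hkm, hm⟩ := CfsgLib.FusionExamples.exists_coprime_power (p := p) θ
  refine ⟨k, ?_⟩
  have hb : ∀ (j : ℕ) (x : N), (x : Ω) ∈ P → (θ ^ j) x = x := by
    intro j x hx
    induction j with
    | zero => simp
    | succ j ih => rw [pow_succ', MulAut.mul_apply, ih, hfix x hx]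
  set b := θ ^ p ^ k
  refine MulEquiv.ext fun x => ?_
  refine CfsgLib.FusionExamples.eq_of_stable (isPGroup_of_le hS hNS) b (m := m) hkm hm (hb _ _ ?_)
  refine hC ⟨(x⁻¹ * b x : N).2, fun q hq => ?_⟩
  have hq' : ((x * ⟨q, hPN hq⟩ * x⁻¹ : N) : Ω) ∈ P := mem_normalizer_conj (hNn x.2) hq
  have h1 := hb (p ^ k) _ hq'
  rw [map_mul, map_mul, map_inv, hb _ ⟨q, hPN hq⟩ hq] at h1
  have h2 : (⟨q, hPN hq⟩ : N) * (x⁻¹ * b x) = x⁻¹ * b x * ⟨q, hPN hq⟩ :=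
    calc (⟨q, hPN hq⟩ : N) * (x⁻¹ * b x) = x⁻¹ * (x * ⟨q, hPN hq⟩ * x⁻¹) * b x := by group
      _ = x⁻¹ * (b x * ⟨q, hPN hq⟩ * (b x)⁻¹) * b x := by rw [h1]
      _ = x⁻¹ * b x * ⟨q, hPN hq⟩ := by group
  exact congrArg Subtype.val h2

theorem eq_one_of_pow_prime_pow {c : Δ} (hΔ : (Nat.card Δ).Coprime p) {k : ℕ}
    (hc : c ^ p ^ k = 1) : c = 1 := by
  rw [← orderOf_eq_one_iff]
  exact Nat.dvd_one.mp ((hΔ.pow_right k) ▸
    Nat.dvd_gcd (orderOf_dvd_natCard c) (orderOf_dvd_of_pow_eq_one hc))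

theorem clT_unique_incl (h : ClassSetup F E χ p) :
    ∀ {R : Subgroup Ω}, TCentric F T R → ∀ {c : Δ}, ClT E χ R R.subtype c → c = 1 := by
  suffices H : ∀ (n : ℕ) {R : Subgroup Ω}, Nat.card T - Nat.card R = n → TCentric F T R →
      ∀ {c : Δ}, ClT E χ R R.subtype c → c = 1 from fun {R} hR {c} hc => H _ rfl hR hc
  intro n
  induction n using Nat.strong_induction_on with
  | _ n ih =>
  intro R hn hRT c hc
  haveI := finite_of_le h.closed.1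
  have hTp : IsPGroup p T := isPGroup_of_le h.pgroup h.closed.1
  rcases hRT.1.eq_or_lt with rfl | hlt
  · obtain ⟨α, rfl, ε, hε, hx⟩ := hc
    obtain ⟨e, he, hex⟩ := exists_aut_of_hom' E hε (fun x => apply_mem hε x)
    refine h.ker α ?_
    have h1 : (α : MulAut R) = e⁻¹ := by
      rw [eq_inv_iff_mul_eq_one]
      refine MulEquiv.ext fun x => Subtype.ext ?_
      show (((α : MulAut R) (e x) : R) : Ω) = x
      rw [show e x = ⟨ε x, apply_mem hε x⟩ from Subtype.ext (hex x)]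
      exact (hx x _).symm
    exact h1 ▸ Subgroup.inv_mem _ he
  -- pass to a fully normalized conjugate in `E`
  obtain ⟨R', ⟨η, hη, rfl⟩, hR'⟩ := exists_isFullyNormalized E hRT.1
  obtain ⟨θη, hθη, hθr, hθx, hθy⟩ := exists_inverse hη rfl
  have hR'T : TCentric F T η.range := hRT.of_isConj h.closed ⟨η, h.sub R hη, rfl⟩
  have hc1 : ClT E χ η.range θη (c * 1) :=
    (ClT.of_mem hθη).comp h.invCond hc (fun z => hθr.le ⟨z, rfl⟩) fun _ => rfl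
  have hc2 : ClT E χ η.range η.range.subtype (1 * (c * 1)) :=
    hc1.comp h.invCond (ClT.of_mem hη) (fun z => hθr.le ⟨z, rfl⟩) fun z => (hθy z _).symm
  rw [one_mul, mul_one] at hc2
  have hcardR : Nat.card η.range = Nat.card R := card_range_eq (E.injective_of_mem hη)
  clear hc hc1 hθη hθr hθx hθy
  set P := η.range with hP
  obtain ⟨α, rfl, ε, hε, hx⟩ := hc2
  set R0 := ε.range with hR0
  obtain ⟨θ₀, hθ₀, hθ₀r, hθ₀x, hθ₀y⟩ := exists_inverse hε hR0.symm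
  have hθα : ∀ (y : Ω) (hy : y ∈ R0) (hyT : y ∈ T),
      θ₀ ⟨y, hy⟩ = (((α : MulAut T) ⟨y, hyT⟩ : T) : Ω) := by
    rintro _ ⟨x, rfl⟩ hyT
    rw [hθ₀x x ⟨x, rfl⟩]
    exact hx x hyT
  obtain ⟨ψ, hψ, hψx⟩ := (receptive_of_fullyNormalized hTp h.saturated_sub hR').2 R0 θ₀ hθ₀ hθ₀r
  have hR0T : R0 ≤ T := range_le hε
  have hNext : normalizerIn T R0 ≤ extender T R0 θ₀ := by
    intro g hg
    refine mem_extender_iff.mpr ⟨hg.1, hg.2, ((α : MulAut T) ⟨g, hg.1⟩ : T), Subtype.mem _,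
      fun x hgx => ?_⟩
    rw [hθα _ hgx (hR0T hgx), hθα _ x.2 (hR0T x.2)]
    rw [show (⟨g * x * g⁻¹, hR0T hgx⟩ : T) = ⟨g, hg.1⟩ * ⟨x, hR0T x.2⟩ * ⟨g, hg.1⟩⁻¹ from rfl]
    simp only [map_mul, map_inv, Subgroup.coe_mul, Subgroup.coe_inv]
  set N' := normalizerIn T P with hN'
  have hN'T : N' ≤ T := normalizerIn_le T P
  have hPN' : P ≤ N' := le_normalizerIn hR'T.1
  let β : N' →* Ω := T.subtype.comp (((α⁻¹ : F.autGroup T) : MulAut T).toMonoidHom.comp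
    (Subgroup.inclusion hN'T))
  have hβF : β ∈ F.Hom N' := restrict_mem ((mem_autGroup_iff F h.closed.1).mp (α⁻¹).2) hN'T
  have hαP : ∀ (y : Ω) (hyT : y ∈ T), y ∈ R0 ↔ (((α : MulAut T) ⟨y, hyT⟩ : T) : Ω) ∈ P := by
    intro y hyT
    constructor
    · rintro ⟨x, rfl⟩
      rw [← hx x hyT]
      exact x.2
    · intro hy
      refine ⟨⟨_, hy⟩, ?_⟩
      have h1 := hx ⟨_, hy⟩ (apply_mem hε _)
      exact (congrArg Subtype.val ((α : MulAut T).injective (Subtype.ext h1))).symm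
  have hβN : ∀ g : N', β g ∈ normalizerIn T R0 := by
    intro g
    refine ⟨(((α⁻¹ : F.autGroup T) : MulAut T) _).2, Subgroup.mem_normalizer_iff.mpr fun y => ?_⟩
    have hgT : (g : Ω) ∈ T := hN'T g.2
    have e : ∀ (hyT : y ∈ T) (hm : β g * y * (β g)⁻¹ ∈ T),
        (((α : MulAut T) ⟨β g * y * (β g)⁻¹, hm⟩ : T) : Ω) =
          g * (((α : MulAut T) ⟨y, hyT⟩ : T) : Ω) * (g : Ω)⁻¹ := by
      intro hyT hm
      rw [show (⟨β g * y * (β g)⁻¹, hm⟩ : T) = ((α⁻¹ : F.autGroup T) : MulAut T) ⟨g, hgT⟩ *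
        ⟨y, hyT⟩ * (((α⁻¹ : F.autGroup T) : MulAut T) ⟨g, hgT⟩)⁻¹ from rfl]
      simp
    constructor
    · intro hy
      have hm : β g * y * (β g)⁻¹ ∈ T :=
        T.mul_mem (T.mul_mem (((α⁻¹ : F.autGroup T) : MulAut T) _).2 (hR0T hy))
          (T.inv_mem (((α⁻¹ : F.autGroup T) : MulAut T) _).2)
      rw [hαP _ hm, e (hR0T hy) hm]
      exact (Subgroup.mem_normalizer_iff.mp g.2.2 _).mp ((hαP y (hR0T hy)).mp hy)
    · intro hy
      have hb : β g ∈ T := (((α⁻¹ : F.autGroup T) : MulAut T) _).2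
      have hyT : y ∈ T := by
        have := T.mul_mem (T.mul_mem (T.inv_mem hb) (hR0T hy)) hb
        simpa [mul_assoc] using this
      rw [hαP y hyT]
      refine (Subgroup.mem_normalizer_iff.mp g.2.2 _).mpr ?_
      rw [← e hyT (hR0T hy)]
      exact (hαP _ (hR0T hy)).mp hy
  have hψm : ∀ g : N', β g ∈ extender T R0 θ₀ := fun g => hNext (hβN g)
  set θ := ψ.comp (β.codRestrict _ hψm) with hθ
  have hθF : θ ∈ F.Hom N' := F.comp_mem hβF (h.sub _ hψ) hψm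
  have hθc : ClT E χ N' θ (χ α)⁻¹ := by
    have h1 : ClT E χ N' β (χ α⁻¹) := ClT.of_aut α⁻¹ hN'T fun _ => rfl
    have h2 := h1.comp h.invCond (ClT.of_mem hψ) hψm (ρ := θ) fun _ => rfl
    rwa [one_mul, map_inv] at h2
  have hθm : ∀ g : N', θ g ∈ N' := fun g => by
    refine apply_mem_normalizerIn hψ (le_extender hθ₀) ?_ _ (hβN g).2
    exact (map_subgroupOf_of_extends (le_extender hθ₀) fun y hy hyR => hψx y hy hyR).trans hθ₀r
  haveI := finite_of_le (hN'T.trans h.closed.1)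
  obtain ⟨b, hb, hbx⟩ := exists_aut_of_hom' F hθF hθm
  have hbfix : ∀ x : N', (x : Ω) ∈ P → b x = x := by
    intro x hxP
    refine Subtype.ext ((hbx x).trans ?_)
    have hxT : (x : Ω) ∈ T := hN'T x.2
    have h1 : β x ∈ R0 := by
      refine (hαP _ (((α⁻¹ : F.autGroup T) : MulAut T) ⟨x, hxT⟩).2).mpr ?_
      show (((α : MulAut T) (((α⁻¹ : F.autGroup T) : MulAut T) ⟨x, hxT⟩) : T) : Ω) ∈ P
      simpa using hxP
    show ψ ⟨β x, hψm x⟩ = x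
    rw [hψx _ h1 (hψm x), hθα _ h1 (hR0T h1)]
    show (((α : MulAut T) (((α⁻¹ : F.autGroup T) : MulAut T) ⟨x, hxT⟩) : T) : Ω) = x
    simp
  obtain ⟨k, hk⟩ := exists_pow_eq_one_of_fix (p := p) h.pgroup (hN'T.trans h.closed.1) hPN'
    (fun g hg => hg.2)
    (fun y hy => hR'T.2 P (isConj_refl F (hR'T.1.trans h.closed.1)) ⟨hN'T hy.1, hy.2⟩) b hbfix
  have hpow : ∀ j : ℕ, ClT E χ N' (N'.subtype.comp (b ^ j : MulAut N').toMonoidHom)
      ((χ α)⁻¹ ^ j) := by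
    intro j
    induction j with
    | zero =>
      rw [pow_zero, pow_zero]
      exact (ClT.of_mem (incl_mem E hN'T)).congr fun _ => rfl
    | succ j ihj =>
      rw [pow_succ (χ α)⁻¹]
      refine hθc.comp h.invCond ihj hθm fun x => ?_
      rw [pow_succ b]
      exact congrArg (fun w : N' => (((b ^ j : MulAut N') w : N') : Ω)) (Subtype.ext (hbx x))
  have hlt' : Nat.card P < Nat.card N' := by
    refine card_lt_card (hN'T.trans h.closed.1) ?_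
    refine lt_normalizerIn hTp (lt_of_le_of_ne hR'T.1 fun h' => ?_)
    have := card_lt_card h.closed.1 hlt
    rw [← hcardR, h'] at this
    exact lt_irrefl _ this
  have h1 : (χ α)⁻¹ ^ p ^ k = 1 := by
    refine ih _ ?_ rfl (hR'T.of_ge hPN' hN'T) ((hpow (p ^ k)).congr fun x => ?_)
    · have := Subgroup.card_le_of_le hN'T
      omega
    · rw [hk]; rfl
  exact inv_eq_one.mp (eq_one_of_pow_prime_pow h.coprime h1)

theorem clT_unique (h : ClassSetup F E χ p) {R : Subgroup Ω} (hR : TCentric F T R) {φ : R →* Ω}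
    {c d : Δ} (h₁ : ClT E χ R φ c) (h₂ : ClT E χ R φ d) : c = d := by
  have hinj : Function.Injective φ := by
    obtain ⟨α, -, ε, hε, hx⟩ := h₁
    intro a b hab
    rw [hx a (apply_mem hε a), hx b (apply_mem hε b)] at hab
    exact E.injective_of_mem hε (congrArg Subtype.val ((α : MulAut T).injective (Subtype.ext hab)))
  let θ : φ.range →* Ω := R.subtype.comp (MonoidHom.ofInjective hinj).symm.toMonoidHom
  have hθ : ∀ (x : R) (hx : φ x ∈ φ.range), θ ⟨φ x, hx⟩ = x := fun x _ =>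
    congrArg Subtype.val ((MonoidHom.ofInjective hinj).symm_apply_apply x)
  have h3 := h₁.comp h.invCond (h₂.inv h.invCond rfl hθ) (fun x => ⟨x, rfl⟩)
    (ρ := R.subtype) fun x => (hθ x ⟨x, rfl⟩).symm
  exact (inv_mul_eq_one.mp (clT_unique_incl h hR h3)).symm

end CfsgLib.Alperin
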