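import Cfsg.Agent.Lib.Alperin.SmallAbelian
import Mathlib.FieldTheory.Finite.GaloisField
import Mathlib.LinearAlgebra.Eigenspace.Minpoly

/-!
Automorphisms of a finite `p`-group preserving a series with cyclic steps.
-/

set_option autoImplicit false
set_option linter.style.haveILetI false
set_option linter.unusedSectionVars false

open scoped commutatorElement

namespace CfsgLib.Alperin

open Subgroup

variable {P : Type*} [Group P] [Finite P] {p : ℕ} [Fact p.Prime] {m : ℕ}

/-- A series of normal subgroups from `⊥` to `⊤` with cyclic steps. -/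
structure CyclicSeries (d : Fin (m + 1) → Subgroup P) : Prop where
  zero : d 0 = ⊥
  last : d (Fin.last m) = ⊤
  mono : ∀ i : Fin m, d i.castSucc ≤ d i.succ
  normal : ∀ i, (d i).Normal
  cyclic : ∀ i : Fin m, ∃ y₀ ∈ d i.succ, ∀ y ∈ d i.succ, ∃ k : ℤ, (y₀ ^ k)⁻¹ * y ∈ d i.castSucc

/-- Membership in every term is preserved. -/
def Preserves (d : Fin (m + 1) → Subgroup P) (α : MulAut P) : Prop :=
  ∀ i, ∀ y ∈ d i, α y ∈ d i

theorem Preserves.inv {d : Fin (m + 1) → Subgroup P} {α : MulAut P} (h : Preserves d α) :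
    Preserves d α⁻¹ := by
  intro i y hy
  have he : (d i).map α.toMonoidHom = d i :=
    Subgroup.eq_of_le_of_card_ge (by rintro _ ⟨z, hz, rfl⟩; exact h i z hz)
      (Subgroup.card_map_of_injective α.injective).ge
  obtain ⟨z, hz, rfl⟩ := he.ge hy
  show α⁻¹ (α z) ∈ d i
  rw [MulAut.inv_apply_self]
  exact hz

/-- The automorphisms acting trivially on each factor of the series. -/
def factorStab (d : Fin (m + 1) → Subgroup P) : Subgroup (MulAut P) where
  carrier := {x | Preserves d x ∧ ∀ i : Fin m, ∀ y ∈ d i.succ, y⁻¹ * x y ∈ d i.castSucc}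
  one_mem' := ⟨fun i y hy => hy, fun i y _ => by simp⟩
  mul_mem' := by
    rintro x x' ⟨hx, hxs⟩ ⟨hx', hxs'⟩
    refine ⟨fun i y hy => hx i _ (hx' i y hy), fun i y hy => ?_⟩
    have := (d i.castSucc).mul_mem (hxs' i y hy) (hxs i _ (hx' _ y hy))
    rwa [mul_assoc, mul_inv_cancel_left] at this
  inv_mem' := by
    rintro x ⟨hx, hxs⟩
    refine ⟨hx.inv, fun i y hy => ?_⟩
    have := (d i.castSucc).inv_mem (hxs i _ (hx.inv _ y hy))
    rwa [MulAut.apply_inv_self, mul_inv_rev, inv_inv] at this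

theorem eq_one_of_factorStab (hP : IsPGroup p P) {d : Fin (m + 1) → Subgroup P} (h0 : d 0 = ⊥)
    (hm : d (Fin.last m) = ⊤) {x : MulAut P} (hx : (orderOf x).Coprime p)
    (hs : x ∈ factorStab d) : x = 1 := by
  have key : ∀ i, ∀ y ∈ d i, x y = y := by
    intro i
    induction i using Fin.induction with
    | zero =>
      intro y hy
      rw [h0, mem_bot] at hy
      rw [hy, map_one]
    | succ i ih => exact fun y hy => fix_of_fix_displacement hP hx (ih _ (hs.2 i y hy))
  exact MulEquiv.ext fun y => key _ y (hm ▸ mem_top y)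

theorem isPGroup_factorStab (hP : IsPGroup p P) {d : Fin (m + 1) → Subgroup P} (h0 : d 0 = ⊥)
    (hm : d (Fin.last m) = ⊤) : IsPGroup p (factorStab d) := by
  rintro ⟨x, hx⟩
  haveI : Finite (MulAut P) :=
    Finite.of_injective (fun a : MulAut P => (a : P → P)) fun _ _ h => MulEquiv.ext (congrFun h)
  obtain ⟨k, n, hn, hkn⟩ :=
    Nat.exists_eq_pow_mul_and_not_dvd (orderOf_pos x).ne' p (Fact.out : p.Prime).ne_one
  refine ⟨k, Subtype.ext ?_⟩
  refine eq_one_of_factorStab hP h0 hm ?_ (pow_mem hx _)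
  show (orderOf (x ^ p ^ k)).Coprime p
  rw [orderOf_pow' x (pow_pos (Fact.out : p.Prime).pos k).ne', hkn,
    Nat.gcd_mul_right_left, Nat.mul_div_cancel_left _ (pow_pos (Fact.out : p.Prime).pos k)]
  exact ((Fact.out : p.Prime).coprime_iff_not_dvd.mpr hn).symm

/-- On a cyclic factor an automorphism is a power map. -/
theorem exists_scalar {d : Fin (m + 1) → Subgroup P} (hd : CyclicSeries d) {α : MulAut P}
    (hα : Preserves d α) (i : Fin m) :
    ∃ a : ℤ, ∀ y ∈ d i.succ, (y ^ a)⁻¹ * α y ∈ d i.castSucc := by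
  haveI := hd.normal i.castSucc
  obtain ⟨y₀, hy₀, hgen⟩ := hd.cyclic i
  obtain ⟨a, ha⟩ := hgen _ (hα _ _ hy₀)
  refine ⟨a, fun y hy => ?_⟩
  obtain ⟨k, hk⟩ := hgen y hy
  rw [← QuotientGroup.eq] at ha hk ⊢
  have hk' : ((α (y₀ ^ k) : P) : P ⧸ d i.castSucc) = (α y : P) := by
    rw [QuotientGroup.eq] at hk ⊢
    rw [← map_inv, ← map_mul]
    exact hα _ _ hk
  rw [← hk', map_zpow, QuotientGroup.mk_zpow, QuotientGroup.mk_zpow, ← hk, QuotientGroup.mk_zpow,
    ← ha, QuotientGroup.mk_zpow, ← zpow_mul, ← zpow_mul, mul_comm]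

/-- Commutators of automorphisms preserving a cyclic series stabilize it. -/
theorem commutatorElement_mem_factorStab {d : Fin (m + 1) → Subgroup P} (hd : CyclicSeries d)
    {α β : MulAut P} (hα : Preserves d α) (hβ : Preserves d β) :
    ⁅α, β⁆ ∈ factorStab d := by
  refine ⟨fun i y hy => hα i _ (hβ i _ (hα.inv i _ (hβ.inv i y hy))), fun i y hy => ?_⟩
  haveI := hd.normal i.castSucc
  obtain ⟨a, ha⟩ := exists_scalar hd hα i
  obtain ⟨b, hb⟩ := exists_scalar hd hβ i
  obtain ⟨w, rfl⟩ : ∃ w, y = (β * α) w := ⟨(β * α)⁻¹ y, (MulAut.apply_inv_self _ _ _).symm⟩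
  have hw : w ∈ d i.succ := by
    have := hα.inv _ _ (hβ.inv _ _ hy)
    simpa using this
  rw [← QuotientGroup.eq]
  rw [show ⁅α, β⁆ ((β * α) w) = α (β w) by simp [commutatorElement_def]]
  have e₁ := QuotientGroup.eq.mpr (ha _ (hβ _ _ hw))
  have e₂ := QuotientGroup.eq.mpr (hb _ (hα _ _ hw))
  have e₃ := QuotientGroup.eq.mpr (ha _ hw)
  have e₄ := QuotientGroup.eq.mpr (hb _ hw)
  rw [MulAut.mul_apply, ← e₁, ← e₂, QuotientGroup.mk_zpow, QuotientGroup.mk_zpow, ← e₃, ← e₄,
    QuotientGroup.mk_zpow, QuotientGroup.mk_zpow, ← zpow_mul, ← zpow_mul, mul_comm]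

/-- A `p'`-automorphism preserving a cyclic series has order dividing `p - 1`. -/
theorem pow_sub_one_eq_one (hP : IsPGroup p P) {d : Fin (m + 1) → Subgroup P} (hd : CyclicSeries d)
    {α : MulAut P} (hα : Preserves d α) (hcop : (orderOf α).Coprime p) : α ^ (p - 1) = 1 := by
  have hp : p.Prime := Fact.out
  obtain ⟨n, hn⟩ := hP.exists_card_eq
  have hmem : α ^ ((p - 1) * p ^ n) ∈ factorStab d := by
    have hpres : ∀ j : ℕ, Preserves d (α ^ j) := by
      intro j
      induction j with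
      | zero => exact fun i y hy => hy
      | succ j ih => rw [pow_succ']; exact fun i y hy => hα i _ (ih i y hy)
    refine ⟨hpres _, fun i y hy => ?_⟩
    haveI := hd.normal i.castSucc
    obtain ⟨a, ha⟩ := exists_scalar hd hα i
    have hj : ∀ j : ℕ, ((((α ^ j) y) : P) : P ⧸ d i.castSucc) = (y : P ⧸ d i.castSucc) ^ (a ^ j) := by
      intro j
      induction j with
      | zero => simp
      | succ j ih =>
        rw [pow_succ', MulAut.mul_apply,
          ← QuotientGroup.eq.mpr (ha _ (hpres j _ _ hy)), QuotientGroup.mk_zpow, ih, ← zpow_mul,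
          pow_succ]
    rw [← QuotientGroup.eq, hj]
    set q : P ⧸ d i.castSucc := (y : P ⧸ d i.castSucc) with hq
    obtain ⟨k, hk⟩ := (IsPGroup.iff_orderOf.mp (hP.to_quotient (d i.castSucc))) q
    have hkn : k ≤ n := by
      have h1 : orderOf q ∣ p ^ n := hn ▸ (orderOf_map_dvd (QuotientGroup.mk' _) y).trans
        (orderOf_dvd_natCard y)
      rw [hk] at h1
      exact (Nat.pow_dvd_pow_iff_le_right hp.one_lt).mp h1
    rcases k.eq_zero_or_pos with rfl | hk0
    · rw [pow_zero, orderOf_eq_one_iff] at hk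
      rw [hk, one_zpow]
    -- `a` is prime to `p`: `α⁻¹` is a power map as well
    obtain ⟨b, hb⟩ := exists_scalar hd hα.inv i
    have hab : q ^ (a * b) = q := by
      have e := QuotientGroup.eq.mpr (hb _ (hα _ _ hy))
      rw [MulAut.inv_apply_self, QuotientGroup.mk_zpow, ← QuotientGroup.eq.mpr (ha _ hy),
        QuotientGroup.mk_zpow, ← zpow_mul] at e
      exact e
    have hab' : ((p ^ k : ℕ) : ℤ) ∣ a * b - 1 := by
      rw [← hk, orderOf_dvd_iff_zpow_eq_one, zpow_sub, zpow_one, hab, mul_inv_cancel]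
    have hu : IsUnit (a : ZMod (p ^ k)) := by
      refine IsUnit.of_mul_eq_one (b : ZMod (p ^ k)) ?_
      rw [← Int.cast_mul, ← Int.cast_one, eq_comm,
        ZMod.intCast_eq_intCast_iff_dvd_sub]
      exact hab'
    haveI : NeZero (p ^ k) := ⟨(pow_pos hp.pos k).ne'⟩
    obtain ⟨u, hu'⟩ := hu
    have htot : (p ^ k).totient ∣ (p - 1) * p ^ n := by
      rw [Nat.totient_prime_pow hp hk0, mul_comm (p - 1)]
      exact Nat.mul_dvd_mul_right (pow_dvd_pow p (by omega)) _
    have h1 : (a : ZMod (p ^ k)) ^ ((p - 1) * p ^ n) = 1 := by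
      obtain ⟨c, hc⟩ := htot
      rw [← hu', ← Units.val_pow_eq_pow_val, hc, pow_mul, ZMod.pow_totient, one_pow, Units.val_one]
    rw [← Int.cast_pow, ← Int.cast_one, eq_comm, ZMod.intCast_eq_intCast_iff_dvd_sub, ← hk,
      orderOf_dvd_iff_zpow_eq_one, zpow_sub, zpow_one, mul_inv_eq_one] at h1
    exact h1.symm
  obtain ⟨r, hr⟩ := isPGroup_factorStab hP hd.zero hd.last ⟨_, hmem⟩
  have hr' : α ^ ((p - 1) * p ^ n * p ^ r) = 1 := by
    have := congrArg Subtype.val hr
    simp only [SubmonoidClass.coe_pow, OneMemClass.coe_one, ← pow_mul] at this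
    exact this
  rw [← orderOf_dvd_iff_pow_eq_one]
  rw [mul_assoc, ← pow_add, ← orderOf_dvd_iff_pow_eq_one] at hr'
  exact (Nat.Coprime.pow_right _ hcop).dvd_of_dvd_mul_right hr'

/-- A linear map with `f ^ (p - 1) = 1` on a nontrivial space over `ZMod p` has an eigenvector. -/
theorem exists_eigen_linear {V : Type*} [AddCommGroup V] [Module (ZMod p) V] [Finite V]
    [Nontrivial V] (f : V →ₗ[ZMod p] V) (hf : ∀ v : V, ((⇑f)^[p - 1]) v = v) :
    ∃ (a : ZMod p) (v : V), v ≠ 0 ∧ f v = a • v := by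
  have hp : p.Prime := Fact.out
  haveI : Module.Finite (ZMod p) V := Module.Finite.of_finite
  have hann : Polynomial.aeval (R := ZMod p) (A := Module.End (ZMod p) V) f
      (Polynomial.X ^ p - Polynomial.X) = 0 := by
    rw [map_sub, map_pow, Polynomial.aeval_X]
    refine LinearMap.ext fun v => ?_
    have h := Function.iterate_succ_apply' (⇑f) (p - 1) v
    rw [Nat.succ_eq_add_one, Nat.sub_add_cancel hp.pos, hf] at h
    rw [LinearMap.sub_apply, Module.End.coe_pow, h, sub_self, LinearMap.zero_apply]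
  have hint : IsIntegral (ZMod p) (f : Module.End (ZMod p) V) := Algebra.IsIntegral.isIntegral _
  have hne : (Polynomial.X ^ p - Polynomial.X : Polynomial (ZMod p)) ≠ 0 :=
    FiniteField.X_pow_card_sub_X_ne_zero (ZMod p) hp.one_lt
  obtain ⟨a, ha⟩ := ((GaloisField.splits_zmod_X_pow_sub_X p).of_dvd hne
    (minpoly.dvd _ _ hann)).exists_eval_eq_zero (minpoly.degree_pos hint).ne'
  obtain ⟨v, hv⟩ := (Module.End.hasEigenvalue_of_isRoot ha).exists_hasEigenvector
  exact ⟨a, v, hv.2, hv.apply_eq_smul⟩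

/-- A power map of exponent dividing `p - 1` on a nontrivial elementary abelian group has an
eigenvector. -/
theorem exists_eigen {V : Type*} [AddCommGroup V] [Finite V] [Nontrivial V]
    (hV : ∀ v : V, p • v = 0) (T : V →+ V) (hT : ∀ v : V, ((⇑T)^[p - 1]) v = v) :
    ∃ (a : ℕ) (v : V), v ≠ 0 ∧ T v = a • v := by
  letI : Module (ZMod p) V := AddCommGroup.zmodModule hV
  obtain ⟨a, v, hv, h⟩ := exists_eigen_linear (T.toZModLinearMap p) hT
  refine ⟨a.val, v, hv, ?_⟩
  rw [← ZMod.natCast_zmod_val a, Nat.cast_smul_eq_nsmul] at h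
  exact h

/-- Commuting automorphisms of exponent dividing `p - 1` fix a common subgroup of order `p` in the
centre. -/
theorem exists_common_eigen (hP : IsPGroup p P) [Nontrivial P] (H : Set (MulAut P))
    (hc : ∀ h ∈ H, ∀ k ∈ H, h * k = k * h) (he : ∀ h ∈ H, h ^ (p - 1) = 1) :
    ∃ z : P, z ≠ 1 ∧ z ∈ center P ∧ z ^ p = 1 ∧ ∀ h ∈ H, ∃ a : ℕ, h z = z ^ a := by
  classical
  haveI : Finite (MulAut P) :=
    Finite.of_injective (fun a : MulAut P => (a : P → P)) fun _ _ h => MulEquiv.ext (congrFun h)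
  suffices key : ∀ s : Finset (MulAut P), (↑s : Set (MulAut P)) ⊆ H → ∃ W : Subgroup P, W ≠ ⊥ ∧
      W ≤ center P ∧ (∀ w ∈ W, w ^ p = 1) ∧ (∀ h ∈ H, ∀ w ∈ W, h w ∈ W) ∧
      ∀ h ∈ s, ∃ a : ℕ, ∀ w ∈ W, h w = w ^ a by
    obtain ⟨W, hW, hWc, hWp, -, hWs⟩ := key (Set.toFinite H).toFinset (by simp)
    obtain ⟨z, hz, hz1⟩ := W.bot_or_exists_ne_one.resolve_left hW
    refine ⟨z, hz1, hWc hz, hWp z hz, fun h hh => ?_⟩
    obtain ⟨a, ha⟩ := hWs h (by simpa using hh)
    exact ⟨a, ha z hz⟩
  intro s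
  induction s using Finset.induction with
  | empty =>
    intro _
    let W : Subgroup P :=
      { carrier := {x | x ∈ center P ∧ x ^ p = 1}
        one_mem' := ⟨one_mem _, one_pow p⟩
        mul_mem' := fun {x y} hx hy => ⟨mul_mem hx.1 hy.1, by
          have hxy : Commute x y := mem_center_iff.mp hy.1 x
          rw [hxy.mul_pow, hx.2, hy.2, one_mul]⟩
        inv_mem' := fun {x} hx => ⟨inv_mem hx.1, by rw [inv_pow, hx.2, inv_one]⟩ }
    refine ⟨W, ?_, fun w hw => hw.1, fun w hw => hw.2, fun h _ w hw => ⟨?_, ?_⟩, by simp⟩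
    · haveI := hP.center_nontrivial
      obtain ⟨x, hx⟩ := exists_prime_orderOf_dvd_card' (G := center P) p (by
        obtain ⟨j, hj⟩ := (hP.to_subgroup (center P)).exists_card_eq
        rw [hj]
        refine dvd_pow_self p fun hj0 => ?_
        rw [hj0, pow_zero] at hj
        exact (Finite.one_lt_card (α := center P)).ne' hj)
      intro hb
      have hxW : (x : P) ∈ W := ⟨x.2, by rw [← SubmonoidClass.coe_pow, ← hx, pow_orderOf_eq_one]; rfl⟩
      rw [hb, mem_bot] at hxW
      have : x = 1 := Subtype.ext hxW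
      rw [this, orderOf_one] at hx
      exact (Fact.out : p.Prime).ne_one hx.symm
    · exact (Subgroup.characteristic_iff_map_le.mp (inferInstance : (center P).Characteristic) h)
        ⟨w, hw.1, rfl⟩
    · rw [← map_pow, hw.2, map_one]
  | insert g s hg ih =>
    intro hsub
    rw [Finset.coe_insert, Set.insert_subset_iff] at hsub
    obtain ⟨W, hW, hWc, hWp, hWH, hWs⟩ := ih hsub.2
    haveI : Nontrivial W := (Subgroup.nontrivial_iff_ne_bot W).mpr hW
    letI : CommGroup W := { (inferInstance : Group W) with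
      mul_comm := fun a b => Subtype.ext (mem_center_iff.mp (hWc b.2) a) }
    let f : W →* W := (g.toMonoidHom.comp W.subtype).codRestrict W fun w => hWH g hsub.1 w w.2
    have hit : ∀ (j : ℕ) (w : Additive W),
        ((Additive.toMul ((f.toAdditive)^[j] w) : W) : P) = (g ^ j) ((Additive.toMul w : W) : P) := by
      intro j
      induction j with
      | zero => exact fun w => rfl
      | succ j ih =>
        intro w
        rw [Function.iterate_succ_apply', pow_succ', MulAut.mul_apply, ← ih]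
        rfl
    obtain ⟨a, v, hv, hva⟩ := exists_eigen (V := Additive W) (p := p)
      (fun w => Subtype.ext (hWp _ (Additive.toMul w).2)) f.toAdditive
      (fun w => Subtype.ext (by
        show ((Additive.toMul ((f.toAdditive)^[p - 1] w) : W) : P) = _
        rw [hit, he g hsub.1, MulAut.one_apply]
        rfl))
    let W' : Subgroup P :=
      { carrier := {w | w ∈ W ∧ g w = w ^ a}
        one_mem' := ⟨one_mem _, by simp⟩
        mul_mem' := fun {x y} hx hy => ⟨mul_mem hx.1 hy.1, by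
          have hxy : Commute x y := mem_center_iff.mp (hWc hy.1) x
          rw [map_mul, hx.2, hy.2, hxy.mul_pow]⟩
        inv_mem' := fun {x} hx => ⟨inv_mem hx.1, by rw [map_inv, hx.2, inv_pow]⟩ }
    refine ⟨W', fun hb => hv ?_, fun w hw => hWc hw.1, fun w hw => hWp w hw.1,
      fun h hh w hw => ⟨hWH h hh w hw.1, ?_⟩, fun h hh => ?_⟩
    · have hvW : ((Additive.toMul v : W) : P) ∈ W' :=
        ⟨(Additive.toMul v).2, congrArg (fun z : Additive W => ((Additive.toMul z : W) : P)) hva⟩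
      rw [hb, mem_bot] at hvW
      exact congrArg Additive.ofMul (Subtype.ext hvW : Additive.toMul v = 1)
    · rw [← MulAut.mul_apply, hc g hsub.1 h hh, MulAut.mul_apply, hw.2, map_pow]
    · rcases Finset.mem_insert.mp hh with rfl | hh
      · exact ⟨a, fun w hw => hw.2⟩
      · obtain ⟨b, hb⟩ := hWs h hh
        exact ⟨b, fun w hw => hb w hw.1⟩

end CfsgLib.Alperin
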