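import Cfsg.Agent.Lib.Alperin.Receptive
import Cfsg.Agent.Lib.FusionSub.Puig
import Cfsg.Agent.Lib.FusionBasics.KSaturated

/-!
A strongly closed direct factor of a saturated system.
-/

set_option autoImplicit false
set_option linter.style.haveILetI false
set_option linter.unusedSectionVars false

namespace CfsgLib.Alperin

open Cfsg Cfsg.FusionSystem CfsgLib.FusionSub

variable {Ω : Type*} [Group Ω] {S S₁ S₂ : Subgroup Ω} [Finite S] {F : FusionSystem S}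
variable {p : ℕ} [Fact p.Prime]

theorem exists_mul_of_le_sup {A B : Subgroup Ω} (h : ∀ a ∈ A, ∀ b ∈ B, a * b = b * a) {g : Ω}
    (hg : g ∈ A ⊔ B) : ∃ a ∈ A, ∃ b ∈ B, g = a * b := by
  let V : Subgroup Ω :=
    { carrier := {g | ∃ a ∈ A, ∃ b ∈ B, g = a * b}
      one_mem' := ⟨1, A.one_mem, 1, B.one_mem, (mul_one 1).symm⟩
      mul_mem' := by
        rintro _ _ ⟨a, ha, b, hb, rfl⟩ ⟨a', ha', b', hb', rfl⟩
        refine ⟨a * a', A.mul_mem ha ha', b * b', B.mul_mem hb hb', ?_⟩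
        rw [mul_assoc a b, ← mul_assoc b a', ← h a' ha' b hb]
        group
      inv_mem' := by
        rintro _ ⟨a, ha, b, hb, rfl⟩
        exact ⟨a⁻¹, A.inv_mem ha, b⁻¹, B.inv_mem hb, by
          rw [mul_inv_rev, h a⁻¹ (A.inv_mem ha) b⁻¹ (B.inv_mem hb)]⟩ }
  have hle : A ⊔ B ≤ V := sup_le (fun a ha => ⟨a, ha, 1, B.one_mem, (mul_one a).symm⟩)
    (fun b hb => ⟨1, A.one_mem, b, hb, (one_mul b).symm⟩)
  exact hle hg

/-- The full subsystem on a strongly closed factor with centralized complement is saturated. -/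
theorem isSaturated_factor (hF : F.IsSaturated p) (hcomm : ∀ a ∈ S₁, ∀ b ∈ S₂, a * b = b * a)
    (hS : S = S₁ ⊔ S₂) (h₁ : F.StronglyClosed S₁) (R : FusionSystem S₁)
    (hR : ∀ P : Subgroup Ω, P ≤ S₁ → R.Hom P = F.Hom P) : R.IsSaturated p := by
  have hdec : ∀ {P : Subgroup Ω}, P ≤ S₁ → ∀ g ∈ S, ∃ g₁ ∈ S₁, ∀ x ∈ P,
      g * x * g⁻¹ = g₁ * x * g₁⁻¹ := by
    intro P hP g hg
    obtain ⟨a, ha, b, hb, rfl⟩ := exists_mul_of_le_sup hcomm (hS.le hg)
    refine ⟨a, ha, fun x hx => ?_⟩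
    calc a * b * x * (a * b)⁻¹ = a * (b * x) * b⁻¹ * a⁻¹ := by group
      _ = a * (x * b) * b⁻¹ * a⁻¹ := by rw [hcomm x (hP hx) b hb]
      _ = a * x * a⁻¹ := by group
  intro P hP
  obtain ⟨Q, hPQ, ha, hr⟩ := hF P (hP.trans h₁.1)
  obtain ⟨φ, hφ, rfl⟩ := hPQ
  have hQ : φ.range ≤ S₁ := by
    rintro _ ⟨x, rfl⟩
    exact h₁.2 P hP φ hφ x
  refine ⟨φ.range, ⟨φ, (hR P hP).ge hφ, rfl⟩, ?_, hQ, fun P' ψ hψ hψr => ?_⟩
  · have hA : R.autGroup φ.range = F.autGroup φ.range := by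
      ext α
      rw [mem_autGroup_iff R hQ, mem_autGroup_iff F (hQ.trans h₁.1), hR _ hQ]
    have hI : autInducedBy S₁ φ.range = autInducedBy S φ.range := by
      ext α
      rw [mem_autInducedBy_iff, mem_autInducedBy_iff]
      constructor
      · rintro ⟨g, hg, hx⟩
        exact ⟨g, h₁.1 hg, hx⟩
      · rintro ⟨g, hg, hx⟩
        obtain ⟨g₁, hg₁, he⟩ := hdec hQ g hg
        exact ⟨g₁, hg₁, fun x => (hx x).trans (he x x.2)⟩
    refine ⟨hQ, ?_⟩
    rw [hA, hI]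
    exact ha.2
  · have hP' : P' ≤ S₁ := dom_le hψ
    have hψF : ψ ∈ F.Hom P' := (hR P' hP').le hψ
    obtain ⟨χ, hχ, hχx⟩ := hr.2 P' ψ hψF hψr
    have hle : extender S₁ P' ψ ≤ extender S P' ψ := fun g hg => by
      obtain ⟨hgS, hgN, h, hh, hx⟩ := mem_extender_iff.mp hg
      exact mem_extender_iff.mpr ⟨h₁.1 hgS, hgN, h, h₁.1 hh, hx⟩
    have hE : extender S₁ P' ψ ≤ S₁ := extender_le P' ψ
    exact ⟨χ.comp (Subgroup.inclusion hle), (hR _ hE).ge (restrict_mem hχ hle),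
      fun x hx hN => hχx x hx (hle hN)⟩

/-- Maps inside a direct factor extend over the other factor. -/
theorem exists_ext_factor (hSp : IsPGroup p S) (hF : F.IsSaturated p) (hbot : S₁ ⊓ S₂ = ⊥)
    (h₁ : F.StronglyClosed S₁) (h₂ : F.StronglyClosed S₂) {P : Subgroup Ω} (hP : P ≤ S₁)
    {φ : P →* Ω} (hφ : φ ∈ F.Hom P) :
    ∃ ψ ∈ F.Hom (P ⊔ S₂), (∀ x : P, ψ (Subgroup.inclusion le_sup_left x) = φ x) ∧
      ∃ β ∈ F.autGroup S₂, ∀ y : S₂, ψ (Subgroup.inclusion le_sup_right y) = ((β y : S₂) : Ω) := by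
  obtain ⟨ψ, hψ, hψx⟩ := exists_lift_mod hSp hF h₂ hφ
  refine ⟨ψ, hψ, fun x => ?_, ?_⟩
  · have h : ψ (Subgroup.inclusion le_sup_left x) * (φ x)⁻¹ ∈ S₁ ⊓ S₂ :=
      ⟨S₁.mul_mem (stronglyClosed_apply h₁ hψ _ (hP x.2)) (S₁.inv_mem (h₁.2 P hP φ hφ x)), hψx x⟩
    rw [hbot, Subgroup.mem_bot, mul_inv_eq_one] at h
    exact h
  · haveI := finite_of_le h₂.1
    obtain ⟨β, hβ, hβx⟩ := exists_aut_of_hom' F (restrict_mem hψ (le_sup_right : S₂ ≤ P ⊔ S₂))
      fun y => stronglyClosed_apply h₂ hψ _ y.2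
    exact ⟨β, hβ, fun y => (hβx y).symm⟩

/-- **A strongly closed direct factor.** -/
theorem directFactor (hS : IsPGroup p S) (hF : F.IsSaturated p)
    (hprod : Cfsg.IsInternalDirectProduct S₁ S₂ S) (h₁ : F.StronglyClosed S₁)
    (h₂ : F.StronglyClosed S₂) (R R' : FusionSystem S₁)
    (hR : ∀ P : Subgroup Ω, P ≤ S₁ → R.Hom P = F.Hom P)
    (hR' : ∀ P : Subgroup Ω, P ≤ S₁ → R'.Hom P = F.centralizerHom S₂ P) :
    R.IsSaturated p ∧ R'.IsSaturated p ∧ R'.IsNormalIn F p ∧ R'.IsNormalIn R p ∧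
      R.IsWeaklyNormalIn F p := by
  obtain ⟨hS1, hS2, hcomm, hbot, hsup⟩ := hprod
  haveI : Finite S₁ := finite_of_le hS1
  haveI : Finite S₂ := finite_of_le hS2
  have hRsat := isSaturated_factor hF hcomm hsup.symm h₁ R hR
  have hRF : R.IsSubsystemOf F := fun P φ hφ => (hR P (dom_le hφ)).le hφ
  have hR'F : R'.IsSubsystemOf F := fun P φ hφ => ((hR' P (dom_le hφ)).le hφ).1
  have hC : ∀ {P : Subgroup Ω}, P ≤ S₁ → P ≤ centralizerIn S S₂ := fun hP x hx =>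
    ⟨hS1 (hP hx), fun y hy => (hcomm x (hP hx) y hy).symm⟩
  -- membership in `R'`
  have hR'mem : ∀ {P : Subgroup Ω} (hP : P ≤ S₁) {φ : P →* Ω}, φ ∈ F.Hom P →
      (∃ ψ ∈ F.Hom (P ⊔ S₂), (∀ x : P, ψ (Subgroup.inclusion le_sup_left x) = φ x) ∧
        ∀ y : S₂, ψ (Subgroup.inclusion le_sup_right y) = y) → φ ∈ R'.Hom P := by
    intro P hP φ hφ h
    rw [hR' P hP]
    exact ⟨hφ, hC hP, fun x => hC le_rfl (h₁.2 P hP φ hφ x), h⟩
  have hR'sat : R'.IsSaturated p := by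
    obtain ⟨C, hC'⟩ := CfsgLib.FusionBasics.exists_centralizerSystem F hS2
    have hS2n : F.IsFullyNormalized S₂ := by
      refine ⟨hS2, fun Q ⟨φ, hφ, hr⟩ => ?_⟩
      have hQ : Q ≤ S₂ := by
        rw [← hr]
        rintro _ ⟨x, rfl⟩
        exact h₂.2 S₂ le_rfl φ hφ x
      rw [Subgroup.eq_of_le_of_card_ge hQ (by rw [← hr, card_range_eq (F.injective_of_mem hφ)])]
    haveI := finite_autGroup F hS2
    have hCs : C.IsSaturated p := by
      refine CfsgLib.FusionBasics.kSystem_saturated hS hF (K := ⊥)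
        (receptive_of_fullyNormalized hS hF hS2n) ?_ ?_ C
        fun P => (hC' P).trans (CfsgLib.FusionBasics.kHom_bot F S₂ P).symm
      · rw [inf_bot_eq, inf_bot_eq, Subgroup.card_bot, Nat.factorization_one]
        simp
      · ext g
        refine ⟨fun hg => ⟨hg.1, 1, Subgroup.one_mem _, fun y => ?_⟩, ?_⟩
        · rw [MulAut.one_apply, ← hg.2 y y.2, mul_inv_cancel_right]
        · rintro ⟨hg, β, hβ, hx⟩
          rw [Subgroup.mem_bot] at hβ
          subst hβ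
          refine ⟨hg, fun y hy => ?_⟩
          have : y = g * y * g⁻¹ := hx ⟨y, hy⟩
          exact (mul_inv_eq_iff_eq_mul.mp this.symm).symm
    haveI : Finite (centralizerIn S S₂) := finite_of_le (centralizerIn_le S S₂)
    have hCF : C.IsSubsystemOf F := fun P φ hφ => ((hC' P).le hφ).1
    refine isSaturated_factor (S₂ := centralizerIn S S₂ ⊓ S₂) hCs
      (fun a ha b hb => hcomm a ha b hb.2) ?_ ⟨hC le_rfl, fun P hP φ hφ x => h₁.2 P hP φ (hCF P hφ) x⟩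
      R' fun P hP => by rw [hR' P hP, hC' P]
    refine le_antisymm (fun g hg => ?_) (sup_le (hC le_rfl) inf_le_left)
    obtain ⟨a, ha, b, hb, rfl⟩ := exists_mul_of_le_sup hcomm (hsup.ge hg.1)
    refine Subgroup.mul_mem _ (Subgroup.mem_sup_left ha) (Subgroup.mem_sup_right ⟨?_, hb⟩)
    have := (centralizerIn S S₂).mul_mem ((centralizerIn S S₂).inv_mem (hC le_rfl ha)) hg
    rwa [inv_mul_cancel_left] at this
  -- decomposition of a map
  have hfrat : ∀ {P : Subgroup Ω}, P ≤ S₁ → ∀ {φ : P →* Ω}, φ ∈ F.Hom P →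
      ∃ α ∈ F.autGroup S₁, ∃ φ₀ ∈ R'.Hom P,
        ∀ (x : P) (hx : φ₀ x ∈ S₁), φ x = ((α ⟨φ₀ x, hx⟩ : S₁) : Ω) := by
    intro P hP φ hφ
    obtain ⟨ψ, hψ, hψx, β, hβ, hβx⟩ := exists_ext_factor hS hF hbot h₁ h₂ hP hφ
    obtain ⟨χ, hχ, hχx, α, hα, hαx⟩ := exists_ext_factor hS hF (inf_comm S₁ S₂ ▸ hbot) h₂ h₁ le_rfl
      ((mem_autGroup_iff F hS2).mp hβ)
    haveI := finite_of_le (sup_le hS2 hS1)
    have hχr : χ.range = S₂ ⊔ S₁ := by
      refine Subgroup.eq_of_le_of_card_ge ?_ (card_range_eq (F.injective_of_mem hχ)).ge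
      rintro _ ⟨z, rfl⟩
      exact CfsgLib.FusionBasics.apply_mem_of_sup χ
        (fun y => Subgroup.mem_sup_left (hχx y ▸ (β y).2))
        (fun x => Subgroup.mem_sup_right (hαx x ▸ (α x).2)) z
    obtain ⟨θ, hθ, -, hθx, -⟩ := exists_inverse hχ hχr
    have hm : ∀ z, ψ z ∈ S₂ ⊔ S₁ := fun z => CfsgLib.FusionBasics.apply_mem_of_sup ψ
      (fun x => Subgroup.mem_sup_right (hψx x ▸ h₁.2 P hP φ hφ x))
      (fun y => Subgroup.mem_sup_left (hβx y ▸ (β y).2)) z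
    set Ψ := θ.comp (ψ.codRestrict _ hm) with hΨ
    have hΨF : Ψ ∈ F.Hom (P ⊔ S₂) := F.comp_mem hψ hθ hm
    have hαi : ∀ (x : P), Ψ (Subgroup.inclusion le_sup_left x) =
        ((α⁻¹ ⟨φ x, h₁.2 P hP φ hφ x⟩ : S₁) : Ω) := by
      intro x
      refine Eq.trans (congrArg θ (Subtype.ext ?_))
        (hθx (Subgroup.inclusion le_sup_right (α⁻¹ ⟨φ x, h₁.2 P hP φ hφ x⟩)) (hχr.le ⟨_, rfl⟩))
      show ψ _ = χ _
      rw [hαx, hψx, MulAut.apply_inv_self]
    refine ⟨α, hα, Ψ.comp (Subgroup.inclusion le_sup_left), ?_, fun x hx => ?_⟩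
    · refine hR'mem hP (restrict_mem hΨF _) ⟨Ψ, hΨF, fun _ => rfl, fun y => ?_⟩
      refine Eq.trans (congrArg θ (Subtype.ext ?_))
        (hθx (Subgroup.inclusion le_sup_left y) (hχr.le ⟨_, rfl⟩))
      show ψ _ = χ _
      rw [hχx, hβx]
      rfl
    · rw [show (⟨(Ψ.comp (Subgroup.inclusion le_sup_left)) x, hx⟩ : S₁) =
        α⁻¹ ⟨φ x, h₁.2 P hP φ hφ x⟩ from Subtype.ext (hαi x), MulAut.apply_inv_self]
  -- transport by automorphisms of `S₁`
  have hconj : ∀ (P : Subgroup Ω) (hPS : P ≤ S₁) (φ : P →* Ω), φ ∈ R'.Hom P →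
      ∀ α ∈ F.autGroup S₁, ∃ χ ∈ R'.Hom ((P.subgroupOf S₁).map (S₁.subtype.comp α.toMonoidHom)),
        ∀ (x : P) (hφx : φ x ∈ S₁)
          (hαx : ((α ⟨x, hPS x.2⟩ : S₁) : Ω) ∈ (P.subgroupOf S₁).map (S₁.subtype.comp α.toMonoidHom)),
          χ ⟨(α ⟨x, hPS x.2⟩ : S₁), hαx⟩ = ((α ⟨φ x, hφx⟩ : S₁) : Ω) := by
    intro P hPS φ hφ α hα
    obtain ⟨hφF, -, -, ψ, hψ, hψx, hψy⟩ := (hR' P hPS).le hφ
    obtain ⟨A, hA, hAx, β, hβ, hβy⟩ := exists_ext_factor hS hF hbot h₁ h₂ le_rfl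
      ((mem_autGroup_iff F hS1).mp hα)
    haveI := finite_of_le (sup_le hS1 hS2)
    have hAr : A.range = S₁ ⊔ S₂ := by
      refine Subgroup.eq_of_le_of_card_ge ?_ (card_range_eq (F.injective_of_mem hA)).ge
      rintro _ ⟨z, rfl⟩
      exact CfsgLib.FusionBasics.apply_mem_of_sup A
        (fun x => Subgroup.mem_sup_left (hAx x ▸ (α x).2))
        (fun y => Subgroup.mem_sup_right (hβy y ▸ (β y).2)) z
    obtain ⟨θ, hθ, -, hθx, hθy⟩ := exists_inverse hA hAr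
    set P' := (P.subgroupOf S₁).map (S₁.subtype.comp α.toMonoidHom) with hP'
    have hP'S : P' ≤ S₁ := by
      rintro _ ⟨x, -, rfl⟩
      exact (α x).2
    set θ' := θ.comp (Subgroup.inclusion (sup_le_sup_right hP'S S₂)) with hθ'
    have hm1 : ∀ z, θ' z ∈ P ⊔ S₂ := fun z => by
      refine CfsgLib.FusionBasics.apply_mem_of_sup θ' ?_ (fun y => Subgroup.mem_sup_right ?_) z
      · rintro ⟨_, ⟨x, hxS⟩, hxP, rfl⟩
        refine Subgroup.mem_sup_left (Eq.subst (motive := fun w => w ∈ P) ?_ (show x ∈ P from hxP))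
        refine ((congrArg θ (Subtype.ext ?_)).trans
          (hθx (Subgroup.inclusion le_sup_left ⟨x, hxS⟩) (hAr.le ⟨_, rfl⟩))).symm
        exact (hAx _).symm
      · obtain ⟨w, hw⟩ : ∃ w, β w = y := β.surjective y
        have : θ' (Subgroup.inclusion le_sup_right y) = (w : Ω) := by
          refine (congrArg θ (Subtype.ext ?_)).trans
            (hθx (Subgroup.inclusion le_sup_right w) (hAr.le ⟨_, rfl⟩))
          show (y : Ω) = A _
          rw [hβy, hw]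
        exact this ▸ w.2
    have hm2 : ∀ z, (ψ.comp (θ'.codRestrict _ hm1)) z ∈ S₁ ⊔ S₂ := fun z => by
      refine CfsgLib.FusionBasics.apply_mem_of_sup ψ (fun x => Subgroup.mem_sup_left ?_)
        (fun y => Subgroup.mem_sup_right ?_) _
      · rw [hψx]; exact h₁.2 P hPS φ hφF x
      · rw [hψy]; exact y.2
    set Ψ := A.comp ((ψ.comp (θ'.codRestrict _ hm1)).codRestrict _ hm2) with hΨ
    have hΨF : Ψ ∈ F.Hom (P' ⊔ S₂) := F.comp_mem (F.comp_mem (restrict_mem hθ _) hψ hm1) hA hm2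
    refine ⟨Ψ.comp (Subgroup.inclusion le_sup_left), hR'mem hP'S (restrict_mem hΨF _)
      ⟨Ψ, hΨF, fun _ => rfl, fun y => ?_⟩, fun x hφx hαx => ?_⟩
    · obtain ⟨w, hw⟩ : ∃ w, β w = y := β.surjective y
      have e1 : θ' (Subgroup.inclusion le_sup_right y) = (w : Ω) := by
        refine (congrArg θ (Subtype.ext ?_)).trans
          (hθx (Subgroup.inclusion le_sup_right w) (hAr.le ⟨_, rfl⟩))
        show (y : Ω) = A _
        rw [hβy, hw]
      refine Eq.trans (congrArg A (a₂ := Subgroup.inclusion le_sup_right w) (Subtype.ext ?_))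
        ((hβy w).trans (congrArg Subtype.val hw))
      refine Eq.trans (congrArg ψ (a₂ := Subgroup.inclusion le_sup_right w) (Subtype.ext ?_)) (hψy w)
      exact e1
    · refine Eq.trans (congrArg A (a₂ := Subgroup.inclusion le_sup_left ⟨φ x, hφx⟩) (Subtype.ext ?_))
        (hAx _)
      refine Eq.trans (congrArg ψ (a₂ := Subgroup.inclusion le_sup_left x) (Subtype.ext ?_)) (hψx x)
      refine (congrArg θ (Subtype.ext ?_)).trans
        (hθx (Subgroup.inclusion le_sup_left ⟨x, hPS x.2⟩) (hAr.le ⟨_, rfl⟩))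
      exact (hAx _).symm
  refine ⟨hRsat, hR'sat, ⟨⟨hR'sat, hF, hR'F, h₁, hconj, fun P hP φ hφ => hfrat hP hφ⟩, ?_⟩,
    ⟨⟨hR'sat, hRsat, ?_, ⟨le_rfl, fun P hP φ hφ x => h₁.2 P hP φ (hRF P hφ) x⟩, ?_, ?_⟩, ?_⟩,
    ⟨hRsat, hF, hRF, h₁, ?_, ?_⟩⟩
  · -- extension condition in `F`
    intro α hα
    obtain ⟨hαF, -, -, ψ, hψ, hψx, hψy⟩ := (hR' S₁ le_rfl).le ((mem_autGroup_iff R' le_rfl).mp hα)
    have hCS : S₁ ⊔ centralizerIn S S₁ ≤ S₁ ⊔ S₂ :=
      (sup_le hS1 (centralizerIn_le S S₁)).trans hsup.ge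
    haveI := finite_of_le (sup_le hS1 (centralizerIn_le S S₁))
    have hm : ∀ z, (ψ.comp (Subgroup.inclusion hCS)) z ∈ S₁ ⊔ centralizerIn S S₁ := by
      refine CfsgLib.FusionBasics.apply_mem_of_sup _ (fun x => ?_) (fun c => ?_)
      · refine Subgroup.mem_sup_left (show _ ∈ S₁ from ?_)
        rw [show (ψ.comp (Subgroup.inclusion hCS)) (Subgroup.inclusion le_sup_left x) = _ from hψx x]
        exact (α x).2
      · obtain ⟨a, ha, b, hb, hab⟩ := exists_mul_of_le_sup hcomm (hsup.ge c.2.1)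
        have e : (ψ.comp (Subgroup.inclusion hCS)) (Subgroup.inclusion le_sup_right c) =
            ((α ⟨a, ha⟩ : S₁) : Ω) * b := by
          rw [show (ψ.comp (Subgroup.inclusion hCS)) (Subgroup.inclusion le_sup_right c) =
            ψ (Subgroup.inclusion le_sup_left ⟨a, ha⟩ * Subgroup.inclusion le_sup_right ⟨b, hb⟩) from
              congrArg ψ (Subtype.ext hab), map_mul, hψx, hψy]
          rfl
        rw [e]
        exact mul_mem (Subgroup.mem_sup_left (α ⟨a, ha⟩).2)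
          (Subgroup.mem_sup_right ⟨hS2 hb, fun x hx => hcomm x hx b hb⟩)
    obtain ⟨β, hβ, hβx⟩ := exists_aut_of_hom' F (restrict_mem hψ hCS) hm
    refine ⟨β, hβ, fun x => (hβx _).trans (hψx x), fun c hc => ?_⟩
    obtain ⟨a, ha, b, hb, hab⟩ := exists_mul_of_le_sup hcomm (hsup.ge hc.1)
    have haC : a ∈ Subgroup.centralizer (S₁ : Set Ω) := by
      have hbC : b ∈ Subgroup.centralizer (S₁ : Set Ω) := fun x hx => hcomm x hx b hb
      have := Subgroup.mul_mem _ hc.2 (Subgroup.inv_mem _ hbC)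
      rwa [hab, mul_inv_cancel_right] at this
    have hαa : ((α ⟨a, ha⟩ : S₁) : Ω) ∈ Subgroup.centralizer (S₁ : Set Ω) := fun x hx => by
      obtain ⟨u, hu⟩ := α.surjective ⟨x, hx⟩
      have h2 : u * ⟨a, ha⟩ = ⟨a, ha⟩ * u := Subtype.ext (haC u u.2)
      have h3 := congrArg (fun v : S₁ => ((α v : S₁) : Ω)) h2
      simp only [map_mul, hu] at h3
      exact h3
    have e : ((β c : ↥(S₁ ⊔ centralizerIn S S₁)) : Ω) = ((α ⟨a, ha⟩ : S₁) : Ω) * b := by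
      rw [hβx, show (ψ.comp (Subgroup.inclusion hCS)) c =
          ψ (Subgroup.inclusion le_sup_left ⟨a, ha⟩ * Subgroup.inclusion le_sup_right ⟨b, hb⟩) from
            congrArg ψ (Subtype.ext hab), map_mul, hψx, hψy]
      rfl
    have e2 : (c : Ω)⁻¹ * ((β c : ↥(S₁ ⊔ centralizerIn S S₁)) : Ω) =
        a⁻¹ * ((α ⟨a, ha⟩ : S₁) : Ω) := by
      rw [e, hab, mul_inv_rev, mul_assoc, ← mul_assoc a⁻¹,
        hcomm _ (S₁.mul_mem (S₁.inv_mem ha) (α ⟨a, ha⟩).2) b hb, inv_mul_cancel_left]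
    rw [e2]
    exact ⟨S₁.mul_mem (S₁.inv_mem ha) (α ⟨a, ha⟩).2,
      Subgroup.mul_mem _ (Subgroup.inv_mem _ haC) hαa⟩
  · exact fun P φ hφ => (hR P (dom_le hφ)).ge (hR'F P hφ)
  · intro P hP φ hφ α hα
    exact hconj P hP φ hφ α (by
      rw [mem_autGroup_iff F hS1, ← hR S₁ le_rfl]
      exact (mem_autGroup_iff R le_rfl).mp hα)
  · intro P hP φ hφ
    obtain ⟨α, hα, φ₀, hφ₀, hx⟩ := hfrat hP ((hR P hP).le hφ)
    refine ⟨α, ?_, φ₀, hφ₀, hx⟩
    rw [mem_autGroup_iff R le_rfl, hR S₁ le_rfl]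
    exact (mem_autGroup_iff F hS1).mp hα
  · -- extension condition in `R`
    intro α hα
    have hαR : S₁.subtype.comp α.toMonoidHom ∈ R.Hom S₁ :=
      (hR S₁ le_rfl).ge (hR'F S₁ ((mem_autGroup_iff R' le_rfl).mp hα))
    have hle : S₁ ⊔ centralizerIn S₁ S₁ ≤ S₁ := sup_le le_rfl (centralizerIn_le S₁ S₁)
    haveI := finite_of_le hle
    obtain ⟨β, hβ, hβx⟩ := exists_aut_of_hom' R (restrict_mem hαR hle) fun z =>
      Subgroup.mem_sup_left (α _).2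
    refine ⟨β, hβ, fun x => hβx _, fun c hc => ?_⟩
    have hαc : ((α ⟨c, hc.1⟩ : S₁) : Ω) ∈ Subgroup.centralizer (S₁ : Set Ω) := fun x hx => by
      obtain ⟨u, hu⟩ := α.surjective ⟨x, hx⟩
      have h2 : u * ⟨c, hc.1⟩ = ⟨c, hc.1⟩ * u := Subtype.ext (hc.2 u u.2)
      have h3 := congrArg (fun v : S₁ => ((α v : S₁) : Ω)) h2
      simp only [map_mul, hu] at h3
      exact h3
    rw [hβx]
    exact ⟨S₁.mul_mem (S₁.inv_mem hc.1) (α _).2, Subgroup.mul_mem _ (Subgroup.inv_mem _ hc.2) hαc⟩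
  · -- invariance of `R`
    intro P hP φ hφ α hα
    have hαF := (mem_autGroup_iff F hS1).mp hα
    have hφF := hRF P hφ
    set f := (S₁.subtype.comp α.toMonoidHom).comp (Subgroup.inclusion hP) with hf
    obtain ⟨θ, hθ, hθr, hθx, -⟩ := exists_inverse (restrict_mem hαF hP) rfl
    have hP' : (P.subgroupOf S₁).map (S₁.subtype.comp α.toMonoidHom) = f.range :=
      (range_comp_inclusion _ _).symm
    rw [hP']
    have hm : ∀ z, θ z ∈ P := fun z => hθr.le ⟨z, rfl⟩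
    have hm2 : ∀ z, (φ.comp (θ.codRestrict P hm)) z ∈ S₁ := fun z => h₁.2 P hP φ hφF _
    refine ⟨_, (hR _ (show f.range ≤ S₁ by rintro _ ⟨z, rfl⟩; exact (α _).2)).ge
      (F.comp_mem (F.comp_mem hθ hφF hm) hαF hm2), fun x hφx hαx => ?_⟩
    exact congrArg (fun v : S₁ => ((α v : S₁) : Ω))
      (Subtype.ext (congrArg φ (Subtype.ext (hθx x hαx))))
  · intro P hP φ hφ
    exact ⟨1, Subgroup.one_mem _, φ, (hR P hP).ge hφ, fun x hx => rfl⟩

end CfsgLib.Alperin
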