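import Cfsg.Agent.Lib.Alperin.CyclicSeries
import Cfsg.Agent.Lib.Cores.PCore
import Cfsg.Agent.Lib.PGroups.Frattini

/-!
Two-generated abelian `p`-groups carrying a group of automorphisms with trivial `O_p` and order
divisible by `p`.
-/

set_option autoImplicit false
set_option linter.style.haveILetI false
set_option linter.unusedSectionVars false

open scoped commutatorElement

namespace CfsgLib.Alperin

open Subgroup

/-- A group of automorphisms with trivial `O_p` and order divisible by `p` preserves no series with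
cyclic steps. -/
theorem not_preserves_cyclicSeries {P : Type*} [Group P] [Finite P] {p : ℕ} [Fact p.Prime]
    (hP : IsPGroup p P) {A : Subgroup (MulAut P)} (hdvd : p ∣ Nat.card A)
    (hcore : Cfsg.pCore p A = ⊥) {m : ℕ} {d : Fin (m + 1) → Subgroup P} (hd : CyclicSeries d) :
    ¬ ∀ α ∈ A, Preserves d α := by
  intro hpres
  haveI : Finite (MulAut P) :=
    Finite.of_injective (fun a : MulAut P => (a : P → P)) fun _ _ h => MulEquiv.ext (congrFun h)
  let N : Subgroup A := (factorStab d).subgroupOf A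
  have hcomm : ∀ a b : A, ⁅a, b⁆ ∈ N := fun a b => by
    show ((⁅a, b⁆ : A) : MulAut P) ∈ factorStab d
    exact commutatorElement_mem_factorStab hd (hpres _ a.2) (hpres _ b.2)
  haveI hNn : N.Normal := ⟨fun x hx g => by
    rw [show g * x * g⁻¹ = ⁅g, x⁆ * x by simp [commutatorElement_def]]
    exact mul_mem (hcomm g x) hx⟩
  obtain ⟨R⟩ := (inferInstance : Nonempty (Sylow p A))
  haveI : (N ⊔ (R : Subgroup A)).Normal := ⟨fun x hx g => by
    rw [show g * x * g⁻¹ = ⁅g, x⁆ * x by simp [commutatorElement_def]]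
    exact mul_mem (Subgroup.mem_sup_left (hcomm g x)) hx⟩
  have hle : N ⊔ (R : Subgroup A) ≤ Cfsg.pCore p A := by
    refine le_sSup ⟨inferInstance, IsPGroup.to_sup_of_normal_left ?_ R.2⟩
    exact (isPGroup_factorStab hP hd.zero hd.last).comap_of_injective _ A.subtype_injective
  exact R.ne_bot_of_dvd_card hdvd (le_bot_iff.mp ((le_sup_right.trans hle).trans hcore.le))

variable {H : Type*} [CommGroup H] [Finite H] {p : ℕ} [Fact p.Prime]

/-- The subgroup of `p`-th powers. -/
def powSub (H : Type*) [CommGroup H] (p : ℕ) : Subgroup H := (powMonoidHom p : H →* H).range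

theorem powSub_eq_frattini (hH : IsPGroup p H) : powSub H p = frattini H := by
  refine le_antisymm ?_ (PGroups.frattini_le_of ?_ fun x => ⟨x, rfl⟩)
  · rintro _ ⟨x, rfl⟩
    exact PGroups.pow_mem_frattini hH x
  · rw [commutator_def, Subgroup.commutator_le]
    intro a _ b _
    rw [commutatorElement_eq_one_iff_mul_comm.mpr (mul_comm a b)]
    exact one_mem _

theorem map_mem_powSub (x : MulAut H) {y : H} (hy : y ∈ powSub H p) : x y ∈ powSub H p := by
  obtain ⟨z, rfl⟩ := hy
  exact ⟨x z, by simp⟩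

/-- An automorphism trivial modulo `p`-th powers has `p`-power order. -/
theorem exists_pow_eq_one_of_trivial_mod (hH : IsPGroup p H) {x : MulAut H}
    (hx : ∀ h : H, h⁻¹ * x h ∈ powSub H p) : ∃ k : ℕ, x ^ p ^ k = 1 := by
  obtain ⟨n, hn⟩ := hH.exists_card_eq
  let d : Fin (n + 1) → Subgroup H := fun i => (powMonoidHom (p ^ (n - i)) : H →* H).range
  have h0 : d 0 = ⊥ := (Subgroup.eq_bot_iff_forall _).mpr (by
    rintro _ ⟨y, rfl⟩
    simp [← hn, pow_card_eq_one'])
  have hlast : d (Fin.last n) = ⊤ := eq_top_iff.mpr fun y _ => ⟨y, by simp⟩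
  have hmem : x ∈ factorStab d := by
    refine ⟨fun i y hy => ?_, fun i y hy => ?_⟩
    · obtain ⟨z, rfl⟩ := hy
      exact ⟨x z, by simp⟩
    · obtain ⟨z, rfl⟩ := hy
      obtain ⟨w, hw⟩ := hx z
      refine ⟨w, ?_⟩
      have he : n - (i.castSucc : ℕ) = n - (i.succ : ℕ) + 1 := by
        simp only [Fin.val_succ, Fin.val_castSucc]; omega
      simp only [powMonoidHom_apply] at hw ⊢
      rw [he, pow_succ', pow_mul, hw, mul_pow, inv_pow, map_pow]
  obtain ⟨k, hk⟩ := isPGroup_factorStab hH h0 hlast ⟨x, hmem⟩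
  exact ⟨k, congrArg Subtype.val hk⟩

/-- The action on the quotient by the `p`-th powers. -/
def quotAct (H : Type*) [CommGroup H] [Finite H] (p : ℕ) [Fact p.Prime] :
    MulAut H →* MulAut (H ⧸ powSub H p) :=
  MonoidHom.mk'
    (fun x => QuotientGroup.congr (powSub H p) (powSub H p) x
      (le_antisymm (by rintro _ ⟨y, hy, rfl⟩; exact map_mem_powSub x hy)
        fun y hy => ⟨x⁻¹ y, map_mem_powSub x⁻¹ hy, MulAut.apply_inv_self _ x y⟩))
    fun x y => MulEquiv.ext fun z => by
      obtain ⟨w, rfl⟩ := QuotientGroup.mk_surjective z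
      rfl

theorem quotAct_apply (x : MulAut H) (h : H) :
    quotAct H p x (h : H ⧸ powSub H p) = ((x h : H) : H ⧸ powSub H p) := rfl

theorem mem_ker_quotAct {x : MulAut H} :
    x ∈ (quotAct H p).ker ↔ ∀ h : H, h⁻¹ * x h ∈ powSub H p := by
  rw [MonoidHom.mem_ker]
  constructor
  · intro hx h
    have h1 := congrArg (fun f : MulAut (H ⧸ powSub H p) => f (h : H ⧸ powSub H p)) hx
    exact QuotientGroup.eq.mp h1.symm
  · intro hx
    refine MulEquiv.ext fun z => ?_
    obtain ⟨w, rfl⟩ := QuotientGroup.mk_surjective z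
    exact (QuotientGroup.eq.mpr (hx w)).symm

theorem quotAct_injOn (hH : IsPGroup p H) {A : Subgroup (MulAut H)} (hcore : Cfsg.pCore p A = ⊥) :
    Function.Injective ((quotAct H p).comp A.subtype) := by
  rw [← MonoidHom.ker_eq_bot_iff, ← le_bot_iff, ← hcore]
  refine le_sSup ⟨inferInstance, fun x => ?_⟩
  have hx : ((x : A) : MulAut H) ∈ (quotAct H p).ker := x.2
  obtain ⟨k, hk⟩ := exists_pow_eq_one_of_trivial_mod hH (mem_ker_quotAct.mp hx)
  exact ⟨k, Subtype.ext (Subtype.ext hk)⟩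

/-- No subgroup strictly between the `p`-th powers and `H` is invariant, and there is one at least. -/
theorem not_invariant_between (hH : IsPGroup p H) {A : Subgroup (MulAut H)}
    (hdvd : p ∣ Nat.card A) (hcore : Cfsg.pCore p A = ⊥) (hidx : (powSub H p).index ≤ p ^ 2) :
    (powSub H p).index = p ^ 2 ∧
      ∀ T : Subgroup H, powSub H p ≤ T → (∀ α ∈ A, ∀ y ∈ T, α y ∈ T) → T = powSub H p ∨ T = ⊤ := by
  have hp : p.Prime := Fact.out
  haveI : Finite (MulAut (H ⧸ powSub H p)) :=
    Finite.of_injective (fun a : MulAut (H ⧸ powSub H p) => (a : _ → _))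
      fun _ _ h => MulEquiv.ext (congrFun h)
  set ρ := (quotAct H p).comp A.subtype with hρdef
  have hρ := quotAct_injOn hH hcore
  let e : A ≃* ρ.range := MonoidHom.ofInjective hρ
  have hdvd' : p ∣ Nat.card ρ.range := (Nat.card_congr e.toEquiv) ▸ hdvd
  have hcore' : Cfsg.pCore p ρ.range = ⊥ := by
    rw [← le_bot_iff]
    refine sSup_le fun N hN => ?_
    obtain ⟨hNn, hNp⟩ := hN
    haveI := hNn
    have h1 : N.comap e.toMonoidHom ≤ Cfsg.pCore p A :=
      le_sSup ⟨inferInstance, hNp.comap_of_injective _ e.injective⟩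
    intro z hz
    obtain ⟨a, rfl⟩ := e.surjective z
    have h2 : a = 1 := mem_bot.mp (hcore.le (h1 hz))
    rw [h2, map_one]
    exact one_mem _
  have hQ : IsPGroup p (H ⧸ powSub H p) := hH.to_quotient _
  have key : ∀ (m : ℕ) (d : Fin (m + 1) → Subgroup (H ⧸ powSub H p)), CyclicSeries d →
      ¬ ∀ α ∈ A, Preserves d (quotAct H p α) := by
    intro m d hd hpres
    refine not_preserves_cyclicSeries hQ hdvd' hcore' hd ?_
    rintro _ ⟨a, rfl⟩
    exact hpres a a.2
  have hcard : Nat.card (H ⧸ powSub H p) ≤ p ^ 2 := hidx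
  obtain ⟨j, hj⟩ := hQ.exists_card_eq
  have hj2 : j = 2 := by
    by_contra hne
    have hj1 : j ≤ 1 := by
      rw [hj] at hcard
      have := (Nat.pow_le_pow_iff_right hp.one_lt).mp hcard
      omega
    haveI : IsCyclic (H ⧸ powSub H p) := by
      rcases Nat.le_one_iff_eq_zero_or_eq_one.mp hj1 with rfl | rfl
      · haveI : Subsingleton (H ⧸ powSub H p) :=
          (Nat.card_eq_one_iff_unique.mp (by simpa using hj)).1
        infer_instance
      · exact isCyclic_of_prime_card (p := p) (by simpa using hj)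
    obtain ⟨g, hg⟩ := IsCyclic.exists_generator (α := H ⧸ powSub H p)
    refine key 1 ![⊥, ⊤] ⟨rfl, rfl, fun i => by fin_cases i; exact bot_le, fun i => inferInstance,
      fun i => ?_⟩ fun α _ i y hy => ?_
    · fin_cases i
      refine ⟨g, mem_top g, fun y _ => ?_⟩
      obtain ⟨k, hk⟩ := mem_zpowers_iff.mp (hg y)
      refine ⟨k, ?_⟩
      show _ ∈ (⊥ : Subgroup (H ⧸ powSub H p))
      rw [hk, inv_mul_cancel]
      exact one_mem _
    · fin_cases i
      · have hy' : y = 1 := mem_bot.mp hy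
        show _ ∈ (⊥ : Subgroup (H ⧸ powSub H p))
        rw [hy', map_one]
        exact one_mem _
      · exact mem_top _
  refine ⟨by rw [← hj2]; exact hj, fun T hT hinv => ?_⟩
  by_contra hcon
  push Not at hcon
  set L := T.map (QuotientGroup.mk' (powSub H p)) with hL
  have hTL : L.comap (QuotientGroup.mk' (powSub H p)) = T :=
    Subgroup.comap_map_eq_self (by rw [QuotientGroup.ker_mk']; exact hT)
  have hLb : L ≠ ⊥ := fun h => hcon.1 (by
    rw [← hTL, h, MonoidHom.comap_bot, QuotientGroup.ker_mk'])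
  have hLt : L ≠ ⊤ := fun h => hcon.2 (by rw [← hTL, h, comap_top])
  obtain ⟨l, hl⟩ := (hQ.to_subgroup L).exists_card_eq
  have hl1 : l = 1 := by
    have h1 : l ≠ 0 := fun h => hLb (card_eq_one.mp (by rw [hl, h, pow_zero]))
    have h2 : l < 2 := by
      have hlt : Nat.card L < Nat.card (H ⧸ powSub H p) := by
        refine lt_of_le_of_ne (card_le_card_group L) fun h => hLt (eq_top_of_card_eq L h)
      rw [hl, hj, hj2] at hlt
      exact (Nat.pow_lt_pow_iff_right hp.one_lt).mp hlt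
    omega
  rw [hl1, pow_one] at hl
  have hLi : L.index = p := by
    have h := L.card_mul_index
    rw [hl, hj, hj2, sq] at h
    exact Nat.eq_of_mul_eq_mul_left hp.pos h
  haveI : IsCyclic L := isCyclic_of_prime_card hl
  haveI : IsCyclic ((H ⧸ powSub H p) ⧸ L) := isCyclic_of_prime_card (p := p) hLi
  obtain ⟨g₀, hg₀⟩ := IsCyclic.exists_generator (α := L)
  obtain ⟨g₁, hg₁⟩ := IsCyclic.exists_generator (α := (H ⧸ powSub H p) ⧸ L)
  obtain ⟨g₁', rfl⟩ := QuotientGroup.mk_surjective g₁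
  refine key 2 ![⊥, L, ⊤] ⟨rfl, rfl, fun i => by fin_cases i <;> simp, fun i => inferInstance,
    fun i => ?_⟩ fun α hα i y hy => ?_
  · fin_cases i
    · refine ⟨g₀, g₀.2, fun y hy => ?_⟩
      obtain ⟨k, hk⟩ := mem_zpowers_iff.mp (hg₀ ⟨y, hy⟩)
      refine ⟨k, ?_⟩
      show _ ∈ (⊥ : Subgroup (H ⧸ powSub H p))
      rw [show ((g₀ : H ⧸ powSub H p)) ^ k = y from congrArg Subtype.val hk, inv_mul_cancel]
      exact one_mem _
    · refine ⟨g₁', mem_top _, fun y _ => ?_⟩
      obtain ⟨k, hk⟩ := mem_zpowers_iff.mp (hg₁ (y : (H ⧸ powSub H p) ⧸ L))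
      refine ⟨k, ?_⟩
      show _ ∈ L
      rw [← QuotientGroup.eq, QuotientGroup.mk_zpow]
      exact hk
  · fin_cases i
    · have hy' : y = 1 := mem_bot.mp hy
      show _ ∈ (⊥ : Subgroup (H ⧸ powSub H p))
      rw [hy', map_one]
      exact one_mem _
    · obtain ⟨t, ht, rfl⟩ := hy
      exact ⟨α t, hinv α hα t ht, rfl⟩
    · exact mem_top _

theorem eq_of_index_sq {P B C : Subgroup H} (hidx : P.index = p ^ 2) (hPB : P ≤ B) (hBC : B < C)
    (hC : C ≠ ⊤) : B = P := by
  have hp : p.Prime := Fact.out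
  by_contra hne
  have h1 := relIndex_mul_index hPB
  have h2 := relIndex_mul_index hBC.le
  rw [← h2, hidx] at h1
  obtain ⟨i, -, hi⟩ := (Nat.dvd_prime_pow hp).mp (Dvd.intro _ h1)
  obtain ⟨j, -, hj⟩ := (Nat.dvd_prime_pow hp).mp
    ((dvd_mul_right _ C.index).trans (Dvd.intro_left _ h1))
  obtain ⟨l, -, hl⟩ := (Nat.dvd_prime_pow hp).mp
    ((dvd_mul_left _ (B.relIndex C)).trans (Dvd.intro_left _ h1))
  rw [hi, hj, hl, ← pow_add, ← pow_add] at h1
  have := Nat.pow_right_injective hp.two_le h1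
  have : i ≠ 0 := fun h => hne (le_antisymm (relIndex_eq_one.mp (by rw [hi, h, pow_zero])) hPB)
  have : j ≠ 0 := fun h => hBC.not_ge (relIndex_eq_one.mp (by rw [hj, h, pow_zero]))
  have : l ≠ 0 := fun h => hC (index_eq_one.mp (by rw [hl, h, pow_zero]))
  omega

/-- Expansion of a power of an automorphism in the iterates of its displacement. -/
theorem pow_apply_eq_prod (v : MulAut H) (δ : H →* H) (hδ : ∀ x, v x = δ x * x) (x : H) :
    ∀ n : ℕ, (v ^ n) x = ∏ i ∈ Finset.range (n + 1), (δ^[i] x) ^ n.choose i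
  | 0 => by simp
  | n + 1 => by
    have hg : ∀ i, δ (δ^[i] x) = δ^[i + 1] x := fun i => (Function.iterate_succ_apply' δ i x).symm
    rw [pow_succ', MulAut.mul_apply, pow_apply_eq_prod v δ hδ x n, hδ, map_prod]
    simp only [map_pow, hg]
    rw [Finset.prod_range_succ' (fun i => (δ^[i] x) ^ (n + 1).choose i)]
    simp only [Nat.choose_succ_succ', pow_add, Finset.prod_mul_distrib]
    rw [mul_assoc]
    refine congrArg (_ * ·) ?_
    rw [Finset.prod_range_succ' (fun i => (δ^[i] x) ^ n.choose i),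
      Finset.prod_range_succ (fun i => (δ^[i + 1] x) ^ n.choose (i + 1))]
    simp

/-- Such a group is homocyclic of rank two, and of exponent `p` when `p ≥ 5`. -/
theorem homocyclic_of_core_trivial (hH : IsPGroup p H) {A : Subgroup (MulAut H)}
    (hdvd : p ∣ Nat.card A) (hcore : Cfsg.pCore p A = ⊥) (hidx : (powSub H p).index ≤ p ^ 2) :
    ∃ k : ℕ, 0 < k ∧ (k = 1 → (∀ x : H, x ^ p = 1) ∧ Nat.card H = p ^ 2) ∧
      Nonempty (H ≃* Multiplicative (ZMod (p ^ k) × ZMod (p ^ k))) ∧ (2 ≤ k → p ≤ 3) := by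
  classical
  have hp : p.Prime := Fact.out
  obtain ⟨hidx2, hinv⟩ := not_invariant_between hH hdvd hcore hidx
  -- the exponent
  have hex : ∃ k : ℕ, ∀ x : H, x ^ p ^ k = 1 := by
    obtain ⟨n, hn⟩ := hH.exists_card_eq
    exact ⟨n, fun x => hn ▸ pow_card_eq_one'⟩
  set k := Nat.find hex with hkdef
  have hk : ∀ x : H, x ^ p ^ k = 1 := Nat.find_spec hex
  have hP1top : powSub H p ≠ ⊤ := fun h => by
    rw [h, index_top] at hidx2
    exact (Nat.one_lt_pow two_ne_zero hp.one_lt).ne hidx2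
  have hk0 : 0 < k := by
    rcases Nat.eq_zero_or_pos k with h | h
    · refine absurd (eq_top_iff.mpr fun x _ => ?_) hP1top
      have := hk x
      rw [h, pow_zero, pow_one] at this
      rw [this]
      exact one_mem _
    · exact h
  let T : Subgroup H := (powMonoidHom (p ^ (k - 1)) : H →* H).ker
  have hPT : powSub H p ≤ T := by
    rintro _ ⟨y, rfl⟩
    show (y ^ p) ^ p ^ (k - 1) = 1
    rw [← pow_mul, ← pow_succ', Nat.sub_add_cancel hk0, hk]
  have hT : T = powSub H p := by
    rcases hinv T hPT (fun α _ y hy => by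
      show (α y) ^ p ^ (k - 1) = 1
      rw [← map_pow, show y ^ p ^ (k - 1) = 1 from hy, map_one]) with h | h
    · exact h
    · exfalso
      exact Nat.find_min hex (Nat.sub_lt hk0 one_pos)
        fun x => (h.ge (mem_top x) : x ∈ T)
  have hkey : ∀ x : H, x ^ p ^ (k - 1) = 1 → x ∈ powSub H p := fun x hx => hT.le hx
  -- a basis
  obtain ⟨a, -, ha⟩ := SetLike.exists_of_lt (lt_top_iff_ne_top.mpr hP1top)
  set M := powSub H p ⊔ zpowers a with hM
  have hMtop : M ≠ ⊤ := by
    intro h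
    have hle : (powSub H p).index ≤ p := by
      let f : zpowers a →* H ⧸ powSub H p := (QuotientGroup.mk' _).comp (zpowers a).subtype
      have hsurj : Function.Surjective f := fun z => by
        obtain ⟨w, rfl⟩ := QuotientGroup.mk_surjective z
        obtain ⟨u, hu, v, hv, rfl⟩ := Subgroup.mem_sup.mp (h.ge (mem_top w))
        exact ⟨⟨v, hv⟩, QuotientGroup.eq.mpr (by simpa [mul_comm] using hu)⟩
      have hq : ∀ z : H ⧸ powSub H p, z ^ p = 1 := fun z => by
        obtain ⟨w, rfl⟩ := QuotientGroup.mk_surjective z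
        rw [← QuotientGroup.mk_pow, QuotientGroup.eq_one_iff]
        exact ⟨w, rfl⟩
      haveI : IsCyclic (H ⧸ powSub H p) := isCyclic_of_surjective f hsurj
      obtain ⟨g, hg⟩ := IsCyclic.exists_ofOrder_eq_natCard (α := H ⧸ powSub H p)
      calc (powSub H p).index = orderOf g := hg.symm
        _ ≤ p := orderOf_le_of_pow_eq_one hp.pos (hq g)
    rw [hidx2] at hle
    have : p ^ 2 ≤ p ^ 1 := by rwa [pow_one]
    have := (Nat.pow_le_pow_iff_right hp.one_lt).mp this
    omega
  obtain ⟨b, -, hb⟩ := SetLike.exists_of_lt (lt_top_iff_ne_top.mpr hMtop)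
  have hgen : M ⊔ zpowers b = ⊤ := by
    by_contra hne
    have hlt2 : M < M ⊔ zpowers b := lt_of_le_of_ne le_sup_left fun h =>
      hb (h.ge (mem_sup_right (mem_zpowers b)))
    exact ha ((eq_of_index_sq hidx2 le_sup_left hlt2 hne).le (mem_sup_right (mem_zpowers a)))
  have hab : (zpowers a ⊔ zpowers b) = ⊤ := by
    refine frattini_nongenerating ?_
    rw [← powSub_eq_frattini hH, ← hgen, hM]
    ac_rfl
  have hind : ∀ i j : ℤ, a ^ i * b ^ j ∈ powSub H p → (p : ℤ) ∣ i ∧ (p : ℤ) ∣ j := by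
    intro i j hij
    have hpp : ∀ (y : H) (l : ℤ), y ^ ((p : ℤ) * l) ∈ powSub H p := fun y l =>
      ⟨y ^ l, by simp [← zpow_natCast, ← zpow_mul, mul_comm]⟩
    have hj : (p : ℤ) ∣ j := by
      by_contra hj
      obtain ⟨u, v, huv⟩ :=
        ((Nat.prime_iff_prime_int.1 hp).coprime_iff_not_dvd.2 hj : IsCoprime (p : ℤ) j)
      apply hb
      have hbj : b ^ j ∈ M := by
        have h := M.mul_mem (M.inv_mem (mem_sup_right (zpow_mem (mem_zpowers a) i)))
          (mem_sup_left hij : a ^ i * b ^ j ∈ M)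
        rwa [inv_mul_cancel_left] at h
      have h2 : b ^ (u * p + v * j) ∈ M := by
        rw [zpow_add, mul_comm u, mul_comm v, zpow_mul b j v]
        exact M.mul_mem (mem_sup_left (hpp b u)) (M.zpow_mem hbj v)
      rwa [huv, zpow_one] at h2
    obtain ⟨j', rfl⟩ := hj
    refine ⟨?_, dvd_mul_right _ _⟩
    have hai : a ^ i ∈ powSub H p := by
      simpa using mul_mem hij (inv_mem (hpp b j'))
    by_contra hi
    obtain ⟨u, v, huv⟩ :=
      ((Nat.prime_iff_prime_int.1 hp).coprime_iff_not_dvd.2 hi : IsCoprime (p : ℤ) i)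
    apply ha
    have h2 : a ^ (u * p + v * i) ∈ powSub H p := by
      rw [zpow_add, mul_comm u, mul_comm v, zpow_mul a i v]
      exact mul_mem (hpp a u) (zpow_mem hai v)
    rwa [huv, zpow_one] at h2
  have hdiv : ∀ s : ℕ, s ≤ k → ∀ i j : ℤ, a ^ i * b ^ j = 1 →
      ((p ^ s : ℕ) : ℤ) ∣ i ∧ ((p ^ s : ℕ) : ℤ) ∣ j := by
    intro s
    induction s with
    | zero => intro _ i j _; simp
    | succ s ih =>
      intro hs i j hij
      obtain ⟨⟨i', rfl⟩, j', rfl⟩ := ih (by omega) i j hij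
      have h1 : (a ^ i' * b ^ j') ^ p ^ s = 1 := by
        rw [mul_pow, ← zpow_natCast (a ^ i'), ← zpow_mul, ← zpow_natCast (b ^ j'), ← zpow_mul,
          mul_comm i', mul_comm j']
        exact hij
      obtain ⟨hi, hj⟩ := hind i' j' (hkey _ (by
        obtain ⟨c, hc⟩ := Nat.exists_eq_add_of_le (show s ≤ k - 1 by omega)
        rw [hc, pow_add, pow_mul, h1, one_pow]))
      rw [pow_succ, Nat.cast_mul]
      exact ⟨mul_dvd_mul_left _ hi, mul_dvd_mul_left _ hj⟩
  -- the isomorphism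
  let fa : ZMod (p ^ k) →+ Additive H := ZMod.lift (p ^ k)
    ⟨zmultiplesHom (Additive H) (Additive.ofMul a), by
      rw [zmultiplesHom_apply, natCast_zsmul, ← ofMul_pow, hk, ofMul_one]⟩
  let fb : ZMod (p ^ k) →+ Additive H := ZMod.lift (p ^ k)
    ⟨zmultiplesHom (Additive H) (Additive.ofMul b), by
      rw [zmultiplesHom_apply, natCast_zsmul, ← ofMul_pow, hk, ofMul_one]⟩
  let f : Multiplicative (ZMod (p ^ k) × ZMod (p ^ k)) →* H :=
    (fa.coprod fb).toMultiplicativeLeft
  have hf : ∀ i j : ℤ, f (Multiplicative.ofAdd ((i : ZMod (p ^ k)), (j : ZMod (p ^ k)))) =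
      a ^ i * b ^ j := by
    intro i j
    show Additive.toMul (fa (i : ZMod (p ^ k)) + fb (j : ZMod (p ^ k))) = _
    rw [ZMod.lift_coe, ZMod.lift_coe]
    rfl
  have hfinj : Function.Injective f := by
    rw [injective_iff_map_eq_one]
    intro z hz
    obtain ⟨⟨x, y⟩, rfl⟩ : ∃ w, Multiplicative.ofAdd w = z := ⟨z.toAdd, rfl⟩
    obtain ⟨i, rfl⟩ := ZMod.intCast_surjective x
    obtain ⟨j, rfl⟩ := ZMod.intCast_surjective y
    rw [hf] at hz
    obtain ⟨hi, hj⟩ := hdiv k le_rfl i j hz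
    rw [(ZMod.intCast_zmod_eq_zero_iff_dvd i (p ^ k)).mpr hi,
      (ZMod.intCast_zmod_eq_zero_iff_dvd j (p ^ k)).mpr hj]
    rfl
  have hfsurj : Function.Surjective f := by
    intro h
    obtain ⟨u, ⟨i, rfl⟩, v, ⟨j, rfl⟩, rfl⟩ := Subgroup.mem_sup.mp (hab.ge (mem_top h))
    exact ⟨_, hf i j⟩
  let eH := (MulEquiv.ofBijective f ⟨hfinj, hfsurj⟩).symm
  refine ⟨k, hk0, fun h1 => ⟨fun x => by simpa [h1] using hk x, ?_⟩, ⟨eH⟩, fun hk2 => ?_⟩
  · rw [Nat.card_congr eH.toEquiv, h1]
    show Nat.card (ZMod (p ^ 1) × ZMod (p ^ 1)) = _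
    rw [Nat.card_prod, Nat.card_zmod, pow_one, sq]
  -- no element of order `p` lifts when `p ≥ 5`
  by_contra hp3
  obtain ⟨u, hu⟩ := exists_prime_orderOf_dvd_card' (G := A) p hdvd
  have hup : (u : MulAut H) ^ p = 1 := by
    rw [← SubmonoidClass.coe_pow, ← hu, pow_orderOf_eq_one]; rfl
  have hune : ¬ ∀ h : H, h⁻¹ * (u : MulAut H) h ∈ powSub H p := fun h => by
    have h1 : u = 1 := quotAct_injOn hH hcore ((mem_ker_quotAct.mpr h).trans (map_one _).symm)
    rw [h1, orderOf_one] at hu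
    exact hp.ne_one hu.symm
  let δ : H →* H := (u : MulAut H).toMonoidHom / MonoidHom.id H
  have hδ : ∀ x, (u : MulAut H) x = δ x * x := fun x => (div_mul_cancel _ x).symm
  have hδd : ∀ h : H, δ h = h⁻¹ * (u : MulAut H) h := fun h => by
    rw [hδ]; simp [mul_comm, mul_left_comm]
  have hPδ : ∀ y ∈ powSub H p, δ y ∈ powSub H p := by
    rintro _ ⟨z, rfl⟩
    exact ⟨δ z, by simp⟩
  have hmid : ∀ x : H, (∏ i ∈ Finset.Ico 1 (p + 1), (δ^[i] x) ^ p.choose i) = 1 := by
    intro x
    have h := pow_apply_eq_prod (u : MulAut H) δ hδ x p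
    rw [hup, MulAut.one_apply, Finset.range_eq_Ico,
      Finset.prod_eq_prod_Ico_succ_bot (Nat.succ_pos p)] at h
    simpa using h
  have hDp : ∀ x : H, δ^[p] x ∈ powSub H p := by
    intro x
    have h := hmid x
    rw [Finset.prod_Ico_succ_top hp.one_le, Nat.choose_self, pow_one] at h
    rw [eq_inv_of_mul_eq_one_right h]
    refine inv_mem (Subgroup.prod_mem _ fun i hi => ?_)
    obtain ⟨hi1, hi2⟩ := Finset.mem_Ico.mp hi
    obtain ⟨c, hc⟩ := hp.dvd_choose_self (by omega) hi2
    exact ⟨(δ^[i] x) ^ c, by simp [hc, ← pow_mul, mul_comm]⟩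
  -- two steps of `δ` land in the `p`-th powers
  let M1 : Subgroup H := powSub H p ⊔ δ.range
  have hM1 : ∀ y ∈ M1, ∀ n, ∃ z : H, δ^[n] y * (δ^[n + 1] z)⁻¹ ∈ powSub H p := by
    intro y hy n
    obtain ⟨q, hq, _, ⟨z, rfl⟩, rfl⟩ := Subgroup.mem_sup.mp hy
    refine ⟨z, ?_⟩
    have hqn : ∀ n, δ^[n] q ∈ powSub H p := by
      intro n
      induction n with
      | zero => exact hq
      | succ n ih => rw [Function.iterate_succ_apply']; exact hPδ _ ih
    rw [iterate_map_mul, ← Function.iterate_succ_apply, mul_inv_cancel_right]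
    exact hqn n
  have hM1top : M1 ≠ ⊤ := by
    intro h
    have hall : ∀ n, ∀ x : H, ∃ z : H, x * (δ^[n] z)⁻¹ ∈ powSub H p := by
      intro n
      induction n with
      | zero => exact fun x => ⟨x, by simp⟩
      | succ n ih =>
        intro x
        obtain ⟨z, hz⟩ := ih x
        obtain ⟨w, hw⟩ := hM1 z (h.ge (mem_top z)) n
        refine ⟨w, ?_⟩
        have := mul_mem hz hw
        simpa [mul_assoc] using this
    refine hP1top (eq_top_iff.mpr fun x _ => ?_)
    obtain ⟨z, hz⟩ := hall p x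
    simpa using mul_mem hz (hDp z)
  let M2 : Subgroup H := powSub H p ⊔ M1.map δ
  have hM21 : M2 ≤ M1 := sup_le le_sup_left ((map_le_range δ M1).trans le_sup_right)
  have hM2 : M2 = powSub H p := by
    rcases eq_or_lt_of_le hM21 with heq | hlt
    · have hall : ∀ n, ∀ y ∈ M1, ∃ z ∈ M1, y * (δ^[n] z)⁻¹ ∈ powSub H p := by
        intro n
        induction n with
        | zero => exact fun y hy => ⟨y, hy, by simp⟩
        | succ n ih =>
          intro y hy
          obtain ⟨z, hz, hyz⟩ := ih y hy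
          obtain ⟨q, hq, _, ⟨w, hw, rfl⟩, rfl⟩ := Subgroup.mem_sup.mp (heq.ge hz)
          refine ⟨w, hw, ?_⟩
          have hqn : δ^[n] q ∈ powSub H p := by
            clear ih hyz
            induction n with
            | zero => exact hq
            | succ n ih => rw [Function.iterate_succ_apply']; exact hPδ _ ih
          have := mul_mem hyz hqn
          rw [iterate_map_mul, ← Function.iterate_succ_apply, mul_inv_rev] at this
          simpa [mul_assoc, mul_comm, mul_left_comm] using this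
      refine le_antisymm (fun y hy => ?_) le_sup_left
      obtain ⟨z, -, hz⟩ := hall p y (hM21 hy)
      simpa using mul_mem hz (hDp z)
    · exact eq_of_index_sq hidx2 le_sup_left hlt hM1top
  have h2 : ∀ x : H, δ (δ x) ∈ powSub H p := fun x =>
    hM2.le (mem_sup_right ⟨δ x, mem_sup_right ⟨x, rfl⟩, rfl⟩)
  apply hune
  intro x
  rw [← hδd]
  -- compare modulo `p ^ 2`
  let P2 : Subgroup H := (powMonoidHom (p ^ 2) : H →* H).range
  have hi2 : ∀ i, 2 ≤ i → δ^[i] x ∈ powSub H p := by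
    intro i hi
    obtain ⟨c, rfl⟩ := Nat.exists_eq_add_of_le hi
    rw [add_comm, Function.iterate_add_apply]
    clear hi
    induction c with
    | zero => exact h2 x
    | succ c ih => rw [Function.iterate_succ_apply']; exact hPδ _ ih
  have hprod : (δ x) ^ p ∈ P2 := by
    have h := hmid x
    rw [Finset.prod_eq_prod_Ico_succ_bot (Nat.succ_lt_succ hp.pos), Function.iterate_one,
      Nat.choose_one_right] at h
    rw [eq_inv_of_mul_eq_one_left h]
    refine inv_mem (Subgroup.prod_mem _ fun i hi => ?_)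
    obtain ⟨hi1, hiu⟩ := Finset.mem_Ico.mp hi
    rcases eq_or_lt_of_le (Nat.lt_succ_iff.mp hiu) with hip | hip
    · rw [hip, Nat.choose_self, pow_one]
      obtain ⟨c, hc⟩ := Nat.exists_eq_add_of_le (show 4 ≤ p by omega)
      obtain ⟨w, hw⟩ := hi2 (2 + c) (by omega)
      obtain ⟨w', hw'⟩ := h2 w
      refine ⟨w', ?_⟩
      have e : δ^[p] x = δ (δ (δ^[2 + c] x)) := by
        rw [show p = (2 + c + 1) + 1 by omega, Function.iterate_succ_apply' (⇑δ),
          Function.iterate_succ_apply' (⇑δ)]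
      rw [e, ← hw]
      simp only [powMonoidHom_apply, map_pow] at hw' ⊢
      rw [← hw', ← pow_mul, sq]
    · obtain ⟨c, hc⟩ := hp.dvd_choose_self (by omega) hip
      obtain ⟨w, hw⟩ := hi2 i hi1
      exact ⟨w ^ c, by simp [← hw, hc, ← pow_mul, sq, mul_comm, mul_left_comm]⟩
  obtain ⟨w, hw⟩ := hprod
  have hp1 : (δ x * (w ^ p)⁻¹) ^ p = 1 := by
    rw [mul_pow, inv_pow, ← pow_mul, ← sq, mul_inv_eq_one]
    exact hw.symm
  have hmem := hkey _ (by
    obtain ⟨c, hc⟩ := Nat.exists_eq_add_of_le (show 1 ≤ k - 1 by omega)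
    rw [hc, pow_add, pow_one, pow_mul, hp1, one_pow])
  have := mul_mem hmem (⟨w, rfl⟩ : w ^ p ∈ powSub H p)
  rwa [inv_mul_cancel_right] at this

end CfsgLib.Alperin
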