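import Cfsg.Agent.Lib.Alperin.CyclicSeries
import Cfsg.Agent.Lib.Alperin.Theorem

/-!
An essential subgroup has no series with cyclic steps preserved by all automorphisms of the system.
-/

set_option autoImplicit false
set_option linter.style.haveILetI false
set_option linter.unusedSectionVars false

open scoped commutatorElement

namespace CfsgLib.Alperin

open Cfsg Cfsg.FusionSystem

variable {Ω : Type*} [Group Ω] {S : Subgroup Ω} [Finite S] {p : ℕ} [Fact p.Prime]

theorem false_of_essential_series (hS : IsPGroup p S) {F : FusionSystem S} (hF : F.IsSaturated p)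
    {H : Subgroup Ω} (hH : F.IsEssential p H) {m : ℕ} {d : Fin (m + 1) → Subgroup H}
    (hd : CyclicSeries d) (hpres : ∀ α ∈ F.autGroup H, Preserves d α) : False := by
  have hHS : H ≤ S := hH.1.1
  haveI := finite_of_le hHS
  haveI := finite_autGroup F hHS
  set G := F.autGroup H
  let N : Subgroup G := (factorStab d).subgroupOf G
  have hcomm : ∀ a b : G, ⁅a, b⁆ ∈ N := fun a b => by
    show ((⁅a, b⁆ : G) : MulAut H) ∈ factorStab d
    exact commutatorElement_mem_factorStab hd (hpres _ a.2) (hpres _ b.2)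
  haveI hNn : N.Normal := ⟨fun x hx g => by
    rw [show g * x * g⁻¹ = ⁅g, x⁆ * x by simp [commutatorElement_def]]
    exact mul_mem (hcomm g x) hx⟩
  obtain ⟨-, T, hT⟩ := (centralized_automized_of_fullyNormalized hS hF hH.2.1).2
  haveI : (N ⊔ (T : Subgroup G)).Normal := ⟨fun x hx g => by
    rw [show g * x * g⁻¹ = ⁅g, x⁆ * x by simp [commutatorElement_def]]
    exact mul_mem (Subgroup.mem_sup_left (hcomm g x)) hx⟩
  have hle : (T : Subgroup G) ≤ (Inn H).subgroupOf G := by
    have h1 : N ⊔ (T : Subgroup G) ≤ pCore p G := by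
      refine le_sSup ⟨inferInstance, IsPGroup.to_sup_of_normal_left ?_ T.2⟩
      exact (isPGroup_factorStab (isPGroup_of_le hS hHS) hd.zero hd.last).comap_of_injective _
        G.subtype_injective
    intro x hx
    show (x : MulAut H) ∈ Inn H
    rw [← (isRadical_of_essential hS hH).2]
    exact ⟨x, h1 (Subgroup.mem_sup_right hx), rfl⟩
  obtain ⟨-, -, hn, Y, hY⟩ := hH
  exact T.not_dvd_index (hY.1.trans (Subgroup.index_dvd_of_le hle))

/-- A series with steps of index `p` has cyclic steps. -/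
theorem cyclicSeries_of_relIndex {P : Type*} [Group P] [Finite P] {m : ℕ}
    {d : Fin (m + 1) → Subgroup P} (h0 : d 0 = ⊥) (hm : d (Fin.last m) = ⊤)
    (hmono : ∀ i : Fin m, d i.castSucc ≤ d i.succ) (hn : ∀ i, (d i).Normal)
    (hp : ∀ i : Fin m, (d i.castSucc).relIndex (d i.succ) = p) : CyclicSeries d := by
  refine ⟨h0, hm, hmono, hn, fun i => ?_⟩
  have hlt : d i.castSucc < d i.succ := lt_of_le_of_ne (hmono i) fun h => by
    have := hp i
    rw [h, Subgroup.relIndex_self] at this
    exact (Fact.out : p.Prime).ne_one this.symm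
  obtain ⟨y₀, hy₀, hy₀'⟩ := SetLike.exists_of_lt hlt
  haveI := hn i.castSucc
  have hsup : d i.castSucc ⊔ Subgroup.zpowers y₀ = d i.succ := by
    refine le_antisymm (sup_le (hmono i) (Subgroup.zpowers_le.mpr hy₀)) ?_
    rw [← Subgroup.relIndex_eq_one]
    have h := Subgroup.relIndex_mul_relIndex (d i.castSucc) (d i.castSucc ⊔ Subgroup.zpowers y₀)
      (d i.succ) le_sup_left (sup_le (hmono i) (Subgroup.zpowers_le.mpr hy₀))
    rw [hp i] at h
    rcases (Nat.dvd_prime (Fact.out : p.Prime)).mp (Dvd.intro _ h) with h1 | h1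
    · exact absurd (Subgroup.relIndex_eq_one.mp h1
        (Subgroup.mem_sup_right (Subgroup.mem_zpowers y₀))) hy₀'
    · rw [h1] at h
      exact (mul_eq_left₀ (Fact.out : p.Prime).ne_zero).mp h
  refine ⟨y₀, hy₀, fun y hy => ?_⟩
  rw [← hsup, Subgroup.mem_sup_of_normal_left] at hy
  obtain ⟨a, ha, b, ⟨k, rfl⟩, rfl⟩ := hy
  refine ⟨k, ?_⟩
  show (y₀ ^ k)⁻¹ * (a * y₀ ^ k) ∈ d i.castSucc
  have := (hn i.castSucc).conj_mem a ha (y₀ ^ k)⁻¹
  rwa [inv_inv, mul_assoc] at this

end CfsgLib.Alperin
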