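import Cfsg.Agent.Lib.Alperin.Induced
import Cfsg.Agent.Lib.FusionExamples.Hyperfocal
import Cfsg.Agent.S5134

/-!
The hyperfocal subgroup of a factor system.
-/

set_option autoImplicit false
set_option linter.style.haveILetI false
set_option linter.unusedSectionVars false

namespace CfsgLib.Alperin

open Cfsg Cfsg.FusionSystem

variable {Ω : Type*} [Group Ω] {S : Subgroup Ω} {Ω' : Type*} [Group Ω'] {θ : S →* Ω'}

/-- `β` is induced by `α` along `θ`. -/
def AutInduced (θ : S →* Ω') {P : Subgroup Ω} (hP : P ≤ S) {P' : Subgroup Ω'}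
    (α : MulAut P) (β : MulAut P') : Prop :=
  ∀ (x : P) (hx : θ ⟨x, hP x.2⟩ ∈ P'),
    ((β ⟨θ ⟨x, hP x.2⟩, hx⟩ : P') : Ω') = θ ⟨α x, hP (α x).2⟩

section

variable {P : Subgroup Ω} {hP : P ≤ S} {P' : Subgroup Ω'}

theorem autInduced_one : AutInduced θ hP (1 : MulAut P) (1 : MulAut P') := fun _ _ => rfl

variable (hmem : ∀ x : P, θ ⟨x, hP x.2⟩ ∈ P')
include hmem

theorem autInduced_mul {α α' : MulAut P} {β β' : MulAut P'} (h : AutInduced θ hP α β)
    (h' : AutInduced θ hP α' β') : AutInduced θ hP (α * α') (β * β') := by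
  intro x hx
  show ((β (β' ⟨θ ⟨x, hP x.2⟩, hx⟩) : P') : Ω') = θ ⟨(α (α' x) : P), hP (α (α' x)).2⟩
  rw [show β' ⟨θ ⟨x, hP x.2⟩, hx⟩ = ⟨θ ⟨α' x, hP (α' x).2⟩, hmem _⟩ from Subtype.ext (h' x hx)]
  exact h _ _

theorem autInduced_inv {α : MulAut P} {β : MulAut P'} (h : AutInduced θ hP α β) :
    AutInduced θ hP α⁻¹ β⁻¹ := by
  intro x hx
  have e : β ⟨θ ⟨α⁻¹ x, hP (α⁻¹ x).2⟩, hmem _⟩ = ⟨θ ⟨x, hP x.2⟩, hx⟩ := by
    refine Subtype.ext ((h _ (hmem _)).trans (congrArg θ (Subtype.ext ?_)))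
    exact (congrArg Subtype.val (α.apply_symm_apply x) :)
  rw [← e, MulAut.inv_apply_self]

theorem autInduced_pow {α : MulAut P} {β : MulAut P'} (h : AutInduced θ hP α β) :
    ∀ n : ℕ, AutInduced θ hP (α ^ n) (β ^ n)
  | 0 => by rw [pow_zero, pow_zero]; exact autInduced_one
  | n + 1 => by rw [pow_succ, pow_succ]; exact autInduced_mul hmem (autInduced_pow h n) h

omit hmem in
theorem autInduced_unique (hsurj : ∀ y : P', ∃ x : P, θ ⟨x, hP x.2⟩ = y) {α : MulAut P}
    {β β' : MulAut P'} (h : AutInduced θ hP α β) (h' : AutInduced θ hP α β') : β = β' := by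
  refine MulEquiv.ext fun y => Subtype.ext ?_
  obtain ⟨x, hx⟩ := hsurj y
  obtain ⟨y, hy⟩ := y
  subst hx
  exact (h x hy).trans (h' x hy).symm

end

variable [Finite S] {p : ℕ} [Fact p.Prime] {F : FusionSystem S} {T : Subgroup Ω}
  {S' : Subgroup Ω'} {E : FusionSystem S'}

theorem exists_autInduced (hS : IsPGroup p S) (hF : F.IsSaturated p) (hT : F.StronglyClosed T)
    (hE : F.IsFactorSystem T θ E) {P : Subgroup Ω} (hP : P ≤ S) {α : MulAut P}
    (hα : α ∈ F.autGroup P) :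
    ∃ β ∈ E.autGroup (imageAlong θ P), AutInduced θ hP α β := by
  have hsm := Cfsg.Agent.S5134.result p hS F hF T hT θ E hE
  obtain ⟨φ', hφ', _, _, hPP, hx⟩ := hsm.1.2 P _ ((mem_autGroup_iff F hP).mp hα)
  haveI : Finite (imageAlong θ P) := by
    haveI : Finite θ.range := Finite.of_surjective _ θ.rangeRestrict_surjective
    exact finite_of_le (imageAlong_le_range θ P)
  have hm : ∀ y, φ' y ∈ imageAlong θ P := by
    rintro ⟨_, x, hxP, rfl⟩
    rw [show φ' _ = _ from hx ⟨x, hxP⟩]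
    exact ⟨_, (α ⟨x, hxP⟩).2, rfl⟩
  obtain ⟨β, hβ, hβx⟩ := exists_aut_of_hom' E hφ' hm
  exact ⟨β, hβ, fun x _ => (hβx _).trans (hx x)⟩

theorem exists_lift_aut (hT : F.StronglyClosed T) (hE : F.IsFactorSystem T θ E)
    {P' : Subgroup Ω'} (hP' : P' ≤ S') {β : MulAut P'} (hβ : β ∈ E.autGroup P') :
    ∃ α ∈ F.autGroup (preimageAlong θ P'), AutInduced θ (preimageAlong_le θ P') α β := by
  obtain ⟨-, φ, hφ, hP, hφS, hPP, hx⟩ := (hE.2.2.2 P' _).mp ((mem_autGroup_iff E hP').mp hβ)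
  haveI := finite_of_le (preimageAlong_le θ P')
  have hm : ∀ x, φ x ∈ preimageAlong θ P' := fun x =>
    mem_preimageAlong.mpr ⟨hφS x, hx x ▸ (β _).2⟩
  obtain ⟨α, hα, hαx⟩ := exists_aut_of_hom' F hφ hm
  exact ⟨α, hα, fun x _ => (hx x).trans (congrArg θ (Subtype.ext (hαx x).symm))⟩

/-- The hyperfocal subgroup of a factor system is the image of the hyperfocal subgroup. -/
theorem hyperfocal_factor (hS : IsPGroup p S) (hF : F.IsSaturated p) (hT : F.StronglyClosed T)
    (hE : F.IsFactorSystem T θ E) :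
    E.hyperfocalSubgroup p = ((F.hyperfocalSubgroup p).subgroupOf S).map θ := by
  haveI : Finite S' := by
    rw [← hE.2.2.1]
    exact Finite.of_surjective _ θ.rangeRestrict_surjective
  refine le_antisymm ((Subgroup.closure_le _).mpr ?_) ?_
  · rintro _ ⟨P', β, y, hP', hβ, rfl⟩
    haveI := finite_autGroup E hP'
    haveI := finite_autGroup F (preimageAlong_le θ P')
    have hmem : ∀ x : preimageAlong θ P', θ ⟨x, preimageAlong_le θ P' x.2⟩ ∈ P' :=
      fun x => (mem_preimageAlong.mp x.2).2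
    suffices h : ∃ α : F.autGroup (preimageAlong θ P'), α ∈ pResidual p _ ∧
        AutInduced θ (preimageAlong_le θ P') (α : MulAut _) (β : MulAut P') by
      obtain ⟨α, hα, hind⟩ := h
      obtain ⟨w, hw⟩ := hE.2.2.1.ge (hP' y.2)
      have hwm : (w : Ω) ∈ preimageAlong θ P' := mem_preimageAlong.mpr ⟨w.2, hw ▸ y.2⟩
      refine ⟨w⁻¹ * (⟨((α : MulAut (preimageAlong θ P')) ⟨w, hwm⟩ : preimageAlong θ P'),
        preimageAlong_le θ P' ((α : MulAut (preimageAlong θ P')) _).2⟩ : S),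
        Subgroup.subset_closure ⟨_, α, ⟨w, hwm⟩, preimageAlong_le θ P', hα, rfl⟩, ?_⟩
      rw [map_mul, map_inv, hw, ← hind ⟨w, hwm⟩ (hmem _)]
      exact congrArg₂ (· * ·) rfl
        (congrArg (fun z : P' => (((β : MulAut P') z : P') : Ω')) (Subtype.ext hw))
    induction hβ using Subgroup.closure_induction with
    | one => exact ⟨1, Subgroup.one_mem _, autInduced_one⟩
    | mul g g' _ _ h h' =>
      obtain ⟨a, ha, hi⟩ := h
      obtain ⟨b, hb, hj⟩ := h'
      exact ⟨a * b, Subgroup.mul_mem _ ha hb, autInduced_mul hmem hi hj⟩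
    | inv g _ h =>
      obtain ⟨a, ha, hi⟩ := h
      exact ⟨a⁻¹, Subgroup.inv_mem _ ha, autInduced_inv hmem hi⟩
    | mem g hg =>
      obtain ⟨α, hα, hind⟩ := exists_lift_aut hT hE hP' g.2
      set a : F.autGroup (preimageAlong θ P') := ⟨α, hα⟩
      have hg' : (orderOf g).Coprime p := hg
      obtain ⟨k, m, hp, hkm⟩ := Nat.exists_eq_pow_mul_and_not_dvd (orderOf_pos a).ne' p
        (Fact.out : p.Prime).ne_one
      obtain ⟨n, hn1, hn2⟩ := Nat.chineseRemainder ((hg'.pow_right k)) 1 0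
      refine ⟨a ^ n, CfsgLib.FusionExamples.mem_pResidual_of_pow_eq_one ?_
        ((Fact.out : p.Prime).coprime_iff_not_dvd.mpr hp).symm, ?_⟩
      · obtain ⟨c, hc⟩ := Nat.modEq_zero_iff_dvd.mp hn2
        rw [← pow_mul, hc, show p ^ k * c * m = orderOf a * c by rw [hkm]; ring, pow_mul,
          pow_orderOf_eq_one, one_pow]
      · have := autInduced_pow hmem hind n
        have hgn : g ^ n = g := by
          conv_rhs => rw [← pow_one g]
          exact pow_eq_pow_iff_modEq.mpr hn1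
        rw [show (g : MulAut P') = ((g ^ n : E.autGroup P') : MulAut P') by rw [hgn],
          SubmonoidClass.coe_pow, SubmonoidClass.coe_pow]
        exact this
  · rintro _ ⟨w, hw, rfl⟩
    suffices hle : F.hyperfocalSubgroup p ≤
        ((E.hyperfocalSubgroup p).comap θ).map S.subtype by
      obtain ⟨w', hw', he⟩ := hle hw
      exact Subtype.ext he ▸ hw'
    refine (Subgroup.closure_le _).mpr ?_
    rintro _ ⟨P, a, x, hP, ha, rfl⟩
    haveI := finite_autGroup F hP
    have hI : imageAlong θ P ≤ S' := (imageAlong_le_range θ P).trans hE.2.2.1.le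
    haveI := finite_autGroup E hI
    have hmem : ∀ x : P, θ ⟨x, hP x.2⟩ ∈ imageAlong θ P := fun x => ⟨_, x.2, rfl⟩
    have hsurj : ∀ y : imageAlong θ P, ∃ x : P, θ ⟨x, hP x.2⟩ = y := by
      rintro ⟨_, s, hs, rfl⟩
      exact ⟨⟨s, hs⟩, rfl⟩
    refine ⟨⟨x, hP x.2⟩⁻¹ * ⟨((a : MulAut P) x : P), hP ((a : MulAut P) x).2⟩, ?_, rfl⟩
    show θ _ ∈ E.hyperfocalSubgroup p
    suffices h : ∃ b : E.autGroup (imageAlong θ P), b ∈ pResidual p _ ∧
        AutInduced θ hP (a : MulAut P) (b : MulAut (imageAlong θ P)) by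
      obtain ⟨b, hb, hind⟩ := h
      refine Subgroup.subset_closure ⟨_, b, ⟨_, hmem x⟩, hI, hb, ?_⟩
      rw [map_mul, map_inv]
      exact congrArg₂ (· * ·) rfl (hind x (hmem x)).symm
    induction ha using Subgroup.closure_induction with
    | one => exact ⟨1, Subgroup.one_mem _, autInduced_one⟩
    | mul g g' _ _ h h' =>
      obtain ⟨b, hb, hi⟩ := h
      obtain ⟨c, hc, hj⟩ := h'
      exact ⟨b * c, Subgroup.mul_mem _ hb hc, autInduced_mul hmem hi hj⟩
    | inv g _ h =>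
      obtain ⟨b, hb, hi⟩ := h
      exact ⟨b⁻¹, Subgroup.inv_mem _ hb, autInduced_inv hmem hi⟩
    | mem g hg =>
      obtain ⟨β, hβ, hind⟩ := exists_autInduced hS hF hT hE hP g.2
      have h1 : β ^ orderOf g = 1 := by
        refine autInduced_unique hsurj (autInduced_pow hmem hind (orderOf g)) ?_
        rw [← SubmonoidClass.coe_pow, pow_orderOf_eq_one]
        exact autInduced_one
      refine ⟨⟨β, hβ⟩, CfsgLib.FusionExamples.mem_pResidual_of_pow_eq_one (m := orderOf g)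
        (Subtype.ext ?_) hg, hind⟩
      rw [SubmonoidClass.coe_pow]
      exact h1

end CfsgLib.Alperin
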