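import Cfsg.Agent.Lib.Alperin.LeastNormal
import Cfsg.Agent.Lib.FusionSub.Puig

/-!
Maps between centric subgroups of an invariant subsystem over `T` that extend over `C_S(T)` acting
trivially on it modulo the image.
-/

set_option autoImplicit false
set_option linter.style.haveILetI false
set_option linter.unusedSectionVars false

namespace CfsgLib.Alperin

open Cfsg Cfsg.FusionSystem CfsgLib.FusionSub CfsgLib.FusionBasics

variable {Ω : Type*} [Group Ω] {S T : Subgroup Ω} {F : FusionSystem S} {E : FusionSystem T}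
variable {p : ℕ} [Fact p.Prime] [Finite S] [Finite T]

/-- `φ` extends to a map on `P C_S(T)` moving each element of `C_S(T)` by an element of `φ(P)`. -/
def GoodExt (F : FusionSystem S) (T P : Subgroup Ω) (φ : P →* Ω) : Prop :=
  ∃ ψ ∈ F.Hom (P ⊔ centralizerIn S T), (∀ x : P, ψ (Subgroup.inclusion le_sup_left x) = φ x) ∧
    ∀ c : centralizerIn S T, (c : Ω)⁻¹ * ψ (Subgroup.inclusion le_sup_right c) ∈ φ.range

theorem GoodExt.mem {P : Subgroup Ω} {φ : P →* Ω} (h : GoodExt F T P φ) : φ ∈ F.Hom P := by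
  obtain ⟨ψ, hψ, hx, -⟩ := h
  exact restrict_mem_apply hψ le_sup_left fun x => (hx x).symm

theorem GoodExt.congr {P : Subgroup Ω} {φ χ : P →* Ω} (h : GoodExt F T P φ)
    (hx : ∀ x, χ x = φ x) : GoodExt F T P χ := by
  rwa [MonoidHom.ext hx]

theorem mem_sup_of_good {P : Subgroup Ω} {φ : P →* Ω} {ψ : ↥(P ⊔ centralizerIn S T) →* Ω}
    (hx : ∀ x : P, ψ (Subgroup.inclusion le_sup_left x) = φ x)
    (hc : ∀ c : centralizerIn S T, (c : Ω)⁻¹ * ψ (Subgroup.inclusion le_sup_right c) ∈ φ.range)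
    (z : ↥(P ⊔ centralizerIn S T)) : ψ z ∈ φ.range ⊔ centralizerIn S T := by
  refine apply_mem_of_sup ψ (fun x => Subgroup.mem_sup_left (S := φ.range) ⟨x, (hx x).symm⟩)
    (fun c => ?_) z
  have := mul_mem (Subgroup.mem_sup_right (S := φ.range) c.2) (Subgroup.mem_sup_left (hc c))
  rwa [mul_inv_cancel_left] at this

theorem GoodExt.incl {P : Subgroup Ω} (hP : P ≤ S) : GoodExt F T P P.subtype :=
  ⟨_, incl_mem F (sup_le hP (centralizerIn_le S T)), fun _ => rfl, fun c =>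
    ⟨1, by simp⟩⟩

theorem GoodExt.comp {P Q : Subgroup Ω} {φ : P →* Ω} {χ : Q →* Ω} {τ : P →* Ω}
    (h₁ : GoodExt F T P φ) (hr : φ.range = Q) (h₂ : GoodExt F T Q χ) (h : ∀ x : P, φ x ∈ Q)
    (hτ : ∀ x : P, τ x = χ ⟨φ x, h x⟩) : GoodExt F T P τ := by
  subst hr
  obtain ⟨ψ₁, hψ₁, hx₁, hc₁⟩ := h₁
  obtain ⟨ψ₂, hψ₂, hx₂, hc₂⟩ := h₂
  have hm := mem_sup_of_good hx₁ hc₁
  have hrange : χ.range = τ.range := by
    ext y
    constructor
    · rintro ⟨⟨_, x, rfl⟩, rfl⟩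
      exact ⟨x, hτ x⟩
    · rintro ⟨x, rfl⟩
      exact ⟨_, (hτ x).symm⟩
  refine ⟨ψ₂.comp (ψ₁.codRestrict _ hm), F.comp_mem hψ₁ hψ₂ hm, fun x => ?_, fun c => ?_⟩
  · rw [hτ, ← hx₂]
    exact congrArg ψ₂ (Subtype.ext (hx₁ x))
  · rw [← hrange]
    set r : φ.range := ⟨_, hc₁ c⟩
    have e : (ψ₁.codRestrict _ hm) (Subgroup.inclusion le_sup_right c) =
        Subgroup.inclusion le_sup_right c * Subgroup.inclusion le_sup_left r :=
      Subtype.ext (by simp [r])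
    show (c : Ω)⁻¹ * ψ₂ ((ψ₁.codRestrict _ hm) _) ∈ χ.range
    rw [e, map_mul, hx₂, ← mul_assoc]
    exact mul_mem (hc₂ c) ⟨r, rfl⟩

theorem GoodExt.inv {P Q : Subgroup Ω} {φ : P →* Ω} {θ : Q →* Ω} (h : GoodExt F T P φ)
    (hr : φ.range = Q) (hθ : ∀ (x : P) (hx : φ x ∈ Q), θ ⟨φ x, hx⟩ = x) : GoodExt F T Q θ := by
  subst hr
  obtain ⟨ψ, hψ, hx, hc⟩ := h
  obtain ⟨ψ', hψ', -, hψ'x, -⟩ := exists_inverse hψ rfl
  have hle : φ.range ⊔ centralizerIn S T ≤ ψ.range := by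
    refine sup_le ?_ fun c hcC => ?_
    · rintro _ ⟨x, rfl⟩
      exact ⟨_, hx x⟩
    · obtain ⟨x, hx'⟩ := hc ⟨c, hcC⟩
      refine ⟨Subgroup.inclusion le_sup_right ⟨c, hcC⟩ * (Subgroup.inclusion le_sup_left x)⁻¹, ?_⟩
      rw [map_mul, map_inv, hx, hx']
      group
  refine ⟨_, restrict_mem hψ' hle, ?_, fun c => ?_⟩
  · rintro ⟨_, x, rfl⟩
    rw [hθ x ⟨x, rfl⟩]
    refine Eq.trans (congrArg ψ' (Subtype.ext ?_)) (hψ'x (Subgroup.inclusion le_sup_left x) ⟨_, rfl⟩)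
    exact (hx x).symm
  · obtain ⟨x, hxc⟩ := hc c
    set z := Subgroup.inclusion (le_sup_right : centralizerIn S T ≤ P ⊔ centralizerIn S T) c *
      (Subgroup.inclusion le_sup_left x)⁻¹ with hz
    have hzc : ψ z = c := by
      rw [hz, map_mul, map_inv, hx, hxc]
      group
    have e : (ψ'.comp (Subgroup.inclusion hle)) (Subgroup.inclusion le_sup_right c) = z := by
      refine Eq.trans (congrArg ψ' (Subtype.ext ?_)) (hψ'x z ⟨z, rfl⟩)
      exact hzc.symm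
    rw [e]
    refine ⟨(⟨φ x, x, rfl⟩ : φ.range)⁻¹, ?_⟩
    rw [map_inv, hθ x ⟨x, rfl⟩, hz]
    simp

theorem GoodExt.restrict (hTS : F.StronglyClosed T) (hE : E.IsInvariantIn F) {P Q : Subgroup Ω}
    {φ : P →* Ω} (h : GoodExt F T P φ) (hPT : P ≤ T) (hQ : Q ≤ P) (hQc : E.IsCentric Q) :
    GoodExt F T Q (φ.comp (Subgroup.inclusion hQ)) := by
  have hφ := h.mem
  obtain ⟨ψ, hψ, hx, hc⟩ := h
  refine ⟨_, restrict_mem hψ (sup_le_sup_right hQ _),
    fun x => (congrArg ψ (Subtype.ext rfl)).trans (hx (Subgroup.inclusion hQ x)), fun c => ?_⟩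
  set χ := φ.comp (Subgroup.inclusion hQ) with hχ
  obtain ⟨w, hw⟩ := hc c
  have hdT : φ w ∈ T := hTS.2 P hPT φ hφ w
  have hcent := (isCentric_of_hom_invariant hE hQc (restrict_mem hφ hQ)).2 χ.range
    (isConj_refl E (isCentric_of_hom_invariant hE hQc (restrict_mem hφ hQ)).1)
  show (c : Ω)⁻¹ * ψ (Subgroup.inclusion le_sup_right c) ∈ χ.range
  rw [← hw]
  refine hcent ⟨hdT, ?_⟩
  rintro _ ⟨y, rfl⟩
  have hyT : φ (Subgroup.inclusion hQ y) ∈ T := hTS.2 P hPT φ hφ _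
  have h1 : φ (Subgroup.inclusion hQ y) * c = c * φ (Subgroup.inclusion hQ y) := c.2.2 _ hyT
  have h2 : φ (Subgroup.inclusion hQ y) * ψ (Subgroup.inclusion le_sup_right c) =
      ψ (Subgroup.inclusion le_sup_right c) * φ (Subgroup.inclusion hQ y) := by
    rw [← hx, ← map_mul, ← map_mul]
    exact congrArg ψ (Subtype.ext (c.2.2 _ (hPT (hQ y.2))))
  show φ (Subgroup.inclusion hQ y) * φ w = φ w * φ (Subgroup.inclusion hQ y)
  rw [hw]
  have h3 : φ (Subgroup.inclusion hQ y) * (c : Ω)⁻¹ = (c : Ω)⁻¹ * φ (Subgroup.inclusion hQ y) :=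
    (Commute.inv_right h1).eq
  rw [← mul_assoc, h3, mul_assoc, h2, mul_assoc]

/-- An automorphism of `T` extends to `T C_S(T)`, preserving `C_S(T)`. -/
theorem exists_ext_centralizer (hS : IsPGroup p S) (hF : F.IsSaturated p) (hTS : F.StronglyClosed T)
    {b : MulAut T} (hb : b ∈ F.autGroup T) :
    ∃ β ∈ F.Hom (T ⊔ centralizerIn S T),
      (∀ x : T, β (Subgroup.inclusion le_sup_left x) = ((b x : T) : Ω)) ∧
      ∀ c : centralizerIn S T, β (Subgroup.inclusion le_sup_right c) ∈ centralizerIn S T := by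
  have hTn : F.IsFullyNormalized T := by
    refine ⟨hTS.1, fun Q ⟨φ, hφ, hr⟩ => ?_⟩
    have hQT : Q ≤ T := by
      rw [← hr]
      rintro _ ⟨x, rfl⟩
      exact hTS.2 T le_rfl φ hφ x
    rw [Subgroup.eq_of_le_of_card_ge hQT (by rw [← hr, card_range_eq (F.injective_of_mem hφ)])]
  have hbF := (mem_autGroup_iff F hTS.1).mp hb
  obtain ⟨ψ, hψ, hψx⟩ := (receptive_of_fullyNormalized hS hF hTn).2 T _ hbF (range_subtype_comp_aut b)
  have hle := sup_centralizerIn_le_extender hbF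
  refine ⟨_, restrict_mem hψ hle, fun x => hψx x x.2 _, fun c => ?_⟩
  exact apply_mem_centralizerIn hψ (le_extender hbF)
    ((map_subgroupOf_of_extends (le_extender hbF) hψx).trans (range_subtype_comp_aut b)) _ c.2.2

/-- Transport of good maps by automorphisms of `T`. -/
theorem GoodExt.transport (hS : IsPGroup p S) (hF : F.IsSaturated p) (hTS : F.StronglyClosed T)
    {P : Subgroup Ω} {φ : P →* Ω} (h : GoodExt F T P φ) (hPT : P ≤ T) {b : MulAut T}
    (hb : b ∈ F.autGroup T) :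
    ∃ χ : ((P.subgroupOf T).map (T.subtype.comp b.toMonoidHom) : Subgroup Ω) →* Ω,
      GoodExt F T _ χ ∧ ∀ (x : P) (hφx : φ x ∈ T)
        (hbx : ((b ⟨x, hPT x.2⟩ : T) : Ω) ∈ (P.subgroupOf T).map (T.subtype.comp b.toMonoidHom)),
        χ ⟨(b ⟨x, hPT x.2⟩ : T), hbx⟩ = ((b ⟨φ x, hφx⟩ : T) : Ω) := by
  have hφ := h.mem
  have hφT : ∀ x, φ x ∈ T := fun x => hTS.2 P hPT φ hφ x
  obtain ⟨ψ, hψ, hx, hc⟩ := h
  obtain ⟨β, hβ, hβx, hβC⟩ := exists_ext_centralizer hS hF hTS hb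
  haveI := finite_of_le (sup_le hTS.1 (centralizerIn_le S T))
  have hβr : β.range = T ⊔ centralizerIn S T := by
    refine Subgroup.eq_of_le_of_card_ge ?_ (card_range_eq (F.injective_of_mem hβ)).ge
    rintro _ ⟨z, rfl⟩
    exact apply_mem_of_sup β (fun x => Subgroup.mem_sup_left (hβx x ▸ (b x).2))
      (fun c => Subgroup.mem_sup_right (hβC c)) z
  obtain ⟨θ, hθ, hθr, hθx, hθy⟩ := exists_inverse hβ hβr
  set bP := (P.subgroupOf T).map (T.subtype.comp b.toMonoidHom) with hbP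
  have hbPT : bP ≤ T := by
    rintro _ ⟨x, -, rfl⟩
    exact (b x).2
  have hθb : ∀ (x : Ω) (hxT : x ∈ T),
      θ ⟨((b ⟨x, hxT⟩ : T) : Ω), Subgroup.mem_sup_left (b _).2⟩ = x := by
    intro x hxT
    refine Eq.trans (congrArg θ (Subtype.ext ?_))
      (hθx (Subgroup.inclusion le_sup_left ⟨x, hxT⟩) (hβr.le ⟨_, rfl⟩))
    exact (hβx _).symm
  have hθC : ∀ c : centralizerIn S T,
      θ (Subgroup.inclusion le_sup_right c) ∈ centralizerIn S T := by
    intro c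
    refine ⟨apply_mem hθ _, fun t ht => ?_⟩
    have e1 := hθb t ht
    rw [← e1, ← map_mul, ← map_mul]
    exact congrArg θ (Subtype.ext (c.2.2 _ (b _).2))
  set θ' := θ.comp (Subgroup.inclusion (sup_le_sup_right hbPT (centralizerIn S T))) with hθ'
  have hm1 : ∀ z, θ' z ∈ P ⊔ centralizerIn S T := by
    refine apply_mem_of_sup θ' ?_ (fun c => Subgroup.mem_sup_right (hθC c))
    rintro ⟨_, ⟨x, hxT⟩, hxP, rfl⟩
    exact Subgroup.mem_sup_left (Eq.subst (motive := fun w => w ∈ P) (hθb x hxT).symm hxP)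
  have hφTr : φ.range ≤ T := by
    rintro _ ⟨w, rfl⟩
    exact hφT w
  have hm2 : ∀ z, (ψ.comp (θ'.codRestrict _ hm1)) z ∈ T ⊔ centralizerIn S T := fun z =>
    (sup_le_sup_right hφTr (centralizerIn S T) :) (mem_sup_of_good hx hc _)
  set Ψ := β.comp ((ψ.comp (θ'.codRestrict _ hm1)).codRestrict _ hm2) with hΨ
  have hΨF : Ψ ∈ F.Hom (bP ⊔ centralizerIn S T) :=
    F.comp_mem (F.comp_mem (restrict_mem hθ _) hψ hm1) hβ hm2
  have hval : ∀ (x : P) (hφx : φ x ∈ T) (hbx : ((b ⟨x, hPT x.2⟩ : T) : Ω) ∈ bP),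
      Ψ (Subgroup.inclusion le_sup_left ⟨(b ⟨x, hPT x.2⟩ : T), hbx⟩) = ((b ⟨φ x, hφx⟩ : T) : Ω) := by
    intro x hφx hbx
    refine Eq.trans ?_ (hβx ⟨φ x, hφx⟩)
    refine congrArg β (Subtype.ext ?_)
    refine Eq.trans (congrArg ψ (Subtype.ext ?_)) (hx x)
    exact hθb x (hPT x.2)
  set χ := Ψ.comp (Subgroup.inclusion (le_sup_left : bP ≤ bP ⊔ centralizerIn S T)) with hχ
  refine ⟨χ, ⟨Ψ, hΨF, fun _ => rfl, fun c => ?_⟩, hval⟩
  set c' : centralizerIn S T := ⟨_, hθC c⟩ with hc'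
  obtain ⟨w, hw⟩ := hc c'
  have e1 : β (Subgroup.inclusion le_sup_right c') = c :=
    hθy (Subgroup.inclusion le_sup_right c) (Subgroup.mem_sup_right (hθC c))
  have e2 : Ψ (Subgroup.inclusion le_sup_right c) = c * ((b ⟨φ w, hφT w⟩ : T) : Ω) := by
    rw [← e1, ← hβx, ← map_mul]
    refine congrArg β (Subtype.ext ?_)
    show ψ _ = (c' : Ω) * φ w
    rw [hw, mul_inv_cancel_left]
    exact congrArg ψ (Subtype.ext rfl)
  rw [e2, inv_mul_cancel_left]
  exact ⟨⟨_, ⟨⟨w, hPT w.2⟩, w.2, rfl⟩⟩, hval w (hφT w) _⟩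

/-- `p`-automorphisms of centric subgroups are good. -/
theorem goodExt_of_pElement (hS : IsPGroup p S) (hF : F.IsSaturated p) (hT : IsPGroup p T)
    (hEs : E.IsSaturated p) (hE : E.IsInvariantIn F) {Q : Subgroup Ω} (hQ : E.IsCentric Q)
    {β : MulAut Q} (hβ : β ∈ E.autGroup Q) {k : ℕ} (hk : β ^ p ^ k = 1) :
    GoodExt F T Q (Q.subtype.comp β.toMonoidHom) := by
  have hTS := hE.2.1
  have hQS : Q ≤ S := hQ.1.trans hTS.1
  obtain ⟨Q', hQQ, hQ'⟩ := exists_isFullyNormalized F hQS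
  obtain ⟨η, hη, hηm, hηQ⟩ := exists_hom_normalizerIn_of_fullyNormalized hS hF hQ' hQQ
  have lQ : Q ≤ normalizerIn S Q := le_normalizerIn hQS
  have hηQF : η.comp (Subgroup.inclusion lQ) ∈ F.Hom Q := restrict_mem hη lQ
  have hr : (η.comp (Subgroup.inclusion lQ)).range = Q' := (range_comp_inclusion η lQ).trans hηQ
  have hc' : E.IsCentric Q' := hr ▸ isCentric_of_hom_invariant hE hQ hηQF
  set e := isoOfHom (η.comp (Subgroup.inclusion lQ)) (F.injective_of_mem hηQF) hr with he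
  set β' := MulAut.congr e β with hβ'
  have hβ'E : β' ∈ E.autGroup Q' :=
    congr_mem_autGroup hE.2.2.1 (hE.2.2.2 Q hQ.1 _ hηQF) _ hr hβ
  -- `Q'` is fully normalized in `E`
  have hEn : E.IsFullyNormalized Q' := by
    refine ⟨hc'.1, fun R ⟨φ, hφ, hφr⟩ => ?_⟩
    obtain ⟨ψ, hψ, hψm, -⟩ := exists_hom_normalizerIn_of_fullyNormalized hS hF hQ'
      (IsConj.symm ⟨φ, hE.1 _ hφ, hφr⟩)
    exact card_le_of_maps_to (F.injective_of_mem hψ) (inf_le_inf_right _ hTS.1)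
      (normalizerIn_le T Q') fun x hx => ⟨stronglyClosed_apply hTS hψ x hx.1, (hψm x).2⟩
  haveI := finite_autGroup E hc'.1
  obtain ⟨-, R, hR⟩ := (centralized_automized_of_fullyNormalized hT hEs hEn).2
  obtain ⟨u, hu, huc⟩ := exists_conj_le (p := p) (B := Subgroup.zpowers (⟨β', hβ'E⟩ : E.autGroup Q'))
    (M := ⊤) (le_top : (R : Subgroup (E.autGroup Q')) ≤ ⊤)
    (by rw [R.card_eq_multiplicity, Subgroup.card_top]) le_top (by
      obtain ⟨j, -, hj⟩ := (Nat.dvd_prime_pow Fact.out).mp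
        (orderOf_dvd_of_pow_eq_one (x := (⟨β', hβ'E⟩ : E.autGroup Q')) (n := p ^ k) (Subtype.ext
          (show β' ^ p ^ k = 1 by rw [hβ', ← map_pow, hk, map_one])))
      exact IsPGroup.of_card ((Nat.card_zpowers _).trans hj))
  have huR := huc _ (Subgroup.mem_zpowers _)
  rw [hR] at huR
  obtain ⟨t, ht, htx⟩ := mem_autInducedBy_iff.mp huR
  -- extend `u⁻¹` to `Q' C_S(Q')`
  set D := Q' ⊔ centralizerIn S Q' with hD
  have hDS : D ≤ S := sup_le hQ'.1 (centralizerIn_le S Q')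
  haveI := finite_of_le hDS
  have huF : Q'.subtype.comp ((u⁻¹ : E.autGroup Q') : MulAut Q').toMonoidHom ∈ F.Hom Q' :=
    hE.1 _ ((mem_autGroup_iff E hc'.1).mp (u⁻¹).2)
  obtain ⟨υ, hυ, hυx⟩ := (receptive_of_fullyNormalized hS hF hQ').2 Q' _ huF (range_subtype_comp_aut _)
  have hDle := sup_centralizerIn_le_extender huF
  set υD := υ.comp (Subgroup.inclusion hDle) with hυD
  have hυDF : υD ∈ F.Hom D := restrict_mem hυ hDle
  have hυQ : (Q'.subgroupOf (extender S Q' _)).map υ = Q' :=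
    (map_subgroupOf_of_extends (le_extender huF) hυx).trans (range_subtype_comp_aut _)
  have hυDm : ∀ z, υD z ∈ D := apply_mem_of_sup υD
    (fun x => Subgroup.mem_sup_left (hυQ.le ⟨_, x.2, rfl⟩))
    (fun x => Subgroup.mem_sup_right (apply_mem_centralizerIn hυ (le_extender huF) hυQ _ x.2.2))
  have hυr : υD.range = D :=
    Subgroup.eq_of_le_of_card_ge (fun y ⟨z, hz⟩ => hz ▸ hυDm z)
      (card_range_eq (F.injective_of_mem hυDF)).ge
  obtain ⟨θ, hθ, hθr, hθx, hθy⟩ := exists_inverse hυDF hυr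
  have htN : t ∈ Subgroup.normalizer (Q' : Set Ω) := normalizer_of_induced htx
  have hct : ∀ z : D, t * (z : Ω) * t⁻¹ ∈ D := fun z => by
    refine apply_mem_of_sup (conjHom D t) (fun x => Subgroup.mem_sup_left ?_)
      (fun x => Subgroup.mem_sup_right (T := centralizerIn S Q') ⟨?_, ?_⟩) z
    · exact mem_normalizer_conj htN x.2
    · exact S.mul_mem (S.mul_mem (hTS.1 ht) x.2.1) (S.inv_mem (hTS.1 ht))
    · intro q hq
      have hq' : t⁻¹ * q * t⁻¹⁻¹ ∈ Q' := mem_normalizer_conj (inv_mem htN) hq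
      have h := x.2.2 _ hq'
      show q * (t * (x : Ω) * t⁻¹) = t * x * t⁻¹ * q
      calc q * (t * (x : Ω) * t⁻¹) = t * (t⁻¹ * q * t⁻¹⁻¹ * x) * t⁻¹ := by group
        _ = t * ((x : Ω) * (t⁻¹ * q * t⁻¹⁻¹)) * t⁻¹ := by rw [h]
        _ = t * x * t⁻¹ * q := by group
  have hm1 : ∀ z, θ z ∈ D := fun z => hθr.le ⟨z, rfl⟩
  have hm2 : ∀ z, ((conjHom D t).comp (θ.codRestrict D hm1)) z ∈ D := fun z => hct _
  set ψ' := υD.comp (((conjHom D t).comp (θ.codRestrict D hm1)).codRestrict D hm2) with hψ'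
  have hψ'F : ψ' ∈ F.Hom D :=
    F.comp_mem (F.comp_mem hθ (F.conj_mem hDS (hTS.1 ht)) hm1) hυDF hm2
  have hψ'Q : ∀ x : Q', ψ' (Subgroup.inclusion le_sup_left x) = ((β' x : Q') : Ω) := by
    intro x
    set y : Q' := ((u : E.autGroup Q') : MulAut Q') x with hy
    have h1 : θ (Subgroup.inclusion le_sup_left x) = (y : Ω) := by
      refine Eq.trans (congrArg θ (Subtype.ext ?_))
        (hθx (Subgroup.inclusion le_sup_left y) (hυDm _))
      refine Eq.trans ?_ (hυx y y.2 _).symm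
      show (x : Ω) = ((((u⁻¹ : E.autGroup Q') : MulAut Q') y : Q') : Ω)
      rw [hy, InvMemClass.coe_inv, MulAut.inv_apply_self]
    have h2 : t * (y : Ω) * t⁻¹ = (((u : MulAut Q') (β' x) : Q') : Ω) := by
      rw [← htx y]
      show (((((u : MulAut Q') * β' * (u : MulAut Q')⁻¹) ((u : MulAut Q') x)) : Q') : Ω) = _
      simp only [MulAut.mul_apply, MulAut.inv_apply_self]
    refine Eq.trans (congrArg υD (a₂ := Subgroup.inclusion le_sup_left ((u : MulAut Q') (β' x)))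
      (Subtype.ext ?_)) (Eq.trans (b := ((((u⁻¹ : E.autGroup Q') : MulAut Q') ((u : MulAut Q') (β' x)) : Q') : Ω))
      (hυx _ ((u : MulAut Q') (β' x)).2 (hDle (Subgroup.mem_sup_left ((u : MulAut Q') (β' x)).2))) ?_)
    · show t * θ (Subgroup.inclusion le_sup_left x) * t⁻¹ = _
      rw [h1, h2]
      rfl
    · show ((((u⁻¹ : E.autGroup Q') : MulAut Q') ((u : MulAut Q') (β' x)) : Q') : Ω) = _
      rw [InvMemClass.coe_inv, MulAut.inv_apply_self]
  have hψ'C : ∀ (z : Ω) (hz : z ∈ centralizerIn S Q'),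
      z⁻¹ * ψ' ⟨z, Subgroup.mem_sup_right hz⟩ ∈ Q' := by
    intro z hz
    set y := θ ⟨z, Subgroup.mem_sup_right hz⟩ with hy
    have hyD : y ∈ D := hm1 _
    have hyc : y ∈ Subgroup.centralizer (Q' : Set Ω) := by
      intro q hq
      have h1 : υD ⟨q, Subgroup.mem_sup_left hq⟩ ∈ Q' := hυQ.le ⟨_, hq, rfl⟩
      have h2 : υD ⟨y, hyD⟩ = z := hθy ⟨z, _⟩ hyD
      have h3 := hz.2 _ h1
      rw [← h2, ← map_mul, ← map_mul] at h3
      exact congrArg Subtype.val (F.injective_of_mem hυDF h3)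
    have hyS : y ∈ S := hDS hyD
    have hq0 : t * y * t⁻¹ * y⁻¹ ∈ Q' := by
      refine hc'.2 Q' (isConj_refl E hc'.1) ⟨?_, ?_⟩
      · have h1 := stronglyClosed_conj hTS hyS (T.inv_mem ht)
        have h2 := T.mul_mem ht h1
        simpa [mul_assoc] using h2
      · refine Subgroup.mul_mem _ (fun q hq => ?_) (Subgroup.inv_mem _ hyc)
        have hq' : t⁻¹ * q * t⁻¹⁻¹ ∈ Q' := mem_normalizer_conj (inv_mem htN) hq
        have h := hyc _ hq'
        calc q * (t * y * t⁻¹) = t * (t⁻¹ * q * t⁻¹⁻¹ * y) * t⁻¹ := by group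
          _ = t * (y * (t⁻¹ * q * t⁻¹⁻¹)) * t⁻¹ := by rw [h]
          _ = t * y * t⁻¹ * q := by group
    have hv : ψ' ⟨z, Subgroup.mem_sup_right hz⟩ =
        υD ⟨_, Subgroup.mem_sup_left hq0⟩ * z := by
      have e : ((conjHom D t).comp (θ.codRestrict D hm1)).codRestrict D hm2 ⟨z, Subgroup.mem_sup_right hz⟩ =
          (⟨_, Subgroup.mem_sup_left hq0⟩ : D) * ⟨y, hyD⟩ :=
        Subtype.ext (show t * y * t⁻¹ = t * y * t⁻¹ * y⁻¹ * y by group)
      show υD _ = _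
      rw [e, map_mul]
      exact congrArg (_ * ·) (hθy ⟨z, _⟩ hyD)
    have hw : υD ⟨_, Subgroup.mem_sup_left hq0⟩ ∈ Q' := hυQ.le ⟨_, hq0, rfl⟩
    rw [hv, hz.2 _ hw, inv_mul_cancel_left]
    exact hw
  -- pull back along `η`
  have hCN : centralizerIn S T ≤ normalizerIn S Q :=
    (inf_le_inf_left S (Subgroup.centralizer_le hQ.1)).trans (centralizerIn_le_normalizerIn S Q)
  have hηC : ∀ c : centralizerIn S T, η (Subgroup.inclusion hCN c) ∈ centralizerIn S Q' := fun c =>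
    apply_mem_centralizerIn hη lQ hηQ _ (Subgroup.centralizer_le hQ.1 c.2.2)
  set QC := Q ⊔ centralizerIn S T with hQC
  set η' := η.comp (Subgroup.inclusion (sup_le lQ hCN : QC ≤ normalizerIn S Q)) with hη'
  have hη'F : η' ∈ F.Hom QC := restrict_mem hη _
  have hm3 : ∀ z, η' z ∈ D := apply_mem_of_sup η'
    (fun x => Subgroup.mem_sup_left (hr.le ⟨x, rfl⟩))
    (fun c => Subgroup.mem_sup_right (hηC c))
  obtain ⟨ι, hι, -, hιx, -⟩ := exists_inverse hη'F rfl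
  have hm4 : ∀ z, (ψ'.comp (η'.codRestrict D hm3)) z ∈ η'.range := by
    refine apply_mem_of_sup _ (fun x => ?_) (fun c => ?_)
    · refine ⟨Subgroup.inclusion le_sup_left (β x), Eq.trans ?_ (hψ'Q (e x)).symm⟩
      show η' (Subgroup.inclusion le_sup_left (β x)) = ((MulAut.congr e β (e x) : Q') : Ω)
      rw [MulAut.congr_apply]
      simp only [MulEquiv.trans_apply, MulEquiv.symm_apply_apply]
      rfl
    · obtain ⟨w, hw⟩ := hr.ge (hψ'C _ (hηC c))
      refine ⟨Subgroup.inclusion le_sup_right c * Subgroup.inclusion le_sup_left w, ?_⟩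
      rw [map_mul]
      show η (Subgroup.inclusion hCN c) * (η.comp (Subgroup.inclusion lQ)) w = _
      rw [hw, mul_inv_cancel_left]
      rfl
  refine ⟨ι.comp ((ψ'.comp (η'.codRestrict D hm3)).codRestrict _ hm4),
    F.comp_mem (F.comp_mem hη'F hψ'F hm3) hι hm4, fun x => ?_, fun c => ?_⟩
  · refine Eq.trans (congrArg ι (Subtype.ext ?_))
      (hιx (Subgroup.inclusion le_sup_left (β x)) ⟨_, rfl⟩)
    refine (hψ'Q (e x)).trans ?_
    rw [hβ', MulAut.congr_apply]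
    simp only [MulEquiv.trans_apply, MulEquiv.symm_apply_apply]
    rfl
  · rw [range_subtype_comp_aut]
    obtain ⟨w, hw⟩ := hr.ge (hψ'C _ (hηC c))
    have hval : (ι.comp ((ψ'.comp (η'.codRestrict D hm3)).codRestrict _ hm4))
        (Subgroup.inclusion le_sup_right c) = (c : Ω) * (w : Ω) := by
      refine Eq.trans (congrArg ι (Subtype.ext ?_))
        (hιx (Subgroup.inclusion le_sup_right c * Subgroup.inclusion le_sup_left w) ⟨_, rfl⟩)
      show ψ' ⟨η (Subgroup.inclusion hCN c), _⟩ = η' _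
      rw [map_mul]
      show _ = η (Subgroup.inclusion hCN c) * (η.comp (Subgroup.inclusion lQ)) w
      rw [hw, mul_inv_cancel_left]
    rw [hval, inv_mul_cancel_left]
    exact w.2

theorem GoodExt.of_gen (hS : IsPGroup p S) (hF : F.IsSaturated p) (hT : IsPGroup p T)
    (hEs : E.IsSaturated p) (hE : E.IsInvariantIn F) {A : Subgroup Ω} {z : A →* Ω}
    (hz : Gen E p A z) :
    ∀ {A' : Subgroup Ω} (hA : A' ≤ A), E.IsCentric A' →
      GoodExt F T A' (z.comp (Subgroup.inclusion hA)) := by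
  induction hz with
  | @base A Q hAQ hQ β hβ k hk =>
    intro A' hA hA'
    exact ((goodExt_of_pElement hS hF hT hEs hE hQ hβ hk).restrict hE.2.1 hE hQ.1
      (hA.trans hAQ) hA').congr fun _ => rfl
  | @comp A B φ ψ h₁ h₂ h ih₁ ih₂ =>
    intro A' hA hA'
    set φ₀ := φ.comp (Subgroup.inclusion hA) with hφ₀
    have hφ₀F : φ₀ ∈ F.Hom A' := hE.1 _ (restrict_mem h₁.mem hA)
    have hle : φ₀.range ≤ B := by
      rintro _ ⟨x, rfl⟩
      exact h _
    exact (ih₁ hA hA').comp rfl (ih₂ hle (isCentric_of_hom_invariant hE hA' hφ₀F))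
      (fun x => ⟨x, rfl⟩) fun x => rfl

end CfsgLib.Alperin
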