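import Cfsg.Agent.Lib.Alperin.Receptive
import Cfsg.Agent.Lib.FusionSub.Puig

/-!
Invariant subsystems: the maps that decompose as an automorphism of `T` after a map of the
subsystem form a fusion system; Frattini condition by downward induction.
-/

set_option autoImplicit false
set_option linter.style.haveILetI false

namespace CfsgLib.Alperin

open Cfsg Cfsg.FusionSystem

variable {Ω : Type*} [Group Ω] {S T : Subgroup Ω}

/-- The invariance condition: `Aut_F(T)` carries maps of `E` to maps of `E`. -/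
def InvCond (E : FusionSystem T) (F : FusionSystem S) : Prop :=
  ∀ (P : Subgroup Ω) (hPT : P ≤ T) (φ : P →* Ω), φ ∈ E.Hom P → ∀ α ∈ F.autGroup T,
    ∃ χ ∈ E.Hom ((P.subgroupOf T).map (T.subtype.comp α.toMonoidHom)),
      ∀ (x : P) (hφx : φ x ∈ T)
        (hαx : ((α ⟨x, hPT x.2⟩ : T) : Ω) ∈ (P.subgroupOf T).map (T.subtype.comp α.toMonoidHom)),
        χ ⟨(α ⟨x, hPT x.2⟩ : T), hαx⟩ = ((α ⟨φ x, hφx⟩ : T) : Ω)

/-- The Frattini decomposition of one map. -/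
def Decomp (E : FusionSystem T) (F : FusionSystem S) (P : Subgroup Ω) (φ : P →* Ω) : Prop :=
  ∃ α ∈ F.autGroup T, ∃ φ₀ ∈ E.Hom P, ∀ (x : P) (hx : φ₀ x ∈ T), φ x = ((α ⟨φ₀ x, hx⟩ : T) : Ω)

/-- The maps with a Frattini decomposition form a fusion system over `T`. -/
def frattiniSystem (E : FusionSystem T) (F : FusionSystem S) (hinv : InvCond E F) :
    FusionSystem T where
  Hom P := {φ | Decomp E F P φ}
  le_of_mem := by
    rintro P φ ⟨α, -, φ₀, hφ₀, hx⟩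
    exact ⟨dom_le hφ₀, fun x => by rw [hx x (apply_mem hφ₀ x)]; exact (α _).2⟩
  injective_of_mem := by
    rintro P φ ⟨α, -, φ₀, hφ₀, hx⟩ a b hab
    rw [hx a (apply_mem hφ₀ a), hx b (apply_mem hφ₀ b)] at hab
    exact E.injective_of_mem hφ₀ (congrArg Subtype.val (α.injective (Subtype.ext hab)))
  conj_mem := by
    intro P g hP hg
    exact ⟨1, Subgroup.one_mem _, conjHom P g, E.conj_mem hP hg, fun x hx => rfl⟩
  comp_mem := by
    rintro P Q φ ψ ⟨a, ha, φ₀, hφ₀, hx⟩ ⟨b, hb, ψ₀, hψ₀, hy⟩ h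
    have hQT : Q ≤ T := dom_le hψ₀
    obtain ⟨χ, hχ, hχx⟩ := hinv Q hQT ψ₀ hψ₀ a⁻¹ (Subgroup.inv_mem _ ha)
    have hk : ∀ x : P, a⁻¹ ⟨φ x, hQT (h x)⟩ = ⟨φ₀ x, apply_mem hφ₀ x⟩ := fun x => by
      apply a.injective
      rw [MulAut.apply_inv_self]
      exact Subtype.ext (hx x (apply_mem hφ₀ x))
    have hm : ∀ x : P, φ₀ x ∈ (Q.subgroupOf T).map (T.subtype.comp (a⁻¹ : MulAut T).toMonoidHom) :=
      fun x => ⟨⟨φ x, hQT (h x)⟩, h x, congrArg Subtype.val (hk x)⟩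
    refine ⟨b * a, Subgroup.mul_mem _ hb ha, _, E.comp_mem hφ₀ hχ hm, fun x hxT => ?_⟩
    show ψ ⟨φ x, h x⟩ = ((b (a ⟨χ ⟨φ₀ x, hm x⟩, hxT⟩) : T) : Ω)
    rw [hy ⟨φ x, h x⟩ (apply_mem hψ₀ _)]
    have e1 : (⟨φ₀ x, hm x⟩ : ((Q.subgroupOf T).map (T.subtype.comp (a⁻¹ : MulAut T).toMonoidHom))) =
        ⟨(a⁻¹ ⟨φ x, hQT (h x)⟩ : T), ⟨⟨φ x, hQT (h x)⟩, h x, rfl⟩⟩ :=
      Subtype.ext (congrArg Subtype.val (hk x)).symm
    have e2 : (⟨χ ⟨φ₀ x, hm x⟩, hxT⟩ : T) = a⁻¹ ⟨ψ₀ ⟨φ x, h x⟩, apply_mem hψ₀ _⟩ :=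
      Subtype.ext (by
        show χ ⟨φ₀ x, hm x⟩ = _
        rw [e1]
        exact hχx ⟨φ x, h x⟩ _ _)
    rw [e2]
    simp
  inv_mem := by
    rintro P φ ⟨a, ha, φ₀, hφ₀, hx⟩
    obtain ⟨θ, hθ, -, hθ1, -⟩ := exists_inverse hφ₀ rfl
    have hrT : φ₀.range ≤ T := range_le hφ₀
    obtain ⟨χ, hχ, hχx⟩ := hinv φ₀.range hrT θ hθ a ha
    have hle : φ.range ≤ (φ₀.range.subgroupOf T).map (T.subtype.comp a.toMonoidHom) := by
      rintro _ ⟨x, rfl⟩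
      exact ⟨⟨φ₀ x, apply_mem hφ₀ x⟩, ⟨x, rfl⟩, (hx x (apply_mem hφ₀ x)).symm⟩
    let χr : φ.range →* T :=
      (χ.comp (Subgroup.inclusion hle)).codRestrict T fun y => apply_mem hχ _
    refine ⟨T.subtype.comp ((a⁻¹ : MulAut T).toMonoidHom.comp χr),
      ⟨a⁻¹, Subgroup.inv_mem _ ha, χ.comp (Subgroup.inclusion hle), restrict_mem hχ hle,
        fun y _ => rfl⟩, fun x => ?_⟩
    show ((a⁻¹ (⟨χ ⟨φ x, hle ⟨x, rfl⟩⟩, _⟩ : T) : T) : Ω) = x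
    have hxT : (x : Ω) ∈ T := dom_le hφ₀ x.2
    have hth : θ ⟨φ₀ x, ⟨x, rfl⟩⟩ = (x : Ω) := hθ1 x ⟨x, rfl⟩
    have hp : θ ⟨φ₀ x, ⟨x, rfl⟩⟩ ∈ T := by rw [hth]; exact hxT
    have e1 : (⟨φ x, hle ⟨x, rfl⟩⟩ : ((φ₀.range.subgroupOf T).map (T.subtype.comp a.toMonoidHom))) =
        ⟨(a ⟨φ₀ x, hrT ⟨x, rfl⟩⟩ : T), ⟨⟨φ₀ x, hrT ⟨x, rfl⟩⟩, ⟨x, rfl⟩, rfl⟩⟩ :=
      Subtype.ext (hx x (apply_mem hφ₀ x))
    have e2 : (χ ⟨φ x, hle ⟨x, rfl⟩⟩ : Ω) = ((a ⟨x, hxT⟩ : T) : Ω) := by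
      rw [e1]
      refine (hχx ⟨φ₀ x, ⟨x, rfl⟩⟩ hp _).trans ?_
      simp only [hth]
    simp only [e2, Subtype.coe_eta, MulAut.inv_apply_self]

theorem frattiniSystem_hom (E : FusionSystem T) (F : FusionSystem S) (hinv : InvCond E F)
    (P : Subgroup Ω) (φ : P →* Ω) :
    φ ∈ (frattiniSystem E F hinv).Hom P ↔ Decomp E F P φ := Iff.rfl

theorem mem_frattiniSystem_of_mem {E : FusionSystem T} {F : FusionSystem S} (hinv : InvCond E F)
    {P : Subgroup Ω} {φ : P →* Ω} (h : φ ∈ E.Hom P) : φ ∈ (frattiniSystem E F hinv).Hom P :=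
  ⟨1, Subgroup.one_mem _, φ, h, fun _ _ => rfl⟩

/-- A map with a Frattini decomposition carries `Aut_E` of its source into `Aut_E` of its image. -/
theorem congr_mem_autGroup {E : FusionSystem T} {F : FusionSystem S} (hinv : InvCond E F)
    {P Q : Subgroup Ω} {φ : P →* Ω} (hφ : Decomp E F P φ) (hinj : Function.Injective φ)
    (hr : φ.range = Q) {β : MulAut P} (hβ : β ∈ E.autGroup P) :
    MulAut.congr (isoOfHom φ hinj hr) β ∈ E.autGroup Q := by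
  obtain ⟨a, ha, φ₀, hφ₀, hx⟩ := hφ
  set e := isoOfHom φ hinj hr
  set e₀ := isoOfHom φ₀ (E.injective_of_mem hφ₀) rfl
  have hQT : Q ≤ T := by
    rw [← hr]
    rintro _ ⟨x, rfl⟩
    rw [hx x (apply_mem hφ₀ x)]
    exact (a _).2
  refine (mem_autGroup_iff E hQT).mpr ?_
  have h1 : P.subtype.comp (β.toMonoidHom.comp e₀.symm.toMonoidHom) ∈ E.Hom φ₀.range :=
    comp_mem_apply (isoOfHom_symm_mem hφ₀ rfl) ((mem_autGroup_iff E (dom_le hφ₀)).mp hβ)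
      (fun y => (e₀.symm y).2) fun y => rfl
  let φ₁ : φ₀.range →* Ω := φ₀.comp (β.toMonoidHom.comp e₀.symm.toMonoidHom)
  have hφ₁ : φ₁ ∈ E.Hom φ₀.range :=
    comp_mem_apply h1 hφ₀ (fun y => (β (e₀.symm y)).2) fun y => rfl
  obtain ⟨χ, hχ, hχx⟩ := hinv _ (range_le hφ₀) φ₁ hφ₁ a ha
  have hle : Q ≤ (φ₀.range.subgroupOf T).map (T.subtype.comp a.toMonoidHom) := by
    rw [← hr]
    rintro _ ⟨x, rfl⟩
    exact ⟨⟨φ₀ x, apply_mem hφ₀ x⟩, ⟨x, rfl⟩, (hx x (apply_mem hφ₀ x)).symm⟩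
  refine restrict_mem_apply hχ hle fun y => ?_
  obtain ⟨x, rfl⟩ := e.surjective y
  have e1 : (⟨(e x : Ω), hle (e x).2⟩ :
      ((φ₀.range.subgroupOf T).map (T.subtype.comp a.toMonoidHom))) =
      ⟨(a ⟨φ₀ x, range_le hφ₀ ⟨x, rfl⟩⟩ : T), ⟨⟨φ₀ x, range_le hφ₀ ⟨x, rfl⟩⟩, ⟨x, rfl⟩, rfl⟩⟩ :=
    Subtype.ext (hx x (apply_mem hφ₀ x))
  rw [e1]
  refine Eq.trans ?_ (hχx ⟨φ₀ x, ⟨x, rfl⟩⟩ (apply_mem hφ₁ _) _).symm
  have e3 : e₀.symm ⟨φ₀ x, ⟨x, rfl⟩⟩ = x := e₀.symm_apply_apply x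
  have e2 : φ₁ ⟨φ₀ x, ⟨x, rfl⟩⟩ = φ₀ (β x) := congrArg (fun z => φ₀ (β z)) e3
  simp only [e2]
  show (((MulAut.congr e β) (e x) : Q) : Ω) = _
  rw [MulAut.congr_apply]
  simp only [MulEquiv.trans_apply, MulEquiv.symm_apply_apply]
  exact hx (β x) (apply_mem hφ₀ _)

/-- Downward induction for the Frattini condition: it holds as soon as it holds on `Aut_F(Q)` for
fully normalized `Q ≤ T`, granted that it holds on all larger sources. -/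
theorem frattini_of_aut [Finite S] {p : ℕ} [Fact p.Prime] (hS : IsPGroup p S)
    {E : FusionSystem T} {F : FusionSystem S} (hF : F.IsSaturated p) (hinv : InvCond E F)
    (hT : F.StronglyClosed T)
    (hstep : ∀ Q : Subgroup Ω, Q ≤ T → F.IsFullyNormalized Q →
      (∀ R : Subgroup Ω, R ≤ T → Nat.card Q < Nat.card R → ∀ ψ ∈ F.Hom R,
        ψ ∈ (frattiniSystem E F hinv).Hom R) →
      ∀ α ∈ F.autGroup Q, Q.subtype.comp (α : MulAut Q).toMonoidHom ∈ (frattiniSystem E F hinv).Hom Q) :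
    ∀ (P : Subgroup Ω), P ≤ T → ∀ φ : P →* Ω, φ ∈ F.Hom P → Decomp E F P φ := by
  haveI := finite_of_le hT.1
  suffices h : ∀ (n : ℕ) (P : Subgroup Ω), Nat.card T - Nat.card P = n → P ≤ T →
      ∀ φ : P →* Ω, φ ∈ F.Hom P → φ ∈ (frattiniSystem E F hinv).Hom P from
    fun P hPT φ hφ => h _ P rfl hPT φ hφ
  intro n
  induction n using Nat.strong_induction_on with
  | _ n ih =>
  intro P hn hPT φ hφ
  have hbig : ∀ P' : Subgroup Ω, P' ≤ T → Nat.card P' = Nat.card P → ∀ R : Subgroup Ω, R ≤ T →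
      Nat.card P' < Nat.card R → ∀ ψ ∈ F.Hom R, ψ ∈ (frattiniSystem E F hinv).Hom R := by
    intro P' _ hc R hRT hlt ψ hψ
    have := Subgroup.card_le_of_le (K := T) hRT
    exact ih _ (by omega) R rfl hRT ψ hψ
  rcases hPT.eq_or_lt with heq | hlt
  · subst heq
    have hle : φ.range ≤ P := by
      rintro _ ⟨x, rfl⟩
      exact hT.2 P le_rfl φ hφ x
    obtain ⟨α, hα, hαx⟩ := exists_aut_of_hom F hφ
      (Subgroup.eq_of_le_of_card_ge hle (card_range_eq (F.injective_of_mem hφ)).ge)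
    exact ⟨α, hα, P.subtype, incl_mem E le_rfl, fun x _ => (hαx x).symm⟩
  obtain ⟨Q, hPQ, hQ⟩ := exists_isFullyNormalized F (hPT.trans hT.1)
  have hcQ : Nat.card Q = Nat.card P := IsConj.card_eq hPQ
  have hsub : ∀ {R : Subgroup Ω} {ψ : R →* Ω}, R ≤ T → ψ ∈ F.Hom R → ψ.range ≤ T := by
    rintro R ψ hR hψ _ ⟨x, rfl⟩
    exact hT.2 R hR ψ hψ x
  have hQT : Q ≤ T := by
    obtain ⟨ψ, hψ, rfl⟩ := hPQ
    exact hsub hPT hψ
  have hcR : Nat.card φ.range = Nat.card P := card_range_eq (F.injective_of_mem hφ)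
  have hR : φ.range ≤ T := hsub hPT hφ
  have hR' : φ.range < T := lt_of_le_of_ne hR fun h => hlt.ne
    (Subgroup.eq_of_le_of_card_ge hPT (by rw [← hcR, h]))
  have key : ∀ P' : Subgroup Ω, P' < T → Nat.card P' = Nat.card P → F.IsConj P' Q →
      ∃ a ∈ (frattiniSystem E F hinv).Hom P', a.range = Q ∧ a ∈ F.Hom P' := by
    intro P' hP' hc hconj
    obtain ⟨ψ, hψ, -, hm⟩ := exists_hom_normalizerIn_of_fullyNormalized hS hF hQ hconj
    have hle : normalizerIn S P' ⊓ T ≤ normalizerIn S P' := inf_le_left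
    have hgrow : P' < normalizerIn S P' ⊓ T := by
      obtain ⟨g, hgT, hgN, hgP⟩ :=
        CfsgLib.FusionSub.exists_mem_normalizer_not_mem hS hP' hT.1
      exact lt_of_le_of_ne (le_inf (le_normalizerIn (hP'.le.trans hT.1)) hP'.le) fun h =>
        hgP (h.ge ⟨⟨hT.1 hgT, hgN⟩, hgT⟩)
    have h1 := hbig P' hP'.le hc _ inf_le_right
      (CfsgLib.FusionSub.card_lt_card (inf_le_right.trans hT.1) hgrow) _ (restrict_mem hψ hle)
    refine ⟨ψ.comp (Subgroup.inclusion (le_normalizerIn (hP'.le.trans hT.1))),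
      restrict_mem_apply h1 hgrow.le (fun x => rfl), ?_, restrict_mem hψ _⟩
    exact (range_comp_inclusion _ _).trans hm
  obtain ⟨a₁, ha₁, hr₁, hF₁⟩ := key P hlt rfl hPQ
  obtain ⟨a₂, ha₂, hr₂, hF₂⟩ := key φ.range hR' hcR
    (IsConj.trans (IsConj.symm (isConj_of_hom hφ)) hPQ)
  set e₁ := isoOfHom a₁ (F.injective_of_mem hF₁) hr₁
  set e₂ := isoOfHom a₂ (F.injective_of_mem hF₂) hr₂
  set e := isoOfHom φ (F.injective_of_mem hφ) rfl
  let α : MulAut Q := (e₁.symm.trans e).trans e₂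
  have hαF : α ∈ F.autGroup Q := by
    refine (mem_autGroup_iff F hQ.1).mpr ?_
    have h1 : φ.range.subtype.comp (e₁.symm.trans e).toMonoidHom ∈ F.Hom Q :=
      comp_mem_apply (isoOfHom_symm_mem hF₁ hr₁) hφ (fun y => (e₁.symm y).2) fun y => rfl
    exact comp_mem_apply h1 hF₂ (fun y => (e (e₁.symm y)).2) fun y => rfl
  have hαD := hstep Q hQT hQ (fun R hRT hc ψ hψ => hbig Q hQT hcQ R hRT hc ψ hψ) α hαF
  have h1 : Q.subtype.comp (e₁.trans α).toMonoidHom ∈ (frattiniSystem E F hinv).Hom P :=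
    comp_mem_apply ha₁ hαD (fun x => hr₁.le ⟨x, rfl⟩) fun x => rfl
  refine comp_mem_apply h1 (isoOfHom_symm_mem ha₂ hr₂) (fun x => (α (e₁ x)).2) fun x => ?_
  show φ x = ((e₂.symm (α (e₁ x)) : φ.range) : Ω)
  simp [α, e]

end CfsgLib.Alperin
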