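import Cfsg.Agent.Lib.Alperin.Invariant

/-!
The largest `Aut_F(T)`-invariant subsystem of a fusion system over `T`.
-/

set_option autoImplicit false
set_option linter.style.haveILetI false

namespace CfsgLib.Alperin

open Cfsg Cfsg.FusionSystem

variable {Ω : Type*} [Group Ω] {S T : Subgroup Ω}

/-- The image of a subgroup of `T` under an automorphism of `T`. -/
def autImage (a : MulAut T) (P : Subgroup Ω) : Subgroup Ω :=
  (P.subgroupOf T).map (T.subtype.comp a.toMonoidHom)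

theorem autImage_le (a : MulAut T) (P : Subgroup Ω) : autImage a P ≤ T := by
  rintro _ ⟨x, -, rfl⟩
  exact (a x).2

theorem mem_autImage {a : MulAut T} {P : Subgroup Ω} {x : Ω} (hxT : x ∈ T) (hx : x ∈ P) :
    ((a ⟨x, hxT⟩ : T) : Ω) ∈ autImage a P :=
  ⟨⟨x, hxT⟩, hx, rfl⟩

theorem autImage_autImage (a b : MulAut T) (P : Subgroup Ω) :
    autImage a (autImage b P) = autImage (a * b) P := by
  ext y
  constructor
  · rintro ⟨z, ⟨w, hw, hwz⟩, rfl⟩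
    refine ⟨w, hw, ?_⟩
    show ((a (b w) : T) : Ω) = ((a z : T) : Ω)
    rw [show b w = z from Subtype.ext hwz]
  · rintro ⟨w, hw, rfl⟩
    exact ⟨b w, ⟨w, hw, rfl⟩, rfl⟩

/-- The `a`-transport of `φ` is a map of `E`. -/
def TransportMem (E : FusionSystem T) (a : MulAut T) (P : Subgroup Ω) (φ : P →* Ω) : Prop :=
  ∃ χ ∈ E.Hom (autImage a P), ∀ (x : P) (hxT : (x : Ω) ∈ T) (hφx : φ x ∈ T),
    χ ⟨(a ⟨x, hxT⟩ : T), mem_autImage hxT x.2⟩ = ((a ⟨φ x, hφx⟩ : T) : Ω)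

/-- The largest subsystem of `E` invariant under `Aut_F(T)`. -/
def invariantCore (E : FusionSystem T) (F : FusionSystem S) : FusionSystem T where
  Hom P := {φ | φ ∈ E.Hom P ∧ ∀ a ∈ F.autGroup T, TransportMem E a P φ}
  le_of_mem h := E.le_of_mem h.1
  injective_of_mem h := E.injective_of_mem h.1
  conj_mem := by
    intro P g hP hg
    refine ⟨E.conj_mem hP hg, fun a _ => ⟨conjHom (autImage a P) (a ⟨g, hg⟩ : T),
      E.conj_mem (autImage_le a P) (a ⟨g, hg⟩).2, fun x hxT hφx => ?_⟩⟩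
    show ((a ⟨g, hg⟩ : T) : Ω) * (a ⟨x, hxT⟩ : T) * ((a ⟨g, hg⟩ : T) : Ω)⁻¹ = _
    rw [show (⟨conjHom P g x, hφx⟩ : T) = ⟨g, hg⟩ * ⟨x, hxT⟩ * ⟨g, hg⟩⁻¹ from Subtype.ext rfl,
      map_mul, map_mul, map_inv]
    rfl
  comp_mem := by
    rintro P Q φ ψ ⟨hφ, hφa⟩ ⟨hψ, hψa⟩ h
    refine ⟨E.comp_mem hφ hψ h, fun a ha => ?_⟩
    obtain ⟨χ, hχ, hχx⟩ := hφa a ha
    obtain ⟨ρ, hρ, hρx⟩ := hψa a ha
    have hQT : Q ≤ T := dom_le hψ
    have hm : ∀ y : autImage a P, χ y ∈ autImage a Q := by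
      rintro ⟨_, ⟨w, hwT⟩, hw, rfl⟩
      exact (hχx ⟨w, hw⟩ hwT (hQT (h _))).symm ▸ mem_autImage (hQT (h _)) (h _)
    refine ⟨_, E.comp_mem hχ hρ hm, fun x hxT hψx => ?_⟩
    have e : (⟨χ ⟨(a ⟨x, hxT⟩ : T), mem_autImage hxT x.2⟩, hm _⟩ : autImage a Q) =
        ⟨(a ⟨φ x, hQT (h x)⟩ : T), mem_autImage (hQT (h x)) (h x)⟩ :=
      Subtype.ext (hχx x hxT (hQT (h x)))
    show ρ ⟨χ ⟨(a ⟨x, hxT⟩ : T), mem_autImage hxT x.2⟩, hm _⟩ = _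
    rw [e]
    exact hρx ⟨φ x, h x⟩ (hQT (h x)) hψx
  inv_mem := by
    rintro P φ ⟨hφ, hφa⟩
    obtain ⟨θ, hθ, hθr, hθ1, -⟩ := exists_inverse hφ rfl
    refine ⟨θ, ⟨hθ, fun a ha => ?_⟩, fun x => hθ1 x ⟨x, rfl⟩⟩
    obtain ⟨χ, hχ, hχx⟩ := hφa a ha
    obtain ⟨ρ, hρ, -, hρ1, -⟩ := exists_inverse hχ rfl
    have hle : autImage a φ.range ≤ χ.range := by
      rintro _ ⟨⟨w, hwT⟩, ⟨x, hx⟩, rfl⟩
      refine ⟨⟨(a ⟨x, dom_le hφ x.2⟩ : T), mem_autImage (dom_le hφ x.2) x.2⟩, ?_⟩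
      rw [hχx x (dom_le hφ x.2) (apply_mem hφ x),
        show (⟨φ x, apply_mem hφ x⟩ : T) = ⟨w, hwT⟩ from Subtype.ext hx]
      rfl
    refine ⟨ρ.comp (Subgroup.inclusion hle), restrict_mem hρ hle, ?_⟩
    rintro ⟨_, x, rfl⟩ hxT hθx
    have hxT' : (x : Ω) ∈ T := dom_le hφ x.2
    have h1 : θ ⟨φ x, ⟨x, rfl⟩⟩ = (x : Ω) := hθ1 x ⟨x, rfl⟩
    have h2 := hρ1 ⟨(a ⟨x, hxT'⟩ : T), mem_autImage hxT' x.2⟩ ⟨_, rfl⟩
    refine Eq.trans (Eq.trans ?_ h2) ?_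
    · exact congrArg ρ (Subtype.ext (hχx x hxT' hxT).symm)
    · simp only [h1]

theorem invariantCore_le (E : FusionSystem T) (F : FusionSystem S) (P : Subgroup Ω) :
    (invariantCore E F).Hom P ⊆ E.Hom P := fun _ h => h.1

theorem invCond_invariantCore (E : FusionSystem T) (F : FusionSystem S) :
    InvCond (invariantCore E F) F := by
  intro P hPT φ hφ b hb
  obtain ⟨χ, hχ, hχx⟩ := hφ.2 b hb
  refine ⟨χ, ⟨hχ, fun a ha => ?_⟩, fun x hφx _ => hχx x (hPT x.2) hφx⟩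
  obtain ⟨ρ, hρ, hρx⟩ := hφ.2 (a * b) (Subgroup.mul_mem _ ha hb)
  have hle : autImage a (autImage b P) ≤ autImage (a * b) P := (autImage_autImage a b P).le
  refine ⟨ρ.comp (Subgroup.inclusion hle), restrict_mem hρ hle, ?_⟩
  rintro ⟨_, ⟨w, hwT⟩, hw, rfl⟩ hxT hχxT
  have h1 := hχx ⟨w, hw⟩ hwT (apply_mem hφ.1 _)
  have h2 := hρx ⟨w, hw⟩ hwT (apply_mem hφ.1 _)
  refine Eq.trans h2 ?_
  show ((a (b ⟨φ ⟨w, hw⟩, _⟩) : T) : Ω) = _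
  congr 2
  exact Subtype.ext h1.symm

end CfsgLib.Alperin
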