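import Cfsg.Agent.Lib.Alperin.Theorem
import Cfsg.Agent.Lib.Alperin.SubgroupSystem
import Cfsg.Agent.Lib.FusionSub.Induction
import Cfsg.Agent.Lib.FusionExamples.Hyperfocal
import Mathlib.GroupTheory.Focal

/-!
Normal subsystems of the fusion system of a group `G` with `C_G(O_p(G)) ≤ O_p(G)` are the fusion
systems of normal subgroups of `G`.
-/

set_option autoImplicit false
set_option linter.style.haveILetI false

namespace CfsgLib.Alperin

open Cfsg Cfsg.FusionSystem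
open scoped commutatorElement

section Systems

variable {Ω : Type*} [Group Ω] {S T : Subgroup Ω}

/-- The automorphism group of an invariant subsystem at `P` is normalized by that of the system. -/
theorem conj_mem_autGroup_of_isInvariantIn {E : FusionSystem T} {F : FusionSystem S}
    (hE : E.IsInvariantIn F) {P : Subgroup Ω} (hP : P ≤ T) {α κ : MulAut P}
    (hα : α ∈ F.autGroup P) (hκ : κ ∈ E.autGroup P) : α * κ * α⁻¹ ∈ E.autGroup P := by
  obtain ⟨-, hT, hinv, hfra⟩ := hE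
  have hαF := (mem_autGroup_iff F (hP.trans hT.1)).mp hα
  have hκE := (mem_autGroup_iff E hP).mp hκ
  obtain ⟨a, ha, φ₀, hφ₀, hax⟩ := hfra P hP _ hαF
  have hP' : φ₀.range ≤ T := range_le hφ₀
  obtain ⟨θ, hθ, hθr, hθx, -⟩ := exists_inverse hφ₀ rfl
  have hm1 : ∀ z : φ₀.range, θ z ∈ P := fun z => hθr.le ⟨z, rfl⟩
  have h1 := E.comp_mem hθ hκE hm1
  have hm2 : ∀ z : φ₀.range, ((P.subtype.comp κ.toMonoidHom).comp (θ.codRestrict P hm1)) z ∈ P :=
    fun z => (κ _).2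
  obtain ⟨χ, hχ, hχx⟩ := hinv φ₀.range hP' _ (E.comp_mem h1 hφ₀ hm2) a ha
  have hrange : (φ₀.range.subgroupOf T).map (T.subtype.comp a.toMonoidHom) = P := by
    ext y
    constructor
    · rintro ⟨z, ⟨x, hx⟩, rfl⟩
      have he : (z : T) = ⟨φ₀ x, apply_mem hφ₀ x⟩ := Subtype.ext hx.symm
      have h2 : ((α x : P) : Ω) = ((a ⟨φ₀ x, apply_mem hφ₀ x⟩ : T) : Ω) := hax x (apply_mem hφ₀ x)
      show ((a z : T) : Ω) ∈ P
      rw [he, ← h2]
      exact (α x).2
    · intro hy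
      refine ⟨⟨φ₀ (α.symm ⟨y, hy⟩), apply_mem hφ₀ _⟩, ⟨α.symm ⟨y, hy⟩, rfl⟩, ?_⟩
      exact (hax (α.symm ⟨y, hy⟩) (apply_mem hφ₀ _)).symm.trans
        (congrArg Subtype.val (α.apply_symm_apply ⟨y, hy⟩))
  refine (mem_autGroup_iff E hP).mpr ?_
  let e : P →* ↥((φ₀.range.subgroupOf T).map (T.subtype.comp a.toMonoidHom)) :=
    Subgroup.inclusion hrange.ge
  refine mem_of_apply_eq (restrict_mem hχ hrange.ge) fun y => ?_
  set x : P := α.symm y with hx
  have hxy : (α x : P) = y := α.apply_symm_apply y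
  have hzT : φ₀ x ∈ T := apply_mem hφ₀ x
  have hmem : ((a ⟨φ₀ x, hP' ⟨x, rfl⟩⟩ : T) : Ω) ∈
      (φ₀.range.subgroupOf T).map (T.subtype.comp a.toMonoidHom) := ⟨⟨φ₀ x, hzT⟩, ⟨x, rfl⟩, rfl⟩
  have h2 := hχx ⟨φ₀ x, x, rfl⟩ (hP' ⟨_, rfl⟩) hmem
  have h3 : (θ.codRestrict P hm1) ⟨φ₀ x, x, rfl⟩ = x := Subtype.ext (hθx x _)
  have h4 : ((a ⟨φ₀ x, hzT⟩ : T) : Ω) = (y : Ω) :=
    (hax x hzT).symm.trans (congrArg Subtype.val hxy)
  have he : Subgroup.inclusion hrange.ge y = (⟨_, hmem⟩ :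
      ↥((φ₀.range.subgroupOf T).map (T.subtype.comp a.toMonoidHom))) := Subtype.ext h4.symm
  refine Eq.trans ?_ (congrArg χ he).symm
  rw [h2]
  show ((α (κ x) : P) : Ω) = _
  refine (hax (κ x) (apply_mem hφ₀ _)).trans (congrArg (fun w : T => ((a w : T) : Ω)) (Subtype.ext ?_))
  show φ₀ (κ x) = φ₀ _
  refine congrArg φ₀ (Subtype.ext ?_)
  show ((κ x : P) : Ω) = ((κ ((θ.codRestrict P hm1) ⟨φ₀ x, x, rfl⟩) : P) : Ω)
  rw [h3]

variable {p : ℕ} [Fact p.Prime]

/-- Comparison of two systems over `T` normalizing each other's automorphism groups. -/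
theorem hom_subset_of_normalized [Finite T] (hT : IsPGroup p T) {X Y : FusionSystem T}
    (hX : X.IsSaturated p)
    (hnorm : ∀ P : Subgroup Ω, P ≤ T → ∀ α ∈ X.autGroup P, ∀ κ ∈ Y.autGroup P,
      α * κ * α⁻¹ ∈ Y.autGroup P)
    (htop : X.autGroup T ≤ Y.autGroup T) (P : Subgroup Ω) : X.Hom P ⊆ Y.Hom P := by
  intro φ hφ
  refine CfsgLib.FusionSub.closed_induction hT hX (CfsgLib.FusionSub.closed_hom X Y) ?_ hφ
  intro Q hQ hbig α hα
  rcases eq_or_lt_of_le hQ.1 with rfl | hlt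
  · exact (mem_autGroup_iff Y le_rfl).mp (htop hα)
  obtain ⟨κ, hκ, χ, -, hαχ, R, hQR, ψ, -, hψ, hψx, hbigR⟩ :=
    CfsgLib.FusionSub.frattini_extend hT hX hQ (Y.autGroup Q) (fun α hα => hnorm Q hQ.1 α hα) hα
  have hN : normalizerIn T Q ≤ R := fun g hg =>
    hbigR g hg.1 hg.2 (autInducedBy_le_autGroup Y hQ.1 (conjAut_mem hg.1 hg.2))
  have hcard : Nat.card Q < Nat.card R :=
    CfsgLib.FusionSub.card_lt_card (dom_le hψ) (lt_of_lt_of_le (CfsgLib.FusionSub.lt_normalizerIn hT hlt) hN)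
  have hχY : χ ∈ Y.autGroup Q :=
    (mem_autGroup_iff Y hQ.1).mpr (restrict_mem_apply (hbig R ψ hψ hcard) hQR fun x => (hψx x).symm)
  exact (mem_autGroup_iff Y hQ.1).mp (hαχ ▸ mul_mem hκ.1 hχY)

end Systems

section Group

set_option linter.unusedSectionVars false

variable {p : ℕ} [Fact p.Prime] {G : Type*} [Group G]

/-- An element of order a `p`-power lies in every subgroup containing a power of it prime to `p`. -/
theorem mem_of_pow_mem_of_coprime {H : Subgroup G} {x : G} {k m : ℕ} (hx : x ^ p ^ k = 1)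
    (hm : m.Coprime p) (h : x ^ m ∈ H) : x ∈ H := by
  have hc : (orderOf x).Coprime m :=
    Nat.Coprime.coprime_dvd_left (orderOf_dvd_of_pow_eq_one hx) (hm.symm.pow_left k)
  obtain ⟨j, hj⟩ := exists_pow_eq_self_of_coprime hc.symm
  exact hj ▸ H.pow_mem h j

/-- An element lies in every subgroup containing its `p`-part and its `p'`-part. -/
theorem mem_of_parts {H : Subgroup G} {x : G} {k m : ℕ}
    (hm : m.Coprime p) (h1 : x ^ p ^ k ∈ H) (h2 : x ^ m ∈ H) : x ∈ H := by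
  have hg : Int.gcd (p ^ k : ℕ) (m : ℕ) = 1 := by
    rw [Int.gcd_natCast_natCast]; exact hm.symm.pow_left k
  obtain ⟨u, v, huv⟩ := Int.isCoprime_iff_gcd_eq_one.mpr hg
  have : x = (x ^ p ^ k) ^ u * (x ^ m) ^ v := by
    rw [← zpow_natCast, ← zpow_mul, ← zpow_natCast x m, ← zpow_mul, ← zpow_add,
      mul_comm _ u, mul_comm _ v, huv, zpow_one]
  rw [this]
  exact H.mul_mem (H.zpow_mem h1 u) (H.zpow_mem h2 v)

end Group

section Main

variable {p : ℕ} [Fact p.Prime] {G : Type*} [Group G] [Finite G]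

set_option linter.unusedSectionVars false

omit [Finite G] in
/-- Elements acting trivially on `Q/U`. -/
theorem mem_comap_centralizer_iff {U Q : Subgroup G} [U.Normal] {g : G} :
    g ∈ (Subgroup.centralizer ((Q.map (QuotientGroup.mk' U) : Subgroup (G ⧸ U)) : Set (G ⧸ U))).comap
        (QuotientGroup.mk' U) ↔ ∀ q ∈ Q, g * q * g⁻¹ * q⁻¹ ∈ U := by
  constructor
  · intro h q hq
    have h1 := h _ ⟨q, hq, rfl⟩
    refine (QuotientGroup.eq_one_iff _).mp ?_
    show ((g : G ⧸ U) * q * (g : G ⧸ U)⁻¹ * (q : G ⧸ U)⁻¹) = 1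
    rw [show (g : G ⧸ U) * q = (q : G ⧸ U) * g from h1.symm]
    group
  · rintro h _ ⟨q, hq, rfl⟩
    have h1 : ((g : G ⧸ U) * q * (g : G ⧸ U)⁻¹ * (q : G ⧸ U)⁻¹) = 1 :=
      (QuotientGroup.eq_one_iff _).mpr (h q hq)
    show (q : G ⧸ U) * g = g * q
    calc (q : G ⧸ U) * g = ((g : G ⧸ U) * q * (g : G ⧸ U)⁻¹ * (q : G ⧸ U)⁻¹) * (q * g) := by
          rw [h1, one_mul]
      _ = g * q := by group

omit [Finite G] in
/-- The stabilizer of a series `1 ≤ U ≤ Q` with `C_G(Q) ≤ Q` consists of `p`-elements. -/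
theorem exists_pow_mem_stabilizer {U Q : Subgroup G} (hU : IsPGroup p U) [Finite U] {x : G}
    (hcU : ∀ u ∈ U, x * u = u * x) (hQ : ∀ q ∈ Q, x * q * x⁻¹ * q⁻¹ ∈ U) :
    ∃ k, x ^ p ^ k ∈ Subgroup.centralizer (Q : Set G) := by
  obtain ⟨k, hk⟩ := hU.exists_card_eq
  refine ⟨k, fun q hq => ?_⟩
  have hpow : ∀ n : ℕ, x ^ n * q * (x ^ n)⁻¹ = (x * q * x⁻¹ * q⁻¹) ^ n * q := by
    intro n
    induction n with
    | zero => simp
    | succ n ih =>
      have hc : Commute x ((x * q * x⁻¹ * q⁻¹) ^ n) := (hcU _ (U.pow_mem (hQ q hq) n))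
      calc x ^ (n + 1) * q * (x ^ (n + 1))⁻¹ = x * (x ^ n * q * (x ^ n)⁻¹) * x⁻¹ := by
            rw [pow_succ']; group
        _ = x * ((x * q * x⁻¹ * q⁻¹) ^ n * q) * x⁻¹ := by rw [ih]
        _ = (x * q * x⁻¹ * q⁻¹) ^ n * (x * q * x⁻¹) := by
            rw [← mul_assoc x, hc.eq]; group
        _ = (x * q * x⁻¹ * q⁻¹) ^ (n + 1) * q := by rw [pow_succ]; group
  have h1 : (x * q * x⁻¹ * q⁻¹) ^ p ^ k = 1 := by
    have := congrArg Subtype.val (pow_card_eq_one' (x := (⟨_, hQ q hq⟩ : U)))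
    rw [hk] at this
    exact this
  have h2 := hpow (p ^ k)
  rw [h1, one_mul] at h2
  calc q * x ^ p ^ k = x ^ p ^ k * q * (x ^ p ^ k)⁻¹ * x ^ p ^ k := by rw [h2]
    _ = x ^ p ^ k * q := by group

omit [Finite G] in
/-- Coprime action: if `z` commutes with `m` and moves `y` by `m`, a `p`-element, then `m = 1`. -/
theorem eq_one_of_coprime_shift {z y m : G} {n k : ℕ} (hz : z ^ n = 1) (hn : n.Coprime p)
    (hm : m ^ p ^ k = 1) (hzm : z * m = m * z) (hzy : z * y * z⁻¹ = y * m) : m = 1 := by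
  have hpow : ∀ i : ℕ, z ^ i * y * (z ^ i)⁻¹ = y * m ^ i := by
    intro i
    induction i with
    | zero => simp
    | succ i ih =>
      have hc : Commute z (m ^ i) := Commute.pow_right hzm i
      calc z ^ (i + 1) * y * (z ^ (i + 1))⁻¹ = z * (z ^ i * y * (z ^ i)⁻¹) * z⁻¹ := by
            rw [pow_succ']; group
        _ = z * (y * m ^ i) * z⁻¹ := by rw [ih]
        _ = z * y * z⁻¹ * (z * m ^ i * z⁻¹) := by group
        _ = y * m ^ (i + 1) := by rw [hzy, hc.eq, pow_succ']; group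
  have h1 := hpow n
  rw [hz] at h1
  have h2 : m ^ n = 1 := by
    have : y = y * m ^ n := by simpa using h1
    simpa using this
  have hd := Nat.eq_one_of_dvd_coprimes (hn.pow_right k) (orderOf_dvd_of_pow_eq_one h2)
    (orderOf_dvd_of_pow_eq_one hm)
  exact orderOf_eq_one_iff.mp hd

/-- Elements trivial on each of three factors of `Q ≥ W ≥ D ≥ U` act trivially on `Q/U`. -/
theorem trivial_mod_of_series {g : G} {n : ℕ} (hg : g ^ n = 1) (hn : n.Coprime p)
    {U Q W D : Subgroup G} [U.Normal] (hQ : IsPGroup p Q) (hWQ : W ≤ Q) (hDQ : D ≤ Q)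
    (h1 : ∀ q ∈ Q, ∃ u ∈ U, ∃ w ∈ W, q⁻¹ * (g * q * g⁻¹) = u * w)
    (h2 : ∀ w ∈ W, ∃ u ∈ U, ∃ d ∈ D, w⁻¹ * (g * w * g⁻¹) = u * d)
    (h3 : ∀ d ∈ D, d⁻¹ * (g * d * g⁻¹) ∈ U) : ∀ q ∈ Q, q⁻¹ * (g * q * g⁻¹) ∈ U := by
  set f := QuotientGroup.mk' U with hf
  have hp : ∀ q ∈ Q, ∃ k, f q ^ p ^ k = 1 := fun q hq => by
    obtain ⟨k, hk⟩ := hQ ⟨q, hq⟩
    exact ⟨k, by rw [← map_pow, show q ^ p ^ k = 1 from congrArg Subtype.val hk, map_one]⟩
  have key : ∀ q : G, (∃ m : G, (∃ k, f m ^ p ^ k = 1) ∧ m⁻¹ * (g * m * g⁻¹) ∈ U ∧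
      ∃ u ∈ U, q⁻¹ * (g * q * g⁻¹) = u * m) → q⁻¹ * (g * q * g⁻¹) ∈ U := by
    rintro q ⟨m, ⟨k, hk⟩, hm, u, hu, hq⟩
    have hu' : f u = 1 := (QuotientGroup.eq_one_iff _).mpr hu
    have hzy : f g * f q * (f g)⁻¹ = f q * f m := by
      have : g * q * g⁻¹ = q * (u * m) := by rw [← hq]; group
      rw [← map_inv, ← map_mul, ← map_mul, this, map_mul, map_mul, hu', one_mul]
    have hzm : f g * f m = f m * f g := by
      have h : f (m⁻¹ * (g * m * g⁻¹)) = 1 := (QuotientGroup.eq_one_iff _).mpr hm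
      simp only [map_mul, map_inv] at h
      calc f g * f m = f m * ((f m)⁻¹ * (f g * f m * (f g)⁻¹)) * f g := by group
        _ = f m * f g := by rw [h, mul_one]
    have := eq_one_of_coprime_shift (by rw [← map_pow, hg, map_one]) hn hk hzm hzy
    rw [hq]
    exact U.mul_mem hu ((QuotientGroup.eq_one_iff _).mp this)
  have hW : ∀ w ∈ W, w⁻¹ * (g * w * g⁻¹) ∈ U := fun w hw => by
    obtain ⟨u, hu, d, hd, he⟩ := h2 w hw
    exact key w ⟨d, hp d (hDQ hd), h3 d hd, u, hu, he⟩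
  intro q hq
  obtain ⟨u, hu, w, hw, he⟩ := h1 q hq
  exact key q ⟨w, hp w (hWQ hw), hW w hw, u, hu, he⟩

variable (S : Sylow p G)

/-- A normal `p`-subgroup lies in every subgroup containing a Sylow subgroup. -/
theorem normal_le_of_sylow {H T : Subgroup G} (R : Sylow p H) (hR : (R : Subgroup H) = T.subgroupOf H)
    {N : Subgroup G} [N.Normal] (hN : IsPGroup p N) : N ⊓ H ≤ T := by
  have h : N.subgroupOf H ≤ (R : Subgroup H) :=
    (hN.comap_of_injective _ H.subtype_injective).le_sylow_of_normal R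
  rw [hR] at h
  exact fun x hx => h (show (⟨x, hx.2⟩ : H) ∈ N.subgroupOf H from hx.1)

/-- **Normal subsystems of constrained groups.** -/
theorem exists_unique_normal_model (hG : Subgroup.centralizer ((pCore p G : Subgroup G) : Set G) ≤
    pCore p G) {T : Subgroup G} (hTS : T ≤ S) (E : FusionSystem T)
    (hE : E.IsNormalIn (groupFusionSystem (S : Subgroup G)) p) :
    ∃ H : Subgroup G, (∃ hTH : T ≤ H, H.Normal ∧
      (∃ R : Sylow p H, (R : Subgroup H) = T.subgroupOf H) ∧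
      ∀ P : Subgroup G, E.Hom P = (fusionSystemOfSubgroup H T hTH).Hom P) ∧
    ∀ H' : Subgroup G, (∃ hTH' : T ≤ H', H'.Normal ∧
      (∃ R : Sylow p H', (R : Subgroup H') = T.subgroupOf H') ∧
      ∀ P : Subgroup G, E.Hom P = (fusionSystemOfSubgroup H' T hTH').Hom P) → H' = H := by
  classical
  obtain ⟨⟨hEs, -, hEinv⟩, hExt⟩ := hE
  set F := groupFusionSystem (S : Subgroup G) with hF
  have hTp : IsPGroup p T := isPGroup_of_le S.isPGroup' hTS
  have hTsc : F.StronglyClosed T := hEinv.2.1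
  -- elements: strong closure and normality of `T` in `S`
  have hclosed : ∀ (g t : G), t ∈ T → g * t * g⁻¹ ∈ (S : Subgroup G) → g * t * g⁻¹ ∈ T := by
    intro g t ht hgt
    have hz : Subgroup.zpowers t ≤ T := Subgroup.zpowers_le.mpr ht
    refine hTsc.2 (Subgroup.zpowers t) hz (conjHom _ g) ⟨hz.trans hTS, ?_, g, fun _ => rfl⟩
      ⟨t, Subgroup.mem_zpowers t⟩
    rintro ⟨x, i, rfl⟩
    show g * t ^ i * g⁻¹ ∈ (S : Subgroup G)
    rw [← conj_zpow]
    exact (S : Subgroup G).zpow_mem hgt i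
  have hnormT : ∀ s ∈ (S : Subgroup G), ∀ t ∈ T, s * t * s⁻¹ ∈ T := fun s hs t ht =>
    hclosed s t ht (mul_mem (mul_mem hs (hTS ht)) (InvMemClass.inv_mem hs))
  set Q := pCore p G with hQdef
  haveI hQn : Q.Normal := Subgroup.sSup_normal _ fun N hN => hN.1
  have hQp : IsPGroup p Q := Sylow.sSup_of_normal _ (fun N hN => hN.2) fun N hN => hN.1
  have hQS : Q ≤ (S : Subgroup G) := hQp.le_sylow_of_normal S
  set U := T ⊓ Q with hUdef
  have hUS : U ≤ (S : Subgroup G) := inf_le_left.trans hTS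
  have hUp : IsPGroup p U := isPGroup_of_le hTp inf_le_left
  haveI hUn : U.Normal := ⟨fun u hu g =>
    ⟨hclosed g u hu.1 (hQS (hQn.conj_mem u hu.2 g)), hQn.conj_mem u hu.2 g⟩⟩
  have hTQ : ∀ t ∈ T, ∀ q ∈ Q, t * q * t⁻¹ * q⁻¹ ∈ U := by
    intro t ht q hq
    refine ⟨?_, Q.mul_mem (hQn.conj_mem q hq t) (Q.inv_mem hq)⟩
    have h1 := hnormT q (hQS hq) t⁻¹ (T.inv_mem ht)
    have h2 := T.mul_mem ht h1
    simpa [mul_assoc] using h2
  -- the stabilizer of `1 ≤ U ≤ Q`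
  let K : Subgroup G := (Subgroup.centralizer ((Q.map (QuotientGroup.mk' U) : Subgroup (G ⧸ U)) :
    Set (G ⧸ U))).comap (QuotientGroup.mk' U)
  haveI : (Q.map (QuotientGroup.mk' U)).Normal := hQn.map _ (QuotientGroup.mk'_surjective U)
  haveI hKn : K.Normal := inferInstance
  let f : G →* MulAut U := MulAut.conjNormal
  have hf : ∀ g : G, ∀ u : U, ((f g u : U) : G) = g * u * g⁻¹ := fun g u => rfl
  let K₀ : Subgroup G := K ⊓ f.ker
  have hK₀cent : ∀ {x : G}, x ∈ f.ker → ∀ u ∈ U, x * u = u * x := by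
    intro x hx u hu
    have h := congrArg Subtype.val (DFunLike.congr_fun (MonoidHom.mem_ker.mp hx) ⟨u, hu⟩)
    exact mul_inv_eq_iff_eq_mul.mp h
  have hK₀p : IsPGroup p K₀ := by
    rintro ⟨x, hxK, hx⟩
    obtain ⟨k, hk⟩ := exists_pow_mem_stabilizer hUp (hK₀cent hx) (mem_comap_centralizer_iff.mp hxK)
    obtain ⟨j, hj⟩ := hQp ⟨_, hG hk⟩
    refine ⟨k + j, Subtype.ext ?_⟩
    show x ^ p ^ (k + j) = 1
    rw [pow_add, pow_mul]
    exact congrArg Subtype.val hj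
  have hK₀Q : K₀ ≤ Q := le_sSup ⟨inferInstance, hK₀p⟩
  let M₁ : Subgroup G := K ⊓ ((Q.map f).comap f)
  have hM₁n : M₁.Normal := by
    refine ⟨fun x hx g => ⟨hKn.conj_mem x hx.1 g, ?_⟩⟩
    obtain ⟨q, hq, hqx⟩ := hx.2
    exact ⟨g * q * g⁻¹, hQn.conj_mem q hq g, by simp only [map_mul, map_inv, hqx]⟩
  have hM₁p : IsPGroup p M₁ := by
    rintro ⟨x, hxK, hx⟩
    obtain ⟨q, hq, hqx⟩ := hx
    obtain ⟨k, hk⟩ := hQp ⟨q, hq⟩
    have hker : x ^ p ^ k ∈ K₀ := by
      refine ⟨K.pow_mem hxK _, MonoidHom.mem_ker.mpr ?_⟩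
      rw [map_pow, ← hqx, ← map_pow, show q ^ p ^ k = 1 from congrArg Subtype.val hk, map_one]
    obtain ⟨j, hj⟩ := hK₀p ⟨_, hker⟩
    refine ⟨k + j, Subtype.ext ?_⟩
    show x ^ p ^ (k + j) = 1
    rw [pow_add, pow_mul]
    exact congrArg Subtype.val hj
  have hTK : T ≤ K := fun t ht => mem_comap_centralizer_iff.mpr (hTQ t ht)
  -- the automorphisms of `U` in `E`
  set A := E.autGroup U with hA
  have hUT : U ≤ T := inf_le_left
  have hfF : ∀ g : G, f g ∈ F.autGroup U := fun g =>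
    (mem_autGroup_iff F hUS).mpr ⟨hUS, fun u => hUS (f g u).2, g, fun _ => rfl⟩
  have hAn : ∀ g : G, ∀ α ∈ A, f g * α * (f g)⁻¹ ∈ A := fun g α hα =>
    conj_mem_autGroup_of_isInvariantIn hEinv hUT (hfF g) hα
  haveI := finite_autGroup E hUT
  have hUfn : E.IsFullyNormalized U := by
    refine ⟨hUT, fun R hR => ?_⟩
    have h1 : normalizerIn T U = T := inf_eq_left.mpr (le_top.trans (Subgroup.normalizer_eq_top U).ge)
    rw [h1]
    exact Subgroup.card_le_of_le inf_le_left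
  obtain ⟨-, R₀, hR₀⟩ := (centralized_automized_of_fullyNormalized hTp hEs hUfn).2
  have hAutT : ∀ {t : G}, t ∈ T → f t ∈ autInducedBy T U := fun ht =>
    mem_autInducedBy_iff.mpr ⟨_, ht, fun _ => rfl⟩
  have hfT : ∀ {t : G}, t ∈ T → f t ∈ A := fun ht => autInducedBy_le_autGroup E hUT (hAutT ht)
  -- `Aut_Q(U) ∩ A = Inn(U)`
  have hinner : ∀ w ∈ Q, f w ∈ A → ∃ u ∈ U, f w = f u := by
    intro w hw hwA
    let N : Subgroup A := (Q.map f).subgroupOf A
    haveI : N.Normal := ⟨fun n hn a => by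
      obtain ⟨q, hq, hqn⟩ := hn
      have hqn' : f q = (n : MulAut U) := hqn
      obtain ⟨-, -, g, hg⟩ := (mem_autGroup_iff F hUS).mp
        (show (a : MulAut U) ∈ F.autGroup U from (mem_autGroup_iff F hUS).mpr
          (hEinv.1 U ((mem_autGroup_iff E hUT).mp a.2)))
      have hga : f g = (a : MulAut U) := MulEquiv.ext fun u => Subtype.ext (hg u).symm
      refine ⟨g * q * g⁻¹, hQn.conj_mem q hq g, ?_⟩
      show f (g * q * g⁻¹) = (a : MulAut U) * n * (a : MulAut U)⁻¹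
      rw [map_mul, map_mul, map_inv, hga, hqn']⟩
    have hNp : IsPGroup p N := (hQp.map f).comap_of_injective A.subtype A.subtype_injective
    have h := hNp.le_sylow_of_normal R₀ (show (⟨f w, hwA⟩ : A) ∈ N from ⟨w, hw, rfl⟩)
    rw [hR₀] at h
    obtain ⟨t, ht, htx⟩ := mem_autInducedBy_iff.mp h
    have hwt : f w = f t := MulEquiv.ext fun u => Subtype.ext (htx u)
    exact ⟨t, ⟨ht, (le_sSup (a := M₁) ⟨hM₁n, hM₁p⟩ : M₁ ≤ Q) ⟨hTK ht, w, hw, hwt⟩⟩, hwt⟩
  -- elements of order prime to `p` realizing automorphisms of `T`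
  have hlift : ∀ (β : MulAut T) (n : ℕ), β ∈ E.autGroup T → β ^ n = 1 → n.Coprime p →
      ∃ g ∈ K ⊓ A.comap f, ∃ m : ℕ, g ^ m = 1 ∧ m.Coprime p ∧
        ∀ t : T, ((β t : T) : G) = g * t * g⁻¹ := by
    intro β n hβ hβn hn
    obtain ⟨β', hβ'F, hβ'T, hβ'C⟩ := hExt β hβ
    obtain ⟨-, -, g₀, hg₀⟩ :=
      (mem_autGroup_iff F (sup_le hTS inf_le_left)).mp hβ'F
    have hg₀T : ∀ t : T, ((β t : T) : G) = g₀ * t * g₀⁻¹ := fun t =>
      (hβ'T t).symm.trans (hg₀ _)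
    -- a power of `g₀` of order prime to `p`
    obtain ⟨k, m, hkm, hm⟩ := CfsgLib.FusionExamples.exists_coprime_power (p := p) g₀
    obtain ⟨j, hj⟩ := exists_pow_eq_self_of_coprime
      (x := β) ((Nat.Coprime.coprime_dvd_right (orderOf_dvd_of_pow_eq_one hβn) (hn.symm.pow_left k)))
    have hpowT : ∀ (i : ℕ) (t : T), (((β ^ i) t : T) : G) = g₀ ^ i * t * (g₀ ^ i)⁻¹ := by
      intro i
      induction i with
      | zero => intro t; simp
      | succ i ih =>
        intro t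
        rw [pow_succ, MulAut.mul_apply, ih, hg₀T, pow_succ]
        group
    have hpowC : ∀ (i : ℕ) (c : G), c ∈ centralizerIn (S : Subgroup G) T →
        c⁻¹ * (g₀ ^ i * c * (g₀ ^ i)⁻¹) ∈ T ⊓ Subgroup.centralizer (T : Set G) := by
      intro i
      induction i with
      | zero => intro c _; simp
      | succ i ih =>
        intro c hc
        have h1 : c⁻¹ * (g₀ * c * g₀⁻¹) ∈ T ⊓ Subgroup.centralizer (T : Set G) := by
          have := hβ'C ⟨c, Subgroup.mem_sup_right hc⟩ hc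
          rwa [show (((β' ⟨c, Subgroup.mem_sup_right hc⟩ : ↥(T ⊔ centralizerIn (S : Subgroup G) T))) : G) =
            g₀ * c * g₀⁻¹ from hg₀ _] at this
        obtain ⟨hz, hzC⟩ := h1
        have h2 : g₀ ^ i * (c⁻¹ * (g₀ * c * g₀⁻¹)) * (g₀ ^ i)⁻¹ ∈
            T ⊓ Subgroup.centralizer (T : Set G) := by
          refine ⟨hpowT i ⟨_, hz⟩ ▸ ((β ^ i) _).2, fun t ht => ?_⟩
          obtain ⟨t', ht'⟩ : ∃ t' : T, g₀ ^ i * t' * (g₀ ^ i)⁻¹ = t :=
            ⟨(β ^ i)⁻¹ ⟨t, ht⟩, by rw [← hpowT]; exact congrArg Subtype.val ((β ^ i).apply_symm_apply ⟨t, ht⟩)⟩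
          rw [← ht']
          have := hzC t' t'.2
          calc g₀ ^ i * t' * (g₀ ^ i)⁻¹ * (g₀ ^ i * (c⁻¹ * (g₀ * c * g₀⁻¹)) * (g₀ ^ i)⁻¹)
              = g₀ ^ i * ((t' : G) * (c⁻¹ * (g₀ * c * g₀⁻¹))) * (g₀ ^ i)⁻¹ := by group
            _ = g₀ ^ i * ((c⁻¹ * (g₀ * c * g₀⁻¹)) * t') * (g₀ ^ i)⁻¹ := by rw [this]
            _ = _ := by group
        have he : c⁻¹ * (g₀ ^ (i + 1) * c * (g₀ ^ (i + 1))⁻¹) = (c⁻¹ * (g₀ ^ i * c * (g₀ ^ i)⁻¹)) *
            (g₀ ^ i * (c⁻¹ * (g₀ * c * g₀⁻¹)) * (g₀ ^ i)⁻¹) := by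
          rw [pow_succ]; group
        rw [he]
        exact mul_mem (ih c hc) h2
    set i := p ^ k * j with hi
    have hβi : β ^ i = β := by rw [hi, pow_mul]; exact hj
    set g := g₀ ^ i with hg
    have hgm : g ^ m = 1 := by
      rw [hg, hi, pow_mul, ← pow_mul, mul_comm j m, pow_mul, hkm, one_pow]
    have hgT : ∀ t : T, ((β t : T) : G) = g * t * g⁻¹ := fun t => by
      rw [hg, ← hpowT, hβi]
    -- restriction to `U`
    have hgA : f g ∈ A := (mem_autGroup_iff E hUT).mpr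
      (restrict_mem_apply ((mem_autGroup_iff E le_rfl).mp hβ) hUT fun u => (hgT ⟨u, hUT u.2⟩).symm)
    refine ⟨g, ⟨mem_comap_centralizer_iff.mpr fun q hq => ?_, hgA⟩, m, hgm, hm, hgT⟩
    let W : Subgroup G := Q ⊓ f.ker
    let D : Subgroup G := Q ⊓ Subgroup.centralizer (T : Set G)
    have hall : ∀ x ∈ Q, x⁻¹ * (g * x * g⁻¹) ∈ U := by
      refine trivial_mod_of_series (p := p) (W := W) (D := D) hgm hm hQp inf_le_left inf_le_left ?_ ?_ ?_
      · intro x hx
        have hxQ : x⁻¹ * (g * x * g⁻¹) ∈ Q := Q.mul_mem (Q.inv_mem hx) (hQn.conj_mem x hx g)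
        have hxA : f (x⁻¹ * (g * x * g⁻¹)) ∈ A := by
          have h1 := hAn x⁻¹ _ hgA
          have h2 := A.mul_mem h1 (A.inv_mem hgA)
          have e : x⁻¹ * (g * x * g⁻¹) = x⁻¹ * g * x⁻¹⁻¹ * g⁻¹ := by group
          rw [e, map_mul, map_mul, map_mul, map_inv f g, map_inv f x⁻¹]
          exact h2
        obtain ⟨u, hu, hux⟩ := hinner _ hxQ hxA
        refine ⟨u, hu, u⁻¹ * (x⁻¹ * (g * x * g⁻¹)), ⟨Q.mul_mem (Q.inv_mem hu.2) hxQ, ?_⟩,
          (mul_inv_cancel_left _ _).symm⟩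
        refine MonoidHom.mem_ker.mpr ?_
        rw [map_mul, map_inv, hux, inv_mul_cancel]
      · intro w hw
        have hwS : w ∈ (S : Subgroup G) := hQS hw.1
        have hwN : w⁻¹ ∈ Subgroup.normalizer (T : Set G) := by
          refine Subgroup.mem_normalizer_iff.mpr fun t => ⟨fun ht => hnormT _ (InvMemClass.inv_mem hwS) t ht,
            fun ht => ?_⟩
          have := hnormT w hwS _ ht
          simpa [mul_assoc] using this
        set w1 := w⁻¹ * (g * w * g⁻¹) with hw1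
        have hw1Q : w1 ∈ Q := Q.mul_mem (Q.inv_mem hw.1) (hQn.conj_mem w hw.1 g)
        have hw1k : w1 ∈ f.ker := by
          have hw2 := MonoidHom.mem_ker.mp hw.2
          rw [MonoidHom.mem_ker, hw1]
          simp only [map_mul, map_inv, hw2]
          group
        have hw1N : w1 ∈ Subgroup.normalizer (T : Set G) := by
          refine Subgroup.mem_normalizer_iff.mpr fun t => ⟨fun ht => hnormT _ (hQS hw1Q) t ht,
            fun ht => ?_⟩
          have := hnormT w1⁻¹ (InvMemClass.inv_mem (hQS hw1Q)) _ ht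
          simpa [mul_assoc] using this
        have hδ : conjAut T w⁻¹ hwN ∈ F.autGroup T :=
          autInducedBy_le_autGroup F hTS (conjAut_mem (InvMemClass.inv_mem hwS) hwN)
        have hE1 : conjAut T w1 hw1N ∈ E.autGroup T := by
          have h := (E.autGroup T).mul_mem (conj_mem_autGroup_of_isInvariantIn hEinv le_rfl hδ hβ)
            ((E.autGroup T).inv_mem hβ)
          convert h using 1
          refine MulEquiv.ext fun t => Subtype.ext ?_
          have hinvT : ∀ t : T, ((β⁻¹ t : T) : G) = g⁻¹ * t * g := by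
            intro t
            have h1 := hgT (β⁻¹ t)
            rw [show β (β⁻¹ t) = t from β.apply_symm_apply t] at h1
            rw [h1]; group
          have hδinv : ∀ t : T, (((conjAut T w⁻¹ hwN)⁻¹ t : T) : G) = w * t * w⁻¹ := by
            intro t
            have h1 : ((conjAut T w⁻¹ hwN ((conjAut T w⁻¹ hwN)⁻¹ t) : T) : G) = (t : G) :=
              congrArg Subtype.val ((conjAut T w⁻¹ hwN).apply_symm_apply t)
            rw [conjAut_apply] at h1
            rw [← h1]; group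
          simp only [MulAut.mul_apply]
          rw [conjAut_apply, conjAut_apply, hgT, hδinv, hinvT, hw1]
          group
        -- a `p`-element of `Aut_E(T)` is inner
        have hTfn := isFullyNormalized_top E
        haveI := finite_autGroup E (le_refl T)
        obtain ⟨-, R₁, hR₁⟩ := (centralized_automized_of_fullyNormalized hTp hEs hTfn).2
        let N : Subgroup (E.autGroup T) := (autInducedBy T T).subgroupOf (E.autGroup T)
        haveI hNn : N.Normal := ⟨fun n hn a => by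
          obtain ⟨t, ht, htx⟩ := mem_autInducedBy_iff.mp hn
          refine mem_autInducedBy_iff.mpr ⟨((a : MulAut T) ⟨t, ht⟩ : T), Subtype.mem _, fun x => ?_⟩
          have h1 : (n : MulAut T) ((a : MulAut T)⁻¹ x) = ⟨t, ht⟩ * (a : MulAut T)⁻¹ x * ⟨t, ht⟩⁻¹ :=
            Subtype.ext (htx _)
          show ((((a : MulAut T) * n * (a : MulAut T)⁻¹) x : T) : G) = _
          rw [MulAut.mul_apply, MulAut.mul_apply, h1, map_mul, map_mul, map_inv,
            show (a : MulAut T) ((a : MulAut T)⁻¹ x) = x from (a : MulAut T).apply_symm_apply x]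
          rfl⟩
        obtain ⟨e, he⟩ := hQp ⟨w1, hw1Q⟩
        have hpow1 : (⟨conjAut T w1 hw1N, hE1⟩ : E.autGroup T) ^ p ^ e = 1 := by
          refine Subtype.ext (MulEquiv.ext fun t => Subtype.ext ?_)
          have : ∀ i : ℕ, ∀ t : T, (((conjAut T w1 hw1N ^ i) t : T) : G) = w1 ^ i * t * (w1 ^ i)⁻¹ := by
            intro i
            induction i with
            | zero => intro t; simp
            | succ i ih =>
              intro t
              rw [pow_succ, MulAut.mul_apply, ih, conjAut_apply, pow_succ]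
              group
          show (((conjAut T w1 hw1N ^ p ^ e) t : T) : G) = (t : G)
          rw [this, show w1 ^ p ^ e = 1 from congrArg Subtype.val he]
          simp
        have hz : IsPGroup p (Subgroup.zpowers (⟨conjAut T w1 hw1N, hE1⟩ : E.autGroup T)) :=
          IsPGroup.of_card (n := _) ((Nat.card_zpowers _).trans
            ((Nat.dvd_prime_pow Fact.out).mp (orderOf_dvd_of_pow_eq_one hpow1)).choose_spec.2)
        obtain ⟨R₂, hR₂⟩ := hz.exists_le_sylow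
        haveI : (R₁ : Subgroup (E.autGroup T)).Normal := hR₁ ▸ hNn
        haveI := Sylow.unique_of_normal R₁ this
        have hmem : (⟨conjAut T w1 hw1N, hE1⟩ : E.autGroup T) ∈ (R₁ : Subgroup (E.autGroup T)) := by
          rw [Subsingleton.elim R₁ R₂]
          exact hR₂ (Subgroup.mem_zpowers _)
        rw [hR₁] at hmem
        obtain ⟨t, ht, htx⟩ := mem_autInducedBy_iff.mp hmem
        have htw : ∀ x : T, w1 * x * w1⁻¹ = t * x * t⁻¹ := fun x => htx x
        have htU : t ∈ U := by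
          refine ⟨ht, hK₀Q ⟨hTK ht, MonoidHom.mem_ker.mpr (MulEquiv.ext fun u => Subtype.ext ?_)⟩⟩
          have h1 := htw ⟨u, hUT u.2⟩
          have h2 := hK₀cent hw1k u u.2
          show t * (u : G) * t⁻¹ = u
          rw [← h1, h2, mul_inv_cancel_right]
        refine ⟨t, htU, t⁻¹ * w1, ⟨Q.mul_mem (Q.inv_mem htU.2) hw1Q, fun x hx => ?_⟩,
          (mul_inv_cancel_left _ _).symm⟩
        have h1 := htw ⟨x, hx⟩
        calc x * (t⁻¹ * w1) = t⁻¹ * (t * x * t⁻¹) * w1 := by group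
          _ = t⁻¹ * w1 * x := by rw [← h1]; group
      · intro d hd
        exact ⟨(hpowC i d ⟨hQS hd.1, hd.2⟩).1, Q.mul_mem (Q.inv_mem hd.1) (hQn.conj_mem d hd.1 g)⟩
    have h1 := hUn.conj_mem _ (hall q hq) q
    simpa [mul_assoc] using h1
  -- the subgroup `L`
  set L := K ⊓ A.comap f with hL
  haveI hLn : L.Normal := ⟨fun x hx g => ⟨hKn.conj_mem x hx.1 g, by
    show f (g * x * g⁻¹) ∈ A
    rw [map_mul, map_mul, map_inv]
    exact hAn g _ hx.2⟩⟩
  have hTL : T ≤ L := fun t ht => ⟨hTK ht, hfT ht⟩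
  set M := (S : Subgroup G) ⊓ L with hM
  have hMdec : ∀ x ∈ M, ∃ t ∈ T, ∃ c ∈ Q, x = t * c := by
    intro x hx
    let B : Subgroup A := (M.map f).subgroupOf A
    have hBp : IsPGroup p B :=
      ((isPGroup_of_le S.isPGroup' inf_le_left).map f).comap_of_injective A.subtype A.subtype_injective
    have hle : (R₀ : Subgroup A) ≤ B := by
      rw [hR₀]
      intro a ha
      obtain ⟨t, ht, htx⟩ := mem_autInducedBy_iff.mp ha
      exact ⟨t, ⟨hTS ht, hTL ht⟩, MulEquiv.ext fun u => Subtype.ext (htx u).symm⟩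
    have hB := R₀.3 hBp hle
    have h : (⟨f x, hx.2.2⟩ : A) ∈ (R₀ : Subgroup A) := hB ▸ ⟨x, hx, rfl⟩
    rw [hR₀] at h
    obtain ⟨t, ht, htx⟩ := mem_autInducedBy_iff.mp h
    refine ⟨t, ht, t⁻¹ * x, hK₀Q ⟨K.mul_mem (K.inv_mem (hTK ht)) hx.2.1, MonoidHom.mem_ker.mpr ?_⟩,
      (mul_inv_cancel_left _ _).symm⟩
    rw [map_mul, show f x = f t from MulEquiv.ext fun u => Subtype.ext (htx u), map_inv, inv_mul_cancel]
  -- the focal subgroup theorem
  obtain ⟨RL, hRL⟩ := exists_sylow_inf_normal S L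
  have hfoc : ∀ x ∈ M, x ∈ ⁅L, L⁆ → x ∈ T := by
    intro x hx hxc
    have h1 : (⟨x, hx.2⟩ : L) ∈ (_root_.commutator L) ⊓ (RL : Subgroup L) := by
      refine ⟨?_, ?_⟩
      · rw [← L.map_subtype_commutator] at hxc
        obtain ⟨y, hy, hyx⟩ := hxc
        rwa [show (⟨x, hx.2⟩ : L) = y from Subtype.ext hyx.symm]
      · rw [hRL]; exact hx
    rw [Subgroup.commutator_inf_eq_focalSubgroup, Subgroup.focalSubgroup_def] at h1
    have h2 : (Subgroup.closure {g : L | g ∈ (RL : Subgroup L) ∧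
        ∃ x ∈ (RL : Subgroup L), ∃ u : L, g = ⁅x, u⁆}) ≤ T.subgroupOf L := by
      refine (Subgroup.closure_le _).mpr ?_
      rintro z ⟨hz, y, hy, l, rfl⟩
      rw [hRL] at hz hy
      have hy' : (y : G) ∈ M := hy
      have hz' : ((⁅y, l⁆ : L) : G) ∈ M := hz
      show ((⁅y, l⁆ : L) : G) ∈ T
      rw [commutatorElement_def] at hz' ⊢
      push_cast at hz' ⊢
      obtain ⟨t, ht, c, hc, hyc⟩ := hMdec _ hy'
      have hlc := mem_comap_centralizer_iff.mp l.2.1 c⁻¹ (Q.inv_mem hc)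
      rw [inv_inv] at hlc
      have hS1 : (l : G) * (y : G)⁻¹ * (l : G)⁻¹ ∈ (S : Subgroup G) := by
        have := (S : Subgroup G).mul_mem ((S : Subgroup G).inv_mem hy'.1) hz'.1
        simpa [mul_assoc] using this
      have hct : (l : G) * t⁻¹ * (l : G)⁻¹ ∈ T := by
        refine hclosed l t⁻¹ (InvMemClass.inv_mem ht) ?_
        have e : (l : G) * t⁻¹ * (l : G)⁻¹ =
            ((l : G) * c⁻¹ * (l : G)⁻¹)⁻¹ * ((l : G) * (y : G)⁻¹ * (l : G)⁻¹) := by
          rw [hyc]; group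
        rw [e]
        exact mul_mem (InvMemClass.inv_mem (hQS (hQn.conj_mem _ (InvMemClass.inv_mem hc) l))) hS1
      have e : (y : G) * l * (y : G)⁻¹ * (l : G)⁻¹ =
          t * (c * ((l : G) * c⁻¹ * (l : G)⁻¹ * c) * c⁻¹) * ((l : G) * t⁻¹ * (l : G)⁻¹) := by
        rw [hyc]; group
      rw [e]
      exact mul_mem (mul_mem ht (hUT (hUn.conj_mem _ hlc c))) hct
    exact h2 h1
  -- the subgroup `H`
  haveI hCn : (⁅L, L⁆).Normal := inferInstance
  have hTC : ∀ g : G, ∀ t ∈ T, g * t * g⁻¹ ∈ T ⊔ ⁅L, L⁆ := by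
    intro g t ht
    have hfr := Sylow.normalizer_sup_eq_top RL
    rw [hRL, Subgroup.map_subgroupOf_eq_of_le inf_le_right] at hfr
    have hg : g ∈ L ⊔ Subgroup.normalizer ((M : Subgroup G) : Set G) := by
      rw [sup_comm, hM, hfr]; exact Subgroup.mem_top g
    obtain ⟨l, hl, n, hn, rfl⟩ := Subgroup.mem_sup_of_normal_left.mp hg
    have hnt : n * t * n⁻¹ ∈ T :=
      hclosed n t ht ((Subgroup.mem_normalizer_iff.mp hn t).mp ⟨hTS ht, hTL ht⟩).1
    have e : l * n * t * (l * n)⁻¹ = l * (n * t * n⁻¹) * l⁻¹ * (n * t * n⁻¹)⁻¹ * (n * t * n⁻¹) := by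
      group
    rw [e]
    refine mul_mem (Subgroup.mem_sup_right ?_) (Subgroup.mem_sup_left hnt)
    rw [← commutatorElement_def]
    exact Subgroup.commutator_mem_commutator hl (hTL hnt)
  set C := T ⊔ ⁅L, L⁆ with hC
  haveI hCnorm : C.Normal := by
    refine ⟨fun x hx g => ?_⟩
    have : C ≤ C.comap (MulAut.conj g).toMonoidHom := sup_le (fun t ht => hTC g t ht)
      (fun y hy => Subgroup.mem_sup_right (hCn.conj_mem y hy g))
    exact this hx
  set N := ordCompl[p] (Nat.card G) with hN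
  have hNp : N.Coprime p := (Nat.coprime_ordCompl Fact.out Nat.card_pos.ne').symm
  have hN1 : ∀ {x : G} {m : ℕ}, x ^ m = 1 → m.Coprime p → x ^ N = 1 := by
    intro x m hxm hm
    refine orderOf_dvd_iff_pow_eq_one.mp (Nat.dvd_ordCompl_of_dvd_not_dvd (orderOf_dvd_natCard x) ?_)
    exact (Nat.Prime.coprime_iff_not_dvd Fact.out).mp
      (Nat.Coprime.coprime_dvd_left (orderOf_dvd_of_pow_eq_one hxm) hm).symm
  have hcomm : ∀ {x y : G}, x ∈ L → y ∈ L → Commute (x : G ⧸ C) (y : G ⧸ C) := by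
    intro x y hx hy
    have h := (QuotientGroup.eq_one_iff ⁅x, y⁆).mpr
      (Subgroup.mem_sup_right (S := T) (Subgroup.commutator_mem_commutator hx hy))
    rw [commutatorElement_def] at h
    have h' : (x : G ⧸ C) * y * (x : G ⧸ C)⁻¹ * (y : G ⧸ C)⁻¹ = 1 := h
    show (x : G ⧸ C) * y = y * x
    calc (x : G ⧸ C) * y = (x : G ⧸ C) * y * (x : G ⧸ C)⁻¹ * (y : G ⧸ C)⁻¹ * (y * x) := by group
      _ = y * x := by rw [h', one_mul]
  let H : Subgroup G :=
    { carrier := {x | x ∈ L ∧ ((x : G) : G ⧸ C) ^ N = 1}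
      one_mem' := ⟨L.one_mem, by simp⟩
      mul_mem' := fun {x y} hx hy => ⟨L.mul_mem hx.1 hy.1, by
        rw [QuotientGroup.mk_mul, (hcomm hx.1 hy.1).mul_pow, hx.2, hy.2, one_mul]⟩
      inv_mem' := fun {x} hx => ⟨L.inv_mem hx.1, by
        rw [QuotientGroup.mk_inv, inv_pow, hx.2, inv_one]⟩ }
  have hHL : H ≤ L := fun x hx => hx.1
  have hTH : T ≤ H := fun t ht => ⟨hTL ht, by
    rw [(QuotientGroup.eq_one_iff t).mpr (Subgroup.mem_sup_left ht), one_pow]⟩
  haveI hHn : H.Normal := ⟨fun x hx g => ⟨hLn.conj_mem x hx.1 g, by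
    rw [QuotientGroup.mk_mul, QuotientGroup.mk_mul, QuotientGroup.mk_inv, conj_pow, hx.2]
    group⟩⟩
  have hp' : ∀ {x : G} {m : ℕ}, x ∈ L → x ^ m = 1 → m.Coprime p → x ∈ H := fun hx hxm hm =>
    ⟨hx, by rw [← QuotientGroup.mk_pow, hN1 hxm hm, QuotientGroup.mk_one]⟩
  have hSH : (S : Subgroup G) ⊓ H = T := by
    refine le_antisymm ?_ (le_inf hTS hTH)
    rintro x ⟨hxS, hxL, hxN⟩
    have hxC : x ^ N ∈ C := (QuotientGroup.eq_one_iff _).mp (by rw [QuotientGroup.mk_pow]; exact hxN)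
    obtain ⟨t, ht, c, hc, htc⟩ := Subgroup.mem_sup_of_normal_right.mp hxC
    have hcM : c ∈ M := by
      have hxM : x ^ N ∈ M := pow_mem (show x ∈ M from ⟨hxS, hxL⟩) N
      rw [show c = t⁻¹ * x ^ N by rw [← htc, inv_mul_cancel_left]]
      exact mul_mem (inv_mem ⟨hTS ht, hTL ht⟩) hxM
    obtain ⟨k, hk⟩ := S.isPGroup' ⟨x, hxS⟩
    refine mem_of_pow_mem_of_coprime (k := k) (congrArg Subtype.val hk) hNp ?_
    rw [← htc]
    exact mul_mem ht (hfoc c hcM hc)
  obtain ⟨RH, hRH⟩ := exists_sylow_inf_normal S H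
  rw [hSH] at hRH
  set Y := fusionSystemOfSubgroup H T hTH with hY
  have hYs : Y.IsSaturated p := fusionSystemOfSubgroup_isSaturated hTH RH hRH
  have hYn : ∀ P : Subgroup G, P ≤ T → ∀ α ∈ F.autGroup P, ∀ κ ∈ Y.autGroup P,
      α * κ * α⁻¹ ∈ Y.autGroup P := by
    intro P hP α hα κ hκ
    obtain ⟨-, -, g, hg⟩ := (mem_autGroup_iff F (hP.trans hTS)).mp hα
    obtain ⟨-, -, h, hh, hhx⟩ := (mem_autGroup_iff Y hP).mp hκ
    refine (mem_autGroup_iff Y hP).mpr ⟨hP, fun x => hP (Subtype.mem _), g * h * g⁻¹,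
      hHn.conj_mem h hh g, fun x => ?_⟩
    have h1 : ((α (κ (α⁻¹ x)) : P) : G) = g * ((κ (α⁻¹ x) : P) : G) * g⁻¹ := hg _
    have h2 : ((κ (α⁻¹ x) : P) : G) = h * ((α⁻¹ x : P) : G) * h⁻¹ := hhx _
    have h3 : (x : G) = g * ((α⁻¹ x : P) : G) * g⁻¹ :=
      (congrArg Subtype.val (α.apply_symm_apply x)).symm.trans (hg _)
    show ((α (κ (α⁻¹ x)) : P) : G) = _
    rw [h1, h2, h3]
    group
  have hYF : ∀ P : Subgroup G, Y.Hom P ⊆ F.Hom P := by
    rintro P φ ⟨hP, hφ, h, -, hh⟩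
    exact ⟨hP.trans hTS, fun x => hTS (hφ x), h, hh⟩
  have htopEY : E.autGroup T ≤ Y.autGroup T := by
    intro α hα
    haveI := finite_autGroup E (le_refl T)
    obtain ⟨k, m, hkm, hm⟩ := CfsgLib.FusionExamples.exists_coprime_power (p := p)
      (⟨α, hα⟩ : E.autGroup T)
    refine mem_of_parts (k := k) hm ?_ ?_
    · obtain ⟨g, hg, m', hgm, hm', hgx⟩ := hlift (α ^ p ^ k) m ((E.autGroup T).pow_mem hα _)
        (congrArg Subtype.val hkm) hm
      exact (mem_autGroup_iff Y le_rfl).mpr ⟨le_rfl, fun x => Subtype.mem _, g,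
        hp' hg hgm hm', hgx⟩
    · have hTfn := isFullyNormalized_top E
      obtain ⟨-, R₁, hR₁⟩ := (centralized_automized_of_fullyNormalized hTp hEs hTfn).2
      haveI hNn : (R₁ : Subgroup (E.autGroup T)).Normal := by
        rw [hR₁]
        refine ⟨fun n hn a => ?_⟩
        obtain ⟨t, ht, htx⟩ := mem_autInducedBy_iff.mp hn
        refine mem_autInducedBy_iff.mpr ⟨((a : MulAut T) ⟨t, ht⟩ : T), Subtype.mem _, fun x => ?_⟩
        have h1 : (n : MulAut T) ((a : MulAut T)⁻¹ x) = ⟨t, ht⟩ * (a : MulAut T)⁻¹ x * ⟨t, ht⟩⁻¹ :=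
          Subtype.ext (htx _)
        show ((((a : MulAut T) * n * (a : MulAut T)⁻¹) x : T) : G) = _
        rw [MulAut.mul_apply, MulAut.mul_apply, h1, map_mul, map_mul, map_inv,
          show (a : MulAut T) ((a : MulAut T)⁻¹ x) = x from (a : MulAut T).apply_symm_apply x]
        rfl
      have hd : orderOf ((⟨α, hα⟩ : E.autGroup T) ^ m) ∣ p ^ k := orderOf_dvd_of_pow_eq_one
        (by rw [← pow_mul, mul_comm, pow_mul]; exact hkm)
      obtain ⟨e, -, he⟩ := (Nat.dvd_prime_pow Fact.out).mp hd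
      obtain ⟨R₂, hR₂⟩ := (IsPGroup.of_card ((Nat.card_zpowers _).trans he)).exists_le_sylow
      haveI := Sylow.unique_of_normal R₁ hNn
      have hmem : (⟨α, hα⟩ : E.autGroup T) ^ m ∈ (R₁ : Subgroup (E.autGroup T)) := by
        rw [Subsingleton.elim R₁ R₂]
        exact hR₂ (Subgroup.mem_zpowers _)
      rw [hR₁] at hmem
      exact autInducedBy_le_autGroup Y le_rfl hmem
  have hEY : ∀ P : Subgroup G, E.Hom P ⊆ Y.Hom P := hom_subset_of_normalized hTp hEs
    (fun P hP α hα κ hκ => hYn P hP α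
      ((mem_autGroup_iff F (hP.trans hTS)).mpr (hEinv.1 P ((mem_autGroup_iff E hP).mp hα))) κ hκ)
    htopEY
  have hHC : ∀ z ∈ H, z ∈ f.ker → z ∈ T := fun z hz hzk =>
    normal_le_of_sylow RH hRH hK₀p ⟨⟨(hHL hz).1, hzk⟩, hz⟩
  have htopYE : Y.autGroup T ≤ E.autGroup T := by
    intro α hα
    obtain ⟨-, -, h, hh, hhx⟩ := (mem_autGroup_iff Y le_rfl).mp hα
    have hhA : U.subtype.comp (f h).toMonoidHom ∈ E.Hom U :=
      (mem_autGroup_iff E hUT).mp (hHL hh).2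
    have hrange : (U.subtype.comp (f h).toMonoidHom).range = U := by
      ext y
      exact ⟨fun ⟨u, hu⟩ => hu ▸ (f h u).2,
        fun hy => ⟨(f h).symm ⟨y, hy⟩, congrArg Subtype.val ((f h).apply_symm_apply ⟨y, hy⟩)⟩⟩
    obtain ⟨ψ, hψ, hψx⟩ := (receptive_of_fullyNormalized hTp hEs hUfn).2 U _ hhA hrange
    have hText : ∀ t ∈ T, t ∈ extender T U (U.subtype.comp (f h).toMonoidHom) := by
      intro t ht
      refine mem_extender_iff.mpr ⟨ht, Subgroup.mem_normalizer_iff.mpr fun u =>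
        ⟨fun hu => hUn.conj_mem u hu t, fun hu => ?_⟩, h * t * h⁻¹,
        (hhx ⟨t, ht⟩ : ((α ⟨t, ht⟩ : T) : G) = _) ▸ (α ⟨t, ht⟩).2, fun u hu => ?_⟩
      · have := hUn.conj_mem _ hu t⁻¹
        simpa [mul_assoc] using this
      · show h * (t * (u : G) * t⁻¹) * h⁻¹ = h * t * h⁻¹ * (h * u * h⁻¹) * (h * t * h⁻¹)⁻¹
        group
    obtain ⟨-, -, h', hh', hh'x⟩ := hEY _ hψ
    have hker : h⁻¹ * h' ∈ f.ker := by
      have e : f h = f h' := MulEquiv.ext fun u => Subtype.ext <| by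
        have h1 := hψx u u.2 (hText u (hUT u.2))
        rw [hh'x] at h1
        exact h1.symm
      rw [MonoidHom.mem_ker, map_mul, map_inv, e, inv_mul_cancel]
    have hzT : h⁻¹ * h' ∈ T := hHC _ (mul_mem (InvMemClass.inv_mem hh) hh') hker
    refine (mem_autGroup_iff E le_rfl).mpr ?_
    -- `c_h = ψ ∘ c_z`
    have hm : ∀ t : T, conjHom T (h⁻¹ * h')⁻¹ t ∈ extender T U (U.subtype.comp (f h).toMonoidHom) :=
      fun t => hText _ (mul_mem (mul_mem (InvMemClass.inv_mem hzT) t.2) (by simpa using hzT))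
    refine comp_mem_apply (E.conj_mem le_rfl (InvMemClass.inv_mem hzT)) hψ hm fun t => ?_
    rw [hh'x]
    refine (hhx t).trans ?_
    show h * (t : G) * h⁻¹ = h' * ((h⁻¹ * h')⁻¹ * t * (h⁻¹ * h')⁻¹⁻¹) * h'⁻¹
    group
  have hYE : ∀ P : Subgroup G, Y.Hom P ⊆ E.Hom P := hom_subset_of_normalized hTp hYs
    (fun P hP α hα κ hκ => conj_mem_autGroup_of_isInvariantIn hEinv hP
      ((mem_autGroup_iff F (hP.trans hTS)).mpr (hYF P ((mem_autGroup_iff Y hP).mp hα))) hκ)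
    htopYE
  refine ⟨H, ⟨hTH, hHn, ⟨RH, hRH⟩, fun P => Set.Subset.antisymm (hEY P) (hYE P)⟩, ?_⟩
  rintro H' ⟨hTH', hH'n, ⟨R', hR'⟩, hEq⟩
  have hH'L : H' ≤ L := by
    intro x hx
    refine ⟨mem_comap_centralizer_iff.mpr fun q hq => ⟨normal_le_of_sylow R' hR' hQp ⟨?_, ?_⟩, ?_⟩, ?_⟩
    · exact Q.mul_mem (hQn.conj_mem q hq x) (Q.inv_mem hq)
    · have := H'.mul_mem hx (hH'n.conj_mem x⁻¹ (InvMemClass.inv_mem hx) q)
      simpa [mul_assoc] using this
    · exact Q.mul_mem (hQn.conj_mem q hq x) (Q.inv_mem hq)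
    · refine (mem_autGroup_iff E hUT).mpr ?_
      rw [hEq U]
      exact ⟨hUT, fun u => hUT (f x u).2, x, hx, fun _ => rfl⟩
  refine le_antisymm (fun x hx => ?_) fun x hx => ?_
  · obtain ⟨k, m, hkm, hm⟩ := CfsgLib.FusionExamples.exists_coprime_power (p := p) x
    refine mem_of_parts (k := k) hm (hp' (L.pow_mem (hH'L hx) _) hkm hm) ?_
    have hd : orderOf ((⟨x, hx⟩ : H') ^ m) ∣ p ^ k := by
      refine orderOf_dvd_of_pow_eq_one (Subtype.ext ?_)
      show (x ^ m) ^ p ^ k = 1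
      rw [← pow_mul, mul_comm, pow_mul]; exact hkm
    obtain ⟨e, -, he⟩ := (Nat.dvd_prime_pow Fact.out).mp hd
    obtain ⟨R₂, hR₂⟩ := (IsPGroup.of_card ((Nat.card_zpowers _).trans he)).exists_le_sylow
    obtain ⟨a, ha⟩ := MulAction.exists_smul_eq H' R' R₂
    have := hR₂ (Subgroup.mem_zpowers _)
    rw [← ha, Sylow.coe_subgroup_smul] at this
    obtain ⟨y, hy, hyx⟩ := this
    rw [hR'] at hy
    have hyx' : (a : G) * (y : G) * (a : G)⁻¹ = x ^ m := congrArg Subtype.val hyx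
    rw [← hyx']
    exact hHn.conj_mem _ (hTH hy) _
  · have h1 : U.subtype.comp (f x).toMonoidHom ∈ E.Hom U := (mem_autGroup_iff E hUT).mp (hHL hx).2
    rw [hEq U] at h1
    obtain ⟨-, -, h', hh', hh'x⟩ := h1
    have hker : h'⁻¹ * x ∈ f.ker := by
      have e : f x = f h' := MulEquiv.ext fun u => Subtype.ext (hh'x u)
      rw [MonoidHom.mem_ker, map_mul, map_inv, e, inv_mul_cancel]
    have hh'H : h' ∈ H := by
      obtain ⟨k, m, hkm, hm⟩ := CfsgLib.FusionExamples.exists_coprime_power (p := p) h'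
      refine mem_of_parts (k := k) hm (hp' (L.pow_mem (hH'L hh') _) hkm hm) ?_
      have hd : orderOf ((⟨h', hh'⟩ : H') ^ m) ∣ p ^ k := by
        refine orderOf_dvd_of_pow_eq_one (Subtype.ext ?_)
        show (h' ^ m) ^ p ^ k = 1
        rw [← pow_mul, mul_comm, pow_mul]; exact hkm
      obtain ⟨e, -, he⟩ := (Nat.dvd_prime_pow Fact.out).mp hd
      obtain ⟨R₂, hR₂⟩ := (IsPGroup.of_card ((Nat.card_zpowers _).trans he)).exists_le_sylow
      obtain ⟨a, ha⟩ := MulAction.exists_smul_eq H' R' R₂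
      have := hR₂ (Subgroup.mem_zpowers _)
      rw [← ha, Sylow.coe_subgroup_smul] at this
      obtain ⟨y, hy, hyx⟩ := this
      rw [hR'] at hy
      have hyx' : (a : G) * (y : G) * (a : G)⁻¹ = h' ^ m := congrArg Subtype.val hyx
      rw [← hyx']
      exact hHn.conj_mem _ (hTH hy) _
    have hT' := hTH' (hHC _ (mul_mem (InvMemClass.inv_mem hh'H) hx) hker)
    simpa using H'.mul_mem hh' hT'

end Main

end CfsgLib.Alperin
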