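import Cfsg.Agent.Lib.Alperin.PPrimeSystem
import Cfsg.Agent.Lib.Alperin.NormalModel

/-!
Two weakly normal subsystems over the same subgroup share the `p'`-residual.
-/

set_option autoImplicit false
set_option linter.style.haveILetI false
set_option linter.unusedSectionVars false

namespace CfsgLib.Alperin

open Cfsg Cfsg.FusionSystem CfsgLib.FusionSub CfsgLib.FusionBasics

variable {Ω : Type*} [Group Ω] {S T : Subgroup Ω} {F : FusionSystem S} {E : FusionSystem T}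
variable {p : ℕ} [Fact p.Prime] [Finite T]

/-- In an invariant subsystem, `F`-images of centric subgroups are centric. -/
theorem isCentric_of_hom_invariant (hE : E.IsInvariantIn F) {Q : Subgroup Ω} (hQ : E.IsCentric Q)
    {φ : Q →* Ω} (hφ : φ ∈ F.Hom Q) : E.IsCentric φ.range := by
  have hr : φ.range ≤ T := by
    rintro _ ⟨x, rfl⟩
    exact hE.2.1.2 Q hQ.1 φ hφ x
  refine ⟨hr, fun R hR => ?_⟩
  obtain ⟨ψ, hψ, rfl⟩ := hR
  have hψφ : ψ.comp (φ.codRestrict φ.range fun x => ⟨x, rfl⟩) ∈ F.Hom Q :=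
    F.comp_mem hφ (hE.1 _ hψ) _
  obtain ⟨a, -, φ₀, hφ₀, hx⟩ := hE.2.2.2 Q hQ.1 _ hψφ
  have hval : ∀ x : Q, ψ ⟨φ x, ⟨x, rfl⟩⟩ = ((a ⟨φ₀ x, apply_mem hφ₀ x⟩ : T) : Ω) := fun x => hx x _
  rintro y ⟨hyT, hy⟩
  obtain ⟨u, hu⟩ : ∃ u : T, a u = ⟨y, hyT⟩ := a.surjective _
  have hu0 : (u : Ω) ∈ centralizerIn T φ₀.range := by
    refine ⟨u.2, ?_⟩
    rintro _ ⟨x, rfl⟩
    have h2 : (⟨φ₀ x, apply_mem hφ₀ x⟩ : T) * u = u * ⟨φ₀ x, apply_mem hφ₀ x⟩ := by
      apply a.injective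
      rw [map_mul, map_mul, hu]
      refine Subtype.ext ?_
      show ((a ⟨φ₀ x, _⟩ : T) : Ω) * y = y * ((a ⟨φ₀ x, _⟩ : T) : Ω)
      rw [← hval]
      exact hy _ ⟨_, rfl⟩
    exact congrArg Subtype.val h2
  obtain ⟨x, hx'⟩ := hQ.2 φ₀.range ⟨φ₀, hφ₀, rfl⟩ hu0
  refine ⟨⟨φ x, ⟨x, rfl⟩⟩, ?_⟩
  rw [hval]
  have : (⟨φ₀ x, apply_mem hφ₀ x⟩ : T) = u := Subtype.ext hx'
  rw [this, hu]

/-- Transport of `Gen` by an automorphism of `T` in the ambient system. -/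
theorem Gen.transport_invariant (hE : E.IsInvariantIn F) {a : MulAut T} (ha : a ∈ F.autGroup T)
    {P : Subgroup Ω} {φ : P →* Ω} (h : Gen E p P φ) :
    ∃ χ : ((P.subgroupOf T).map (T.subtype.comp a.toMonoidHom) : Subgroup Ω) →* Ω,
      Gen E p ((P.subgroupOf T).map (T.subtype.comp a.toMonoidHom)) χ ∧
      ∀ (x : P) (hx : (x : Ω) ∈ T) (hφx : φ x ∈ T)
        (hax : ((a ⟨x, hx⟩ : T) : Ω) ∈ (P.subgroupOf T).map (T.subtype.comp a.toMonoidHom)),
        χ ⟨(a ⟨x, hx⟩ : T), hax⟩ = ((a ⟨φ x, hφx⟩ : T) : Ω) := by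
  have hTS := hE.2.1.1
  have haF := (mem_autGroup_iff F hTS).mp ha
  induction h with
  | @base P Q hPQ hQ β hβ k hk =>
    set ψ := (T.subtype.comp a.toMonoidHom).comp (Subgroup.inclusion hQ.1) with hψ
    have hψF : ψ ∈ F.Hom Q := restrict_mem haF hQ.1
    set e := isoOfHom ψ (F.injective_of_mem hψF) rfl
    have hr : ψ.range = (Q.subgroupOf T).map (T.subtype.comp a.toMonoidHom) := by
      ext y
      exact ⟨fun ⟨x, hx⟩ => ⟨⟨x, hQ.1 x.2⟩, x.2, hx⟩, fun ⟨x, hx, hxy⟩ => ⟨⟨x, hx⟩, hxy⟩⟩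
    have hc := isCentric_of_hom_invariant hE hQ hψF
    obtain ⟨χ, hχ, hχx⟩ := hE.2.2.1 Q hQ.1 _ ((mem_autGroup_iff E hQ.1).mp hβ) a ha
    have hβ' : MulAut.congr e β ∈ E.autGroup ψ.range := by
      refine (mem_autGroup_iff E hc.1).mpr (restrict_mem_apply hχ hr.le fun y => ?_)
      obtain ⟨x, rfl⟩ := e.surjective y
      refine Eq.trans ?_ ((hχx x (hQ.1 (β x).2)
        ⟨⟨x, hQ.1 x.2⟩, x.2, rfl⟩).symm.trans (congrArg χ (Subtype.ext rfl)))
      show ((MulAut.congr e β (e x) : ψ.range) : Ω) = _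
      rw [MulAut.congr_apply]
      simp only [MulEquiv.trans_apply, MulEquiv.symm_apply_apply]
      rfl
    have hle : (P.subgroupOf T).map (T.subtype.comp a.toMonoidHom) ≤ ψ.range := by
      rintro _ ⟨x, hx, rfl⟩
      exact ⟨⟨x, hPQ hx⟩, rfl⟩
    refine ⟨_, Gen.base hle hc _ hβ' k (by rw [← map_pow, hk, map_one]), fun x hx hφx hax => ?_⟩
    show ((MulAut.congr e β (e ⟨x, hPQ x.2⟩) : ψ.range) : Ω) = _
    rw [MulAut.congr_apply]
    simp only [MulEquiv.trans_apply, MulEquiv.symm_apply_apply]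
    rfl
  | @comp P Q φ ψ h₁ h₂ h ih₁ ih₂ =>
    obtain ⟨χ₁, hχ₁, hx₁⟩ := ih₁
    obtain ⟨χ₂, hχ₂, hx₂⟩ := ih₂
    have hm : ∀ y, χ₁ y ∈ (Q.subgroupOf T).map (T.subtype.comp a.toMonoidHom) := by
      rintro ⟨_, ⟨x, hxT⟩, hxP, rfl⟩
      exact ⟨⟨φ ⟨x, hxP⟩, apply_mem h₁.mem _⟩, h _,
        (hx₁ ⟨x, hxP⟩ hxT (apply_mem h₁.mem _) ⟨⟨x, hxT⟩, hxP, rfl⟩).symm⟩
    refine ⟨_, Gen.comp hχ₁ hχ₂ hm, fun x hx hφx hax => ?_⟩
    refine Eq.trans (congrArg χ₂ (Subtype.ext ?_))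
      (hx₂ ⟨φ x, h x⟩ (apply_mem h₁.mem x) hφx ⟨⟨φ x, apply_mem h₁.mem x⟩, h x, rfl⟩)
    exact hx₁ x hx (apply_mem h₁.mem x) hax

variable {E₁ E₂ : FusionSystem T}

/-- `p`-automorphisms of weakly normal subsystems over `T` are common. -/
theorem pElement_mem_of_invariant (hT : IsPGroup p T) (h₁ : E₁.IsSaturated p)
    (hi₁ : E₁.IsSubsystemOf F) (hi₂ : E₂.IsInvariantIn F) {Q : Subgroup Ω} (hQ : Q ≤ T)
    {β : MulAut Q} (hβ : β ∈ E₁.autGroup Q) {k : ℕ} (hk : β ^ p ^ k = 1) :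
    β ∈ E₂.autGroup Q := by
  obtain ⟨φ, hφ, -, s, hs, hsy⟩ := exists_conj_of_pElement hQ
    (fun R _ hR => (centralized_automized_of_fullyNormalized hT h₁ hR).2) hβ hk
  obtain ⟨a, ha, z, hz, hzx⟩ := hi₂.2.2.2 Q hQ φ (hi₁ Q hφ)
  obtain ⟨θ, hθ, hθr, hθx, -⟩ := exists_inverse hz rfl
  set t : T := a⁻¹ ⟨s, hs⟩
  have hconj : ∀ x : Q, z (β x) = (t : Ω) * z x * (t : Ω)⁻¹ := by
    intro x
    have h2 : (⟨z (β x), apply_mem hz _⟩ : T) = t * ⟨z x, apply_mem hz x⟩ * t⁻¹ := by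
      apply a.injective
      refine Subtype.ext ?_
      rw [map_mul, map_mul, map_inv, show a t = ⟨s, hs⟩ from a.apply_symm_apply _]
      show ((a ⟨z (β x), _⟩ : T) : Ω) = s * ((a ⟨z x, _⟩ : T) : Ω) * s⁻¹
      rw [← hzx, ← hzx]
      exact hsy x
    exact congrArg Subtype.val h2
  have hm : ∀ y : z.range, conjHom z.range (t : Ω) y ∈ z.range := by
    rintro ⟨_, x, rfl⟩
    exact ⟨β x, hconj x⟩
  refine (mem_autGroup_iff E₂ hQ).mpr (comp_mem_apply hz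
    (E₂.comp_mem (E₂.conj_mem (range_le hz) t.2) hθ hm) (fun x => ⟨x, rfl⟩) fun x => ?_)
  refine (hθx (β x) ⟨_, rfl⟩).symm.trans (congrArg θ (Subtype.ext ?_))
  exact hconj x

theorem Gen.of_invariant (hT : IsPGroup p T) (h₁ : E₁.IsSaturated p) (hi₁ : E₁.IsInvariantIn F)
    (hi₂ : E₂.IsInvariantIn F) {P : Subgroup Ω} {φ : P →* Ω} (h : Gen E₁ p P φ) :
    Gen E₂ p P φ := by
  induction h with
  | @base P Q hPQ hQ β hβ k hk =>
    refine Gen.base hPQ ⟨hQ.1, fun R ⟨ψ, hψ, hr⟩ => ?_⟩ β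
      (pElement_mem_of_invariant hT h₁ hi₁.1 hi₂ hQ.1 hβ hk) k hk
    have hc := isCentric_of_hom_invariant hi₁ hQ (hi₂.1 Q hψ)
    rw [hr] at hc
    exact hc.2 R (isConj_refl E₁ hc.1)
  | comp _ _ h ih₁ ih₂ => exact ih₁.comp ih₂ h

theorem exists_pow_dvd_of_fixes_centric (hT : IsPGroup p T) {Q N : Subgroup Ω} (hQN : Q ≤ N)
    (hN : N ≤ normalizerIn T Q) (hQ : centralizerIn T Q ≤ Q) {ε : MulAut N}
    (hfix : ∀ x : N, (x : Ω) ∈ Q → ε x = x) : ∃ k, ε ^ p ^ k = 1 := by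
  haveI := finite_of_le (hQN.trans (hN.trans (normalizerIn_le T Q)))
  obtain ⟨k, hk⟩ := IsPGroup.iff_card.mp
    (isPGroup_of_le hT (hQN.trans (hN.trans (normalizerIn_le T Q))))
  refine ⟨k, MulEquiv.ext fun x => ?_⟩
  have hzQ : ((x⁻¹ * ε x : N) : Ω) ∈ Q := by
    refine hQ ⟨normalizerIn_le T Q (hN (x⁻¹ * ε x).2), fun q hq => ?_⟩
    have hc : ((x * ⟨q, hQN hq⟩ * x⁻¹ : N) : Ω) ∈ Q := mem_normalizer_conj (hN x.2).2 hq
    have h1 := hfix _ hc
    rw [map_mul, map_mul, map_inv, hfix ⟨q, hQN hq⟩ hq] at h1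
    have h3 : (⟨q, hQN hq⟩ : N) * (x⁻¹ * ε x) = x⁻¹ * ε x * ⟨q, hQN hq⟩ :=
      calc (⟨q, hQN hq⟩ : N) * (x⁻¹ * ε x) = x⁻¹ * (x * ⟨q, hQN hq⟩ * x⁻¹) * ε x := by group
        _ = x⁻¹ * ε x * ⟨q, hQN hq⟩ := by rw [← h1]; group
    exact congrArg Subtype.val h3
  have hpow : ∀ j : ℕ, (ε ^ j) x = x * (x⁻¹ * ε x) ^ j := by
    intro j
    induction j with
    | zero => simp
    | succ j ih =>
      rw [pow_succ', MulAut.mul_apply, ih, map_mul, map_pow, hfix _ hzQ, pow_succ', ← mul_assoc]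
      group
  have h1 : (⟨_, hzQ⟩ : Q) ^ p ^ k = 1 := hk ▸ pow_card_eq_one'
  have h2 : (x⁻¹ * ε x) ^ p ^ k = 1 := Subtype.ext (by simpa using congrArg Subtype.val h1)
  rw [hpow, h2, mul_one]
  rfl

theorem mem_of_pow_prime_mem {Γ : Type*} [Group Γ] [Finite Γ] {H : Subgroup Γ} [H.Normal]
    (hH : ¬ p ∣ H.index) {u : Γ} {k : ℕ} (h : u ^ p ^ k ∈ H) : u ∈ H := by
  have h1 : orderOf (u : Γ ⧸ H) ∣ p ^ k := orderOf_dvd_of_pow_eq_one
    (by rw [← QuotientGroup.mk_pow, QuotientGroup.eq_one_iff]; exact h)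
  have h2 : orderOf (u : Γ ⧸ H) ∣ H.index := by
    rw [Subgroup.index_eq_card]; exact orderOf_dvd_natCard _
  have h3 := Nat.eq_one_of_dvd_coprimes
    (((Nat.Prime.coprime_iff_not_dvd Fact.out).mpr hH).pow_left k) h1 h2
  exact (QuotientGroup.eq_one_iff u).mp (orderOf_eq_one_iff.mp h3)

theorem not_dvd_relIndex_of_inner (hT : IsPGroup p T) (h₁ : E₁.IsSaturated p)
    {B : Subgroup (MulAut T)} (hB : autInducedBy T T ≤ B) :
    ¬ p ∣ (E₁.autGroup T ⊓ B).relIndex (E₁.autGroup T) := by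
  haveI := finite_autGroup E₁ (le_refl T)
  obtain ⟨-, R, hR⟩ := (centralized_automized_of_fullyNormalized hT h₁ (isFullyNormalized_top E₁)).2
  intro hd
  apply R.not_dvd_index
  refine hd.trans ?_
  rw [hR, Subgroup.relIndex]
  refine Subgroup.index_dvd_of_le ?_
  intro x hx
  exact ⟨x.2, hB hx⟩

/-- An automorphism of `T` in the product of two weakly normal systems that is generated on a
centric subgroup lies in both. -/
theorem mem_inf_of_restrict_gen [Finite S] (hT : IsPGroup p T) (h₁ : E₁.IsSaturated p)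
    (h₂ : E₂.IsSaturated p) (hi₁ : E₁.IsInvariantIn F) (hi₂ : E₂.IsInvariantIn F)
    {Q : Subgroup Ω} (hQ : E₁.IsCentric Q) {w : MulAut T}
    (hw : w ∈ E₁.autGroup T ⊔ E₂.autGroup T)
    (hg : Gen E₁ p Q ((T.subtype.comp w.toMonoidHom).comp (Subgroup.inclusion hQ.1))) :
    w ∈ E₁.autGroup T ⊓ E₂.autGroup T := by
  have hTS := hi₁.2.1.1
  set A := E₁.autGroup T with hA
  set B := E₂.autGroup T with hB
  have hAF : A ≤ F.autGroup T := autGroup_mono hi₁.1 T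
  have hBF : B ≤ F.autGroup T := autGroup_mono hi₂.1 T
  have hnA : ∀ a ∈ F.autGroup T, ∀ x ∈ A, a * x * a⁻¹ ∈ A := fun a ha x hx =>
    conj_mem_autGroup_of_isInvariantIn hi₁ le_rfl ha hx
  have hnB : ∀ a ∈ F.autGroup T, ∀ x ∈ B, a * x * a⁻¹ ∈ B := fun a ha x hx =>
    conj_mem_autGroup_of_isInvariantIn hi₂ le_rfl ha hx
  set W := A ⊔ B with hW
  have hWF : W ≤ F.autGroup T := sup_le hAF hBF
  haveI : Finite W := by
    haveI := finite_autGroup F hTS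
    exact Finite.of_injective (Subgroup.inclusion hWF) (Subgroup.inclusion_injective _)
  haveI hHn : ((A ⊓ B).subgroupOf W).Normal := ⟨fun x hx a =>
    ⟨hnA a (hWF a.2) x hx.1, hnB a (hWF a.2) x hx.2⟩⟩
  have hidx : ¬ p ∣ ((A ⊓ B).subgroupOf W).index := by
    have hA' : ¬ p ∣ (A ⊓ B).relIndex A :=
      not_dvd_relIndex_of_inner hT h₁ (autInducedBy_le_autGroup E₂ le_rfl)
    have hB' : ¬ p ∣ (A ⊓ B).relIndex B := by
      rw [inf_comm]
      exact not_dvd_relIndex_of_inner hT h₂ (autInducedBy_le_autGroup E₁ le_rfl)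
    show ¬ p ∣ (A ⊓ B).relIndex W
    rw [← Subgroup.relIndex_mul_relIndex (A ⊓ B) A W inf_le_left le_sup_left]
    refine fun hd => ((Fact.out : p.Prime).dvd_mul.mp hd).elim hA' fun hd' => hB' ?_
    have he : A.relIndex W = (A ⊓ B).relIndex B := by
      haveI : (A.subgroupOf W).Normal := ⟨fun x hx a => hnA a (hWF a.2) x hx⟩
      have h1 := Subgroup.relIndex_sup_left (K := A.subgroupOf W) (H := B.subgroupOf W)
      rw [← Subgroup.subgroupOf_sup le_sup_left le_sup_right, show (A ⊔ B).subgroupOf W = ⊤ from Subgroup.subgroupOf_self W,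
        Subgroup.relIndex_top_right, Subgroup.relIndex_subgroupOf le_sup_right] at h1
      rw [Subgroup.inf_relIndex_right]
      exact h1
    exact he ▸ hd'
  suffices H : ∀ (n : ℕ) (Q : Subgroup Ω), Nat.card T - Nat.card Q = n → ∀ (hQ : E₁.IsCentric Q)
      (w : MulAut T), w ∈ W →
      Gen E₁ p Q ((T.subtype.comp w.toMonoidHom).comp (Subgroup.inclusion hQ.1)) → w ∈ A ⊓ B from
    H _ Q rfl hQ w hw hg
  intro n
  induction n using Nat.strong_induction_on with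
  | _ n ih =>
  intro Q hn hQ w hw hg
  rcases hQ.1.eq_or_lt with rfl | hlt
  · refine ⟨(mem_autGroup_iff E₁ le_rfl).mpr (mem_of_apply_eq hg.mem fun x => rfl),
      (mem_autGroup_iff E₂ le_rfl).mpr (mem_of_apply_eq
        (Gen.of_invariant hT h₁ hi₁ hi₂ hg).mem fun x => rfl)⟩
  set z := (T.subtype.comp w.toMonoidHom).comp (Subgroup.inclusion hQ.1) with hz
  set N := normalizerIn T Q with hN
  have hQN : Q ≤ N := le_normalizerIn hQ.1
  have hNT : N ≤ T := normalizerIn_le T Q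
  haveI := finite_of_le hNT
  have hwF := (mem_autGroup_iff F hTS).mp (hWF hw)
  have hQN' : E₁.IsCentric N :=
    CfsgLib.FusionExamples.isCentric_of_ge hQ hQN hNT
  have hlt' : Nat.card T - Nat.card N < n := by
    have := card_lt_card hNT (CfsgLib.FusionSub.lt_normalizerIn hT hlt)
    have := Subgroup.card_le_of_le (K := T) hNT
    omega
  have hext : N ≤ extender T Q z := fun g hg => by
    refine mem_extender_iff.mpr ⟨hg.1, hg.2, (w ⟨g, hg.1⟩ : T), (w _).2, fun x hx => ?_⟩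
    show ((w ⟨g * x * g⁻¹, hQ.1 hx⟩ : T) : Ω) =
      (w ⟨g, hg.1⟩ : T) * ((w ⟨x, hQ.1 x.2⟩ : T) : Ω) * ((w ⟨g, hg.1⟩ : T) : Ω)⁻¹
    rw [show (⟨g * x * g⁻¹, hQ.1 hx⟩ : T) = ⟨g, hg.1⟩ * ⟨x, hQ.1 x.2⟩ * ⟨g, hg.1⟩⁻¹ from rfl,
      map_mul, map_mul, map_inv]
    rfl
  have key : ∀ E' : FusionSystem T, E'.IsSaturated p → E'.IsInvariantIn F → E'.autGroup T ≤ W →
      (∀ {P : Subgroup Ω} {φ : P →* Ω}, Gen E' p P φ → Gen E₁ p P φ) →
      (∀ {R : Subgroup Ω}, E₁.IsCentric R → E'.IsCentric R) → z ∈ E'.Hom Q →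
      ∃ a ∈ E'.autGroup T, a⁻¹ * w ∈ A ⊓ B := by
    intro E' hE' hi' hW' hgen hcen hzE
    have hR : E'.IsCentric z.range :=
      CfsgLib.FusionExamples.isCentric_of_isConj (hcen hQ) ⟨z, hzE, rfl⟩
    obtain ⟨ψ, hψ, hψx⟩ := (receptive_of_fullyCentralized hT hE'
      (CfsgLib.FusionExamples.isFullyCentralized_of_isCentric hR)).2 Q z hzE rfl
    set ψN := ψ.comp (Subgroup.inclusion hext) with hψN
    have hψN' : ψN ∈ E'.Hom N := restrict_mem hψ hext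
    set wN := (T.subtype.comp w.toMonoidHom).comp (Subgroup.inclusion hNT) with hwN
    have hwN' : wN ∈ F.Hom N := restrict_mem hwF hNT
    have hrw : wN.range = normalizerIn T z.range := by
      have hsub : (Q.subgroupOf T).map (T.subtype.comp w.toMonoidHom) = z.range := by
        rw [hz, range_comp_inclusion]
      ext y
      constructor
      · rintro ⟨x, rfl⟩
        refine ⟨(w _).2, ?_⟩
        exact (apply_mem_normalizerIn hwF hQ.1 hsub ⟨x, hNT x.2⟩ x.2.2).2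
      · rintro ⟨hyT, hy⟩
        obtain ⟨g, hg⟩ : ∃ g : T, w g = ⟨y, hyT⟩ := w.surjective _
        refine ⟨⟨g, g.2, Subgroup.mem_normalizer_iff.mpr fun q => ?_⟩, congrArg Subtype.val hg⟩
        have hval : ∀ (q : Ω) (hq : q ∈ T), q ∈ Q ↔ ((w ⟨q, hq⟩ : T) : Ω) ∈ z.range :=
          fun q hq => ⟨fun h => ⟨⟨q, h⟩, rfl⟩, fun ⟨u, hu⟩ => by
            have h2 : (⟨u, hQ.1 u.2⟩ : T) = ⟨q, hq⟩ := w.injective (Subtype.ext hu)
            have h3 : (u : Ω) = q := congrArg Subtype.val h2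
            exact h3 ▸ u.2⟩
        constructor
        · intro hq
          have hgq : (g : Ω) * q * (g : Ω)⁻¹ ∈ T :=
            T.mul_mem (T.mul_mem g.2 (hQ.1 hq)) (T.inv_mem g.2)
          refine (hval _ hgq).mpr ?_
          rw [show (⟨(g : Ω) * q * (g : Ω)⁻¹, hgq⟩ : T) = g * ⟨q, hQ.1 hq⟩ * g⁻¹ from rfl,
            map_mul, map_mul, map_inv, hg]
          exact mem_normalizer_conj hy ((hval q _).mp hq)
        · intro hq
          have hqT : q ∈ T := by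
            have := T.mul_mem (T.mul_mem (T.inv_mem g.2) (hQ.1 hq)) g.2
            simpa [mul_assoc] using this
          refine (hval q hqT).mpr ((Subgroup.mem_normalizer_iff.mp hy _).mpr ?_)
          have := (hval _ (T.mul_mem (T.mul_mem g.2 hqT) (T.inv_mem g.2))).mp hq
          rw [show (⟨(g : Ω) * q * (g : Ω)⁻¹, T.mul_mem (T.mul_mem g.2 hqT) (T.inv_mem g.2)⟩ : T) =
            g * ⟨q, hqT⟩ * g⁻¹ from rfl, map_mul, map_mul, map_inv, hg] at this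
          exact this
    haveI := finite_of_le (normalizerIn_le T z.range)
    have hrψ : ψN.range = normalizerIn T z.range := by
      refine Subgroup.eq_of_le_of_card_ge ?_ ?_
      · rintro _ ⟨x, rfl⟩
        exact apply_mem_normalizerIn hψ (le_extender hzE)
          (map_subgroupOf_of_extends (le_extender hzE) hψx) _ x.2.2
      · rw [card_range_eq (E'.injective_of_mem hψN'), ← hrw, card_range_eq (F.injective_of_mem hwN')]
    obtain ⟨c, a, -, z₁, hz₁, hz₁a⟩ := exists_cl hT hE' (MonoidHom.id _) hψN'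
    refine ⟨(a : MulAut T), a.2, ?_⟩
    obtain ⟨θ, -, hθr, hθx, hθy⟩ := exists_inverse hψN' hrψ
    set ε₀ := θ.comp (wN.codRestrict _ fun x => hrw.le ⟨x, rfl⟩) with hε₀
    have hεm : ∀ x, ε₀ x ∈ N := fun x => hθr.le ⟨_, rfl⟩
    let f : N →* N := ε₀.codRestrict N hεm
    have hfx : ∀ (x : N) (h : (f x : Ω) ∈ T), ψN (f x) = ((w ⟨x, hNT x.2⟩ : T) : Ω) := fun x h =>
      hθy ⟨wN x, hrw.le ⟨x, rfl⟩⟩ (hεm x)
    have hf : Function.Bijective f := by
      refine Function.Injective.bijective_of_finite fun x y hxy => ?_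
      have h1 := hfx x (hNT (f x).2)
      rw [hxy, hfx y (hNT (f y).2)] at h1
      have h2 : (⟨y, hNT y.2⟩ : T) = ⟨x, hNT x.2⟩ := w.injective (Subtype.ext h1)
      exact Subtype.ext (congrArg Subtype.val h2).symm
    let ε : MulAut N := MulEquiv.ofBijective f hf
    have hfix : ∀ x : N, (x : Ω) ∈ Q → ε x = x := by
      intro x hx
      refine E'.injective_of_mem hψN' ((hfx x (hNT (f x).2)).trans ?_)
      exact (hψx x hx (hext x.2)).symm
    obtain ⟨k, hk⟩ := exists_pow_dvd_of_fixes_centric hT hQN le_rfl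
      (hQ.2 Q (isConj_refl E₁ hQ.1)) hfix
    set u : MulAut T := (a : MulAut T)⁻¹ * w with hu
    have huW : u ∈ W := mul_mem (Subgroup.inv_mem _ (hW' a.2)) hw
    -- `ε` is `z₁⁻¹ ∘ u`
    obtain ⟨θ₁, hθ₁, hθ₁x⟩ := (hgen hz₁).exists_inv
    have hrange : ∀ x : N, ((u ⟨x, hNT x.2⟩ : T) : Ω) = z₁ (ε x) := by
      intro x
      have h1 : (a : MulAut T) ⟨z₁ (ε x), apply_mem hz₁.mem _⟩ = w ⟨x, hNT x.2⟩ :=
        Subtype.ext ((hz₁a (ε x) _).symm.trans (hfx x (hNT (f x).2)))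
      rw [hu, MulAut.mul_apply, ← h1]
      simp
    have hiter : ∀ i : ℕ, ∃ zi : ((N.subgroupOf T).map (T.subtype.comp (u ^ i).toMonoidHom) :
        Subgroup Ω) →* Ω, Gen E₁ p _ zi ∧ ∀ (x : N)
          (h : (((u ^ i) ⟨x, hNT x.2⟩ : T) : Ω) ∈
            (N.subgroupOf T).map (T.subtype.comp (u ^ i).toMonoidHom)),
          zi ⟨_, h⟩ = (((ε ^ i) x : N) : Ω) := by
      intro i
      induction i with
      | zero =>
        refine ⟨_, Gen.incl ?_, fun x h => rfl⟩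
        rintro _ ⟨x, -, rfl⟩
        exact Subtype.mem _
      | succ i ihi =>
        obtain ⟨zi, hzi, hzix⟩ := ihi
        obtain ⟨χ, hχ, hχx⟩ := Gen.transport_invariant hi₁ (hWF huW) hzi
        have hle : (N.subgroupOf T).map (T.subtype.comp (u ^ (i + 1)).toMonoidHom) ≤
            (((N.subgroupOf T).map (T.subtype.comp (u ^ i).toMonoidHom)).subgroupOf T).map
              (T.subtype.comp u.toMonoidHom) := by
          rintro _ ⟨x, hx, rfl⟩
          refine ⟨(u ^ i) x, ⟨x, hx, rfl⟩, ?_⟩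
          simp [pow_succ']
        have hval : ∀ (x : N) (h : (((u ^ (i + 1)) ⟨x, hNT x.2⟩ : T) : Ω) ∈
            (N.subgroupOf T).map (T.subtype.comp (u ^ (i + 1)).toMonoidHom)),
            χ.comp (Subgroup.inclusion hle) ⟨_, h⟩ =
              ((u ⟨(((ε ^ i) x : N) : Ω), hNT ((ε ^ i) x).2⟩ : T) : Ω) := by
          intro x h
          have hm : (((u ^ i) ⟨x, hNT x.2⟩ : T) : Ω) ∈
              (N.subgroupOf T).map (T.subtype.comp (u ^ i).toMonoidHom) :=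
            ⟨⟨x, hNT x.2⟩, x.2, rfl⟩
          refine Eq.trans (congrArg χ (Subtype.ext ?_)) ((hχx ⟨_, hm⟩ (Subtype.mem _)
            (apply_mem hzi.mem _) ⟨(u ^ i) ⟨x, hNT x.2⟩, hm, rfl⟩).trans ?_)
          · show (((u ^ (i + 1)) ⟨x, hNT x.2⟩ : T) : Ω) = _
            rw [pow_succ', MulAut.mul_apply]
          · exact congrArg (fun v : T => ((u v : T) : Ω)) (Subtype.ext (hzix x hm))
        have hm2 : ∀ y, χ.comp (Subgroup.inclusion hle) y ∈ z₁.range := by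
          rintro ⟨_, x, hx, rfl⟩
          exact ⟨ε ((ε ^ i) ⟨x, hx⟩), ((hval ⟨x, hx⟩ _).trans (hrange _)).symm⟩
        refine ⟨_, Gen.comp (hχ.restrict hle) hθ₁ hm2, fun x h => ?_⟩
        refine Eq.trans (congrArg θ₁ (Subtype.ext ?_)) ((hθ₁x (ε ((ε ^ i) x))).trans ?_)
        · exact (hval x h).trans (hrange _)
        · rw [pow_succ', MulAut.mul_apply]
    obtain ⟨zk, hzk, hzkx⟩ := hiter (p ^ k)
    rw [hk] at hzkx
    obtain ⟨θk, hθk, hθkx⟩ := hzk.exists_inv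
    have hNle : N ≤ zk.range := fun x hx => ⟨_, hzkx ⟨x, hx⟩ ⟨⟨x, hNT hx⟩, hx, rfl⟩⟩
    have hres : Gen E₁ p N ((T.subtype.comp (u ^ p ^ k).toMonoidHom).comp (Subgroup.inclusion hNT)) := by
      refine hθk.restrict_apply hNle fun x => ?_
      let y : ((N.subgroupOf T).map (T.subtype.comp (u ^ p ^ k).toMonoidHom) : Subgroup Ω) :=
        ⟨(((u ^ p ^ k) ⟨x, hNT x.2⟩ : T) : Ω), ⟨⟨x, hNT x.2⟩, x.2, rfl⟩⟩
      refine (hθkx y).symm.trans (congrArg θk (Subtype.ext ?_))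
      exact hzkx x _
    have hH := ih _ hlt' N rfl hQN' _ (pow_mem huW _) hres
    exact mem_of_pow_prime_mem (H := (A ⊓ B).subgroupOf W) hidx (u := (⟨u, huW⟩ : W)) (k := k) hH
  obtain ⟨a, ha, haw⟩ := key E₁ h₁ hi₁ le_sup_left (fun h => h) (fun h => h) hg.mem
  obtain ⟨b, hb, hbw⟩ := key E₂ h₂ hi₂ le_sup_right (fun h => Gen.of_invariant hT h₂ hi₂ hi₁ h)
    (fun {R} hR => ⟨hR.1, fun R' ⟨ψ, hψ, hr⟩ => by
      have hc := isCentric_of_hom_invariant hi₁ hR (hi₂.1 R hψ)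
      rw [hr] at hc
      exact hc.2 R' (isConj_refl E₁ hc.1)⟩)
    (Gen.of_invariant hT h₁ hi₁ hi₂ hg).mem
  exact ⟨by simpa using A.mul_mem ha haw.1, by simpa using B.mul_mem hb hbw.2⟩

/-- The `p'`-residual of a weakly normal subsystem is contained in every weakly normal subsystem
over the same subgroup. -/
theorem pPrimeResidual_le_of_invariant [Finite S] (hT : IsPGroup p T) (h₁ : E₁.IsSaturated p)
    (h₂ : E₂.IsSaturated p) (hi₁ : E₁.IsInvariantIn F) (hi₂ : E₂.IsInvariantIn F)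
    {D : FusionSystem T} (hD : E₁.IsPPrimeResidual p D) : D.IsSubsystemOf E₂ := by
  set H : Subgroup (E₁.autGroup T) := (E₂.autGroup T).subgroupOf (E₁.autGroup T) with hH
  haveI hHn : H.Normal := ⟨fun x hx a => conj_mem_autGroup_of_isInvariantIn hi₂ le_rfl
    (autGroup_mono hi₁.1 T a.2) hx⟩
  have h0le : h0 E₁ p ≤ (QuotientGroup.mk' H).ker := by
    rw [QuotientGroup.ker_mk']
    refine (Subgroup.closure_le _).mpr ?_
    rintro a ⟨Q, hQ, ha⟩
    exact (mem_inf_of_restrict_gen hT h₁ h₂ hi₁ hi₂ hQ (Subgroup.mem_sup_left a.2) ha).2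
  intro P φ hφ
  obtain ⟨a, ha, z, hz, hza⟩ := hD.2.2 (classSystem (QuotientGroup.mk' H) hT)
    (classSystem_isSaturated hT h₁ h0le) (classSystem_index hT h₁) P hφ
  exact comp_mem_apply (Gen.of_invariant hT h₁ hi₁ hi₂ hz).mem
    ((mem_autGroup_iff E₂ le_rfl).mp ((QuotientGroup.eq_one_iff a).mp ha)) (apply_mem hz.mem)
    fun x => hza x _

end CfsgLib.Alperin
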