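import Cfsg.Agent.Lib.Alperin.GoodExt
import Cfsg.Agent.Lib.FusionSub.Induction
import Cfsg.Agent.Lib.FusionExamples.CentricExtension

/-!
Maps of a normal subsystem over `T` between centric subgroups extend over `C_S(T)`; maps with an
extension fixing a given subgroup of `C_S(T)` form a closed class.
-/

set_option autoImplicit false
set_option linter.style.haveILetI false
set_option linter.unusedSectionVars false

open scoped commutatorElement

namespace CfsgLib.Alperin.NormalLift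

open Cfsg Cfsg.FusionSystem CfsgLib.Alperin CfsgLib.FusionSub CfsgLib.FusionBasics

variable {Ω : Type*} [Group Ω] {S T : Subgroup Ω} {F : FusionSystem S} {E : FusionSystem T}
variable {p : ℕ} [Fact p.Prime] [Finite S] [Finite T]

theorem isCentric_source {P : Subgroup Ω} {φ : P →* Ω} (hφ : φ ∈ E.Hom P)
    (h : E.IsCentric φ.range) : E.IsCentric P :=
  CfsgLib.FusionExamples.isCentric_of_isConj h (CfsgLib.Alperin.IsConj.symm ⟨φ, hφ, rfl⟩)

theorem closed_goodExt (hE : E.IsInvariantIn F) :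
    Closed E fun P φ => E.IsCentric P → GoodExt F T P φ where
  restrict {P Q φ} hQ hφ h hQc :=
    (h (CfsgLib.FusionExamples.isCentric_of_ge hQc hQ (dom_le hφ))).restrict hE.2.1 hE
      (dom_le hφ) hQ hQc
  comp {P Q φ ψ} hφ hψ hm h₁ h₂ hPc := by
    have hle : φ.range ≤ Q := by
      rintro _ ⟨x, rfl⟩
      exact hm x
    have hc := isCentric_of_hom_invariant hE hPc (hE.1 _ hφ)
    exact (h₁ hPc).comp rfl
      ((h₂ (CfsgLib.FusionExamples.isCentric_of_ge hc hle (dom_le hψ))).restrict hE.2.1 hE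
        (dom_le hψ) hle hc) (fun x => ⟨x, rfl⟩) fun x => rfl
  inv {P Q φ ψ} hφ hψ hr hψx h hQc :=
    (h (isCentric_source hφ (hr ▸ hQc))).inv hr hψx

/-- Maps of a normal subsystem on centric subgroups extend over `C_S(T)`. -/
theorem goodExt_of_mem (hS : IsPGroup p S) (hE : E.IsNormalIn F p) {P : Subgroup Ω} {φ : P →* Ω}
    (hφ : φ ∈ E.Hom P) (hP : E.IsCentric P) : GoodExt F T P φ := by
  obtain ⟨⟨hEs, hF, hinv⟩, hext⟩ := hE
  have hT : IsPGroup p T := isPGroup_of_le hS hinv.2.1.1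
  refine closed_induction_centric (F := E) hT hEs (closed_goodExt hinv)
    (fun Q hQ hQc big α hα => ?_) hφ hP
  intro _
  rcases eq_or_lt_of_le hQ.1 with rfl | hlt
  · obtain ⟨β, hβ, hβx, hβC⟩ := hext α hα
    refine ⟨_, (mem_autGroup_iff F (sup_le hinv.2.1.1 (centralizerIn_le S Q))).mp hβ,
      fun x => hβx x, fun c => ?_⟩
    rw [range_subtype_comp_aut]
    exact (hβC (Subgroup.inclusion le_sup_right c) c.2).1
  set K : Subgroup (MulAut Q) :=
    Subgroup.closure {β : MulAut Q | β ∈ E.autGroup Q ∧ ∃ k : ℕ, β ^ p ^ k = 1} with hK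
  have hKn : ∀ a ∈ E.autGroup Q, ∀ κ ∈ K, a * κ * a⁻¹ ∈ K := by
    intro a ha κ hκ
    induction hκ using Subgroup.closure_induction with
    | mem x hx =>
      obtain ⟨hxE, k, hk⟩ := hx
      exact Subgroup.subset_closure ⟨Subgroup.mul_mem _ (Subgroup.mul_mem _ ha hxE)
        (Subgroup.inv_mem _ ha), k, by rw [conj_pow, hk, mul_one, mul_inv_cancel]⟩
    | one => simp
    | mul x y _ _ hx hy =>
      have := K.mul_mem hx hy
      rwa [show a * x * a⁻¹ * (a * y * a⁻¹) = a * (x * y) * a⁻¹ by group] at this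
    | inv x _ hx =>
      have := K.inv_mem hx
      rwa [show (a * x * a⁻¹)⁻¹ = a * x⁻¹ * a⁻¹ by group] at this
  have hKgood : ∀ κ ∈ K, κ ∈ E.autGroup Q ∧ GoodExt F T Q (Q.subtype.comp κ.toMonoidHom) := by
    intro κ hκ
    induction hκ using Subgroup.closure_induction with
    | mem x hx =>
      obtain ⟨hxE, k, hk⟩ := hx
      exact ⟨hxE, goodExt_of_pElement hS hF hT hEs hinv hQc hxE hk⟩
    | one => exact ⟨Subgroup.one_mem _, (GoodExt.incl (hQ.1.trans hinv.2.1.1)).congr fun _ => rfl⟩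
    | mul x y _ _ hx hy =>
      exact ⟨Subgroup.mul_mem _ hx.1 hy.1, hy.2.comp (range_subtype_comp_aut y) hx.2
        (fun z => (y z).2) fun z => rfl⟩
    | inv x _ hx =>
      refine ⟨Subgroup.inv_mem _ hx.1, hx.2.inv (range_subtype_comp_aut x) fun z hz => ?_⟩
      show (((x⁻¹ : MulAut Q) (x z) : Q) : Ω) = z
      rw [MulAut.inv_apply_self]
  obtain ⟨κ, hκ, χ, hχ, rfl, R, hQR, ψ, hR, hψ, hψx, hRge⟩ :=
    frattini_extend hT hEs hQ K hKn hα
  have hQR' : Q < R := by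
    obtain ⟨g, hg, hgQ⟩ := SetLike.exists_of_lt (CfsgLib.FusionSub.lt_normalizerIn hT hlt)
    refine lt_of_le_of_ne hQR fun h => hgQ (h.ge (hRge g hg.1 hg.2 (Subgroup.subset_closure ?_)))
    have hm := autInducedBy_le_autGroup E hQ.1 (conjAut_mem hg.1 hg.2)
    obtain ⟨k, hk⟩ := isPGroup_autInducedBy hT Q ⟨_, conjAut_mem hg.1 hg.2⟩
    exact ⟨hm, k, congrArg Subtype.val hk⟩
  have hRT : R ≤ T := hR.trans (normalizerIn_le T Q)
  have hRgood := big R ψ hψ (card_lt_card hRT hQR')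
    (CfsgLib.FusionExamples.isCentric_of_ge hQc hQR hRT)
  have hχgood : GoodExt F T Q (Q.subtype.comp χ.toMonoidHom) :=
    (hRgood.restrict hinv.2.1 hinv hRT hQR hQc).congr fun x => (hψx x).symm
  exact hχgood.comp (range_subtype_comp_aut χ) (hKgood κ hκ.1).2 (fun z => (χ z).2) fun z => rfl

/-- `φ` extends to a map on `P Y` fixing `Y` pointwise. -/
def FixY (F : FusionSystem S) (Y P : Subgroup Ω) (φ : P →* Ω) : Prop :=
  ∃ ψ ∈ F.Hom (P ⊔ Y), (∀ x : P, ψ (Subgroup.inclusion le_sup_left x) = φ x) ∧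
    ∀ y : Y, ψ (Subgroup.inclusion le_sup_right y) = y

theorem FixY.congr {Y P : Subgroup Ω} {φ χ : P →* Ω} (h : FixY F Y P φ) (hx : ∀ x, χ x = φ x) :
    FixY F Y P χ := by
  rwa [MonoidHom.ext hx]

theorem FixY.incl {Y P : Subgroup Ω} (hP : P ≤ S) (hY : Y ≤ S) : FixY F Y P P.subtype :=
  ⟨_, incl_mem F (sup_le hP hY), fun _ => rfl, fun _ => rfl⟩

theorem FixY.restrict {Y P Q : Subgroup Ω} {φ : P →* Ω} {χ : Q →* Ω} (h : FixY F Y P φ)
    (hQ : Q ≤ P) (hx : ∀ x : Q, χ x = φ ⟨x, hQ x.2⟩) : FixY F Y Q χ := by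
  obtain ⟨ψ, hψ, h₁, h₂⟩ := h
  exact ⟨_, restrict_mem hψ (sup_le_sup_right hQ Y),
    fun x => ((congrArg ψ (Subtype.ext rfl)).trans (h₁ (Subgroup.inclusion hQ x))).trans (hx x).symm,
    fun y => (congrArg ψ (Subtype.ext rfl)).trans (h₂ y)⟩

theorem FixY.comp {Y P Q : Subgroup Ω} {φ : P →* Ω} {χ : Q →* Ω} {τ : P →* Ω}
    (h₁ : FixY F Y P φ) (h₂ : FixY F Y Q χ) (h : ∀ x : P, φ x ∈ Q)
    (hτ : ∀ x : P, τ x = χ ⟨φ x, h x⟩) : FixY F Y P τ := by
  obtain ⟨ψ₁, hψ₁, hx₁, hy₁⟩ := h₁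
  obtain ⟨ψ₂, hψ₂, hx₂, hy₂⟩ := h₂
  have hm : ∀ z, ψ₁ z ∈ Q ⊔ Y := apply_mem_of_sup ψ₁
    (fun x => Subgroup.mem_sup_left (by rw [hx₁]; exact h x))
    (fun y => Subgroup.mem_sup_right (by rw [hy₁]; exact y.2))
  refine ⟨ψ₂.comp (ψ₁.codRestrict _ hm), F.comp_mem hψ₁ hψ₂ hm, fun x => ?_, fun y => ?_⟩
  · rw [hτ, ← hx₂]
    exact congrArg ψ₂ (Subtype.ext (hx₁ x))
  · refine Eq.trans ?_ (hy₂ y)
    exact congrArg ψ₂ (Subtype.ext (hy₁ y))

theorem FixY.inv {Y P Q : Subgroup Ω} {φ : P →* Ω} {θ : Q →* Ω} (h : FixY F Y P φ)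
    (hr : φ.range = Q) (hθ : ∀ (x : P) (hx : φ x ∈ Q), θ ⟨φ x, hx⟩ = x) : FixY F Y Q θ := by
  subst hr
  obtain ⟨ψ, hψ, hx, hy⟩ := h
  obtain ⟨ψ', hψ', -, hψ'x, -⟩ := exists_inverse hψ rfl
  have hle : φ.range ⊔ Y ≤ ψ.range := by
    refine sup_le ?_ fun y hyY => ?_
    · rintro _ ⟨x, rfl⟩
      exact ⟨_, hx x⟩
    · exact ⟨_, hy ⟨y, hyY⟩⟩
  refine ⟨_, restrict_mem hψ' hle, ?_, fun y => ?_⟩
  · rintro ⟨_, x, rfl⟩
    rw [hθ x ⟨x, rfl⟩]
    refine Eq.trans (congrArg ψ' (Subtype.ext ?_))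
      (hψ'x (Subgroup.inclusion le_sup_left x) ⟨_, rfl⟩)
    exact (hx x).symm
  · refine Eq.trans (congrArg ψ' (Subtype.ext ?_))
      (hψ'x (Subgroup.inclusion le_sup_right y) ⟨_, rfl⟩)
    exact (hy y).symm

theorem closed_fixY (Y : Subgroup Ω) : Closed E (FixY F Y) where
  restrict hQ _ h := h.restrict hQ fun _ => rfl
  comp _ _ hm h₁ h₂ := h₁.comp h₂ hm fun _ => rfl
  inv _ _ hr hψx h := h.inv hr hψx

/-- If every map of `E` extends fixing `Y`, the subgroup `Y` lies in `T`. -/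
theorem le_of_fixY (hE : E.IsInvariantIn F) {Y : Subgroup Ω} (hY : Y ≤ centralizerIn S T)
    (hCE : ∀ Y : Subgroup Ω, Y ≤ centralizerIn S T →
      (∀ C : FusionSystem (centralizerIn S Y), F.IsCentralizerSystem Y C → E.IsSubsystemOf C) →
      Y ≤ T)
    (h : ∀ (P : Subgroup Ω) (φ : P →* Ω), φ ∈ E.Hom P → FixY F Y P φ) : Y ≤ T := by
  have hTY : T ≤ centralizerIn S Y := le_inf hE.2.1.1 fun t ht y hy =>
    ((hY hy).2 t ht).symm
  refine hCE Y hY fun C hC P φ hφ => ?_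
  rw [hC P]
  exact ⟨hE.1 _ hφ, (dom_le hφ).trans hTY, fun x => hTY (apply_mem hφ x), h P φ hφ⟩

/-- Maps of `E` extend fixing the commutators of `C_S(T)`. -/
theorem fixY_commutator (hS : IsPGroup p S) (hE : E.IsNormalIn F p) {P : Subgroup Ω}
    {φ : P →* Ω} (hφ : φ ∈ E.Hom P) :
    FixY F ⁅centralizerIn S T, centralizerIn S T⁆ P φ := by
  refine closed_induction_centric (F := E) (isPGroup_of_le hS hE.1.2.2.2.1.1) hE.1.1
    (closed_fixY _) (fun Q hQ hQc _ α hα => ?_) hφ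
  obtain ⟨ψ, hψ, hx, hc⟩ := goodExt_of_mem hS hE ((mem_autGroup_iff E hQ.1).mp hα) hQc
  rw [range_subtype_comp_aut] at hc
  have hle : Q ⊔ ⁅(centralizerIn S T), (centralizerIn S T)⁆ ≤ Q ⊔ (centralizerIn S T) := sup_le_sup_left (Subgroup.commutator_le_self (centralizerIn S T)) Q
  refine ⟨_, restrict_mem hψ hle, fun x => (congrArg ψ (Subtype.ext rfl)).trans (hx x),
    fun y => ?_⟩
  set D : Subgroup ↥(Q ⊔ (centralizerIn S T)) := MonoidHom.eqLocus ψ (Subgroup.subtype _)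
  suffices hD : ⁅(centralizerIn S T), (centralizerIn S T)⁆ ≤ D.map (Subgroup.subtype _) by
    obtain ⟨w, hw, hwy⟩ := hD y.2
    refine (congrArg ψ (Subtype.ext ?_)).trans (hw.trans hwy)
    exact hwy.symm
  rw [Subgroup.commutator_le]
  intro a ha b hb
  refine ⟨⟨⁅a, b⁆, Subgroup.mem_sup_right
    (Subgroup.commutator_le_self (centralizerIn S T) (Subgroup.commutator_mem_commutator ha hb))⟩, ?_, rfl⟩
  set A : ↥(Q ⊔ (centralizerIn S T)) := ⟨a, Subgroup.mem_sup_right ha⟩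
  set B : ↥(Q ⊔ (centralizerIn S T)) := ⟨b, Subgroup.mem_sup_right hb⟩
  show ψ ⁅A, B⁆ = ⁅a, b⁆
  set z := a⁻¹ * ψ A with hz
  set w := b⁻¹ * ψ B with hw
  have hzQ : z ∈ Q := hc ⟨a, ha⟩
  have hwQ : w ∈ Q := hc ⟨b, hb⟩
  have hcen : ∀ e : ↥(Q ⊔ (centralizerIn S T)), (e : Ω) ∈ (centralizerIn S T) → ∀ q ∈ Q,
      q * ((e : Ω)⁻¹ * ψ e) = (e : Ω)⁻¹ * ψ e * q := by
    intro e he q hq
    obtain ⟨x, hx'⟩ := α.surjective ⟨q, hq⟩
    have hψq : ψ (Subgroup.inclusion le_sup_left x) = q := (hx x).trans (congrArg Subtype.val hx')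
    have h1 : q * ψ e = ψ e * q := by
      rw [← hψq, ← map_mul, ← map_mul]
      exact congrArg ψ (Subtype.ext (he.2 _ (hQ.1 x.2)))
    have h2 : q * (e : Ω) = e * q := he.2 q (hQ.1 hq)
    rw [← mul_assoc, ((Commute.inv_right h2).eq), mul_assoc, h1, mul_assoc]
  have hza : Commute z a := ha.2 z (hQ.1 hzQ)
  have hzb : Commute z b := hb.2 z (hQ.1 hzQ)
  have hwa : Commute w a := ha.2 w (hQ.1 hwQ)
  have hwb : Commute w b := hb.2 w (hQ.1 hwQ)
  have hzw : Commute z w := hcen B hb z hzQ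
  rw [map_commutatorElement, show ψ A = a * z by rw [hz, mul_inv_cancel_left],
    show ψ B = b * w by rw [hw, mul_inv_cancel_left], commutatorElement_def,
    commutatorElement_def]
  calc a * z * (b * w) * (a * z)⁻¹ * (b * w)⁻¹
      = a * (z * (b * w)) * z⁻¹ * a⁻¹ * (b * w)⁻¹ := by group
    _ = a * (b * w) * a⁻¹ * (b * w)⁻¹ := by
        rw [(hzb.mul_right hzw).eq]
        group
    _ = a * b * (w * a⁻¹) * w⁻¹ * b⁻¹ := by group
    _ = a * b * a⁻¹ * b⁻¹ := by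
        rw [hwa.inv_right.eq]
        group

/-- The product of `T` and its centralizer has commutators in `T`. -/
theorem commutator_sup_le (hS : IsPGroup p S) (hE : E.IsNormalIn F p)
    (hCE : ∀ Y : Subgroup Ω, Y ≤ centralizerIn S T →
      (∀ C : FusionSystem (centralizerIn S Y), F.IsCentralizerSystem Y C → E.IsSubsystemOf C) →
      Y ≤ T) :
    ⁅T ⊔ centralizerIn S T, T ⊔ centralizerIn S T⁆ ≤ T := by
  set Cs := centralizerIn S T
  have hYT : ⁅Cs, Cs⁆ ≤ T := le_of_fixY hE.1.2.2 (Subgroup.commutator_le_self Cs) hCE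
    fun P φ hφ => fixY_commutator hS hE hφ
  have hN : Cs ≤ Subgroup.normalizer (T : Set Ω) := fun c hc =>
    (centralizerIn_le_normalizerIn S T hc).2
  rw [Subgroup.commutator_le]
  intro g hg h hh
  rw [← SetLike.mem_coe, Subgroup.coe_mul_of_right_le_normalizer_left T Cs hN] at hg hh
  obtain ⟨t, ht, c, hc, rfl⟩ := hg
  obtain ⟨u, hu, d, hd, rfl⟩ := hh
  have hcu : Commute u c := hc.2 u hu
  have hdt : Commute t d := hd.2 t ht
  have hcd : ⁅c, d⁆ ∈ T := hYT (Subgroup.commutator_mem_commutator hc hd)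
  have e1 : ⁅t * c, u * d⁆ = t * u * ⁅c, d⁆ * t⁻¹ * u⁻¹ := by
    rw [commutatorElement_def, commutatorElement_def]
    calc t * c * (u * d) * (t * c)⁻¹ * (u * d)⁻¹
        = t * (c * u) * d * c⁻¹ * (t⁻¹ * d⁻¹) * u⁻¹ := by group
      _ = t * (u * c) * d * c⁻¹ * (d⁻¹ * t⁻¹) * u⁻¹ := by rw [hcu.eq, hdt.inv_inv.eq]
      _ = t * u * (c * d * c⁻¹ * d⁻¹) * t⁻¹ * u⁻¹ := by group
  rw [e1]
  exact T.mul_mem (T.mul_mem (T.mul_mem (T.mul_mem ht hu) hcd) (T.inv_mem ht)) (T.inv_mem hu)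

end CfsgLib.Alperin.NormalLift
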