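import Cfsg.Agent.Lib.Alperin.GoodExt

/-!
The `p'`-residual of a weakly normal subsystem is normal.
-/

set_option autoImplicit false
set_option linter.style.haveILetI false
set_option linter.unusedSectionVars false

namespace CfsgLib.Alperin

open Cfsg Cfsg.FusionSystem CfsgLib.FusionSub CfsgLib.FusionBasics

variable {Ω : Type*} [Group Ω] {S T : Subgroup Ω} {F : FusionSystem S} {E : FusionSystem T}
variable {p : ℕ} [Fact p.Prime] [Finite S] [Finite T]

/-- The automorphisms in `Aut_E(T)` with an extension trivial on `C_S(T)/Z(T)`. -/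
def goodAut (hS : IsPGroup p S) (hF : F.IsSaturated p) (hTS : F.StronglyClosed T)
    (E : FusionSystem T) : Subgroup (E.autGroup T) where
  carrier := {a | GoodExt F T T (T.subtype.comp (a : MulAut T).toMonoidHom)}
  one_mem' := (GoodExt.incl hTS.1).congr fun _ => rfl
  mul_mem' {a b} ha hb := hb.comp (range_subtype_comp_aut _) ha (fun x => ((b : MulAut T) x).2)
    fun _ => rfl
  inv_mem' {a} ha := by
    refine ha.inv (range_subtype_comp_aut _) fun x hx => ?_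
    show ((((a⁻¹ : E.autGroup T) : MulAut T) ((a : MulAut T) x) : T) : Ω) = x
    simp

theorem mem_goodAut {hS : IsPGroup p S} {hF : F.IsSaturated p} {hTS : F.StronglyClosed T}
    {a : E.autGroup T} : a ∈ goodAut hS hF hTS E ↔
      GoodExt F T T (T.subtype.comp (a : MulAut T).toMonoidHom) := Iff.rfl

variable (hS : IsPGroup p S) (hF : F.IsSaturated p) (hT : IsPGroup p T)
  (hEs : E.IsSaturated p) (hE : E.IsInvariantIn F)
include hS hF hE

theorem goodExt_conj {a b : MulAut T} (hb : b ∈ F.autGroup T) {Q : Subgroup Ω} (hQT : Q ≤ T)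
    {Q' : Subgroup Ω} (hQ' : Q' = (Q.subgroupOf T).map (T.subtype.comp b.toMonoidHom)) (hQ'T : Q' ≤ T)
    (h : GoodExt F T Q ((T.subtype.comp a.toMonoidHom).comp (Subgroup.inclusion hQT))) :
    GoodExt F T Q' ((T.subtype.comp (b * a * b⁻¹).toMonoidHom).comp (Subgroup.inclusion hQ'T)) := by
  obtain ⟨χ, hχ, hχx⟩ := h.transport hS hF hE.2.1 hQT hb
  subst hQ'
  refine hχ.congr ?_
  rintro ⟨_, ⟨x, hxT⟩, hxQ, rfl⟩
  refine Eq.trans ?_ (hχx ⟨x, hxQ⟩ (a ⟨x, hxT⟩).2 ⟨⟨x, hxT⟩, hxQ, rfl⟩).symm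
  show (((b * a * b⁻¹) (b ⟨x, hxT⟩) : T) : Ω) = _
  simp only [MulAut.mul_apply, MulAut.inv_apply_self]
  rfl

theorem goodAut_normal : (goodAut hS hF hE.2.1 E).Normal := by
  refine ⟨fun a ha g => ?_⟩
  have hmap : T = (T.subgroupOf T).map (T.subtype.comp (g : MulAut T).toMonoidHom) := by
    ext y
    exact ⟨fun hy => ⟨(g : MulAut T).symm ⟨y, hy⟩, ((g : MulAut T).symm ⟨y, hy⟩).2,
      congrArg Subtype.val ((g : MulAut T).apply_symm_apply ⟨y, hy⟩)⟩, fun ⟨x, _, hx⟩ => hx ▸ Subtype.mem _⟩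
  exact (goodExt_conj hS hF hE (a := (a : MulAut T)) (autGroup_mono hE.1 T g.2) le_rfl hmap le_rfl
    (ha.congr fun _ => rfl)).congr fun _ => rfl

include hT hEs

theorem not_dvd_index_goodAut : ¬ p ∣ (goodAut hS hF hE.2.1 E).index := by
  haveI := finite_autGroup E (le_refl T)
  obtain ⟨-, R, hR⟩ := (centralized_automized_of_fullyNormalized hT hEs (isFullyNormalized_top E)).2
  intro hd
  refine R.not_dvd_index (hd.trans ?_)
  rw [hR]
  refine Subgroup.index_dvd_of_le ?_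
  intro a ha
  obtain ⟨t, ht, htx⟩ := mem_autInducedBy_iff.mp ha
  have htS : t ∈ S := hE.2.1.1 ht
  refine ⟨conjHom _ t, F.conj_mem (sup_le hE.2.1.1 (centralizerIn_le S T)) htS, fun x => (htx x).symm,
    fun c => ?_⟩
  show (c : Ω)⁻¹ * (t * c * t⁻¹) ∈ _
  rw [c.2.2 t ht]
  simp

/-- The extension step at a subgroup fully normalized in `F`. -/
theorem exists_goodExt_step {Q : Subgroup Ω} (hQ : E.IsCentric Q) (hQn : F.IsFullyNormalized Q)
    {a : MulAut T} (ha : a ∈ F.autGroup T) {R : Subgroup Ω} (hR : E.IsCentric R)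
    (hRQ : (R.subgroupOf T).map (T.subtype.comp a.toMonoidHom) = Q)
    (hg : GoodExt F T R ((T.subtype.comp a.toMonoidHom).comp (Subgroup.inclusion hR.1))) :
    ∃ φ : normalizerIn T R →* Ω, GoodExt F T (normalizerIn T R) φ ∧
      φ.range = normalizerIn T Q ∧
      ∀ (x : Ω) (hx : x ∈ R) (hN : x ∈ normalizerIn T R),
        φ ⟨x, hN⟩ = ((a ⟨x, hR.1 hx⟩ : T) : Ω) := by
  have hTS := hE.2.1
  set g := (T.subtype.comp a.toMonoidHom).comp (Subgroup.inclusion hR.1) with hgdef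
  have hgr : g.range = Q := by
    rw [← hRQ, hgdef, range_comp_inclusion]
  have hgF := hg.mem
  unfold GoodExt at hg
  set N := normalizerIn T R with hN
  set C := centralizerIn S T with hC
  obtain ⟨ψ, hψ, hψx, hψc⟩ := hg
  have hRN : R ≤ N := le_normalizerIn hR.1
  have hNT : N ≤ T := normalizerIn_le T R
  have hCR : C ≤ centralizerIn S R := inf_le_inf_left S (Subgroup.centralizer_le hR.1)
  obtain ⟨ω, hω, hωx⟩ := (receptive_of_fullyNormalized hS hF hQn).2 R g hgF hgr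
  have hNext : N ≤ extender S R g := by
    intro h hh
    refine mem_extender_iff.mpr ⟨hTS.1 hh.1, hh.2, (a ⟨h, hh.1⟩ : T), hTS.1 (a _).2, fun x hx => ?_⟩
    show ((a ⟨h * x * h⁻¹, hR.1 hx⟩ : T) : Ω) =
      (a ⟨h, hh.1⟩ : T) * ((a ⟨x, hR.1 x.2⟩ : T) : Ω) * ((a ⟨h, hh.1⟩ : T) : Ω)⁻¹
    rw [show (⟨h * x * h⁻¹, hR.1 hx⟩ : T) = ⟨h, hh.1⟩ * ⟨x, hR.1 x.2⟩ * ⟨h, hh.1⟩⁻¹ from rfl,
      map_mul, map_mul, map_inv]
    rfl
  have hle : N ⊔ C ≤ extender S R g := sup_le hNext (hCR.trans (centralizerIn_le_extender R g))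
  set ω' := ω.comp (Subgroup.inclusion hle) with hω'
  have hω'F : ω' ∈ F.Hom (N ⊔ C) := restrict_mem hω hle
  have hωQ : (R.subgroupOf (extender S R g)).map ω = Q :=
    (map_subgroupOf_of_extends (le_extender hgF) hωx).trans hgr
  have hω'N : ∀ z, ω' z ∈ normalizerIn S Q := fun z =>
    apply_mem_normalizerIn hω (le_extender hgF) hωQ _ (extender_le_normalizerIn R g (hle z.2)).2
  have hRC : R ⊔ C ≤ N ⊔ C := sup_le_sup_right hRN C
  set ω'' := ω'.comp (Subgroup.inclusion hRC) with hω''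
  have hω''F : ω'' ∈ F.Hom (R ⊔ C) := restrict_mem hω'F hRC
  set X₁ := ω''.range with hX₁
  obtain ⟨θ, hθ, hθr, hθx, hθy⟩ := exists_inverse hω''F hX₁.symm
  set D := Q ⊔ C with hD
  have hψD : ∀ z, ψ z ∈ D := fun z => by
    have h := mem_sup_of_good hψx hψc z
    rw [hgr] at h
    exact h
  have hψr : ψ.range = D := by
    refine le_antisymm (fun y ⟨z, hz⟩ => hz ▸ hψD z) (sup_le (fun q hq => ?_) fun c hc => ?_)
    · obtain ⟨x, hx⟩ := hgr.ge hq
      exact ⟨_, (hψx x).trans hx⟩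
    · obtain ⟨x, hx⟩ := hψc ⟨c, hc⟩
      refine ⟨Subgroup.inclusion le_sup_right ⟨c, hc⟩ * (Subgroup.inclusion le_sup_left x)⁻¹, ?_⟩
      rw [map_mul, map_inv, hψx, hx]
      group
  have hCN : C ≤ normalizerIn S Q :=
    (inf_le_inf_left S (Subgroup.centralizer_le hQ.1)).trans (centralizerIn_le_normalizerIn S Q)
  have hQN : Q ≤ normalizerIn S Q := le_normalizerIn hQn.1
  have hDN : D ≤ normalizerIn S Q := sup_le hQN hCN
  obtain ⟨M, hM, hMh⟩ := exists_stabilizerSystem hS hF hQn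
  have hQX₁ : Q ≤ X₁ := fun q hq => by
    obtain ⟨x, hx⟩ := hgr.ge hq
    exact ⟨Subgroup.inclusion le_sup_left x, (hωx x x.2 _).trans hx⟩
  have hX₁N : X₁ ≤ normalizerIn S Q := by
    rintro _ ⟨z, rfl⟩
    exact hω'N _
  set ρ := ψ.comp (θ.codRestrict (R ⊔ C) fun z => hθr.le ⟨z, rfl⟩) with hρ
  have hρF : ρ ∈ F.Hom X₁ := F.comp_mem hθ hψ fun z => hθr.le ⟨z, rfl⟩
  have hρQ : ∀ z : X₁, (z : Ω) ∈ Q → ρ z = z := by
    intro z hz
    obtain ⟨x, hx⟩ := hgr.ge hz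
    have h1 : θ z = (x : Ω) := by
      refine Eq.trans (congrArg θ (Subtype.ext ?_)) (hθx (Subgroup.inclusion le_sup_left x) ⟨_, rfl⟩)
      exact ((hωx x x.2 _).trans hx).symm
    refine Eq.trans (congrArg ψ (Subtype.ext ?_)) ((hψx x).trans hx)
    exact h1
  have hρM : ρ ∈ M.Hom X₁ := by
    rw [hMh]
    exact ⟨hρF, hX₁N, fun z => hDN (hψD _), ρ.comp (Subgroup.inclusion (sup_le le_rfl hQX₁)),
      restrict_mem hρF _, fun z => rfl, 1, Subgroup.one_mem _, fun q => hρQ ⟨q, hQX₁ q.2⟩ q.2⟩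
  have hρr : ρ.range = D := by
    rw [← hψr]
    ext y
    constructor
    · rintro ⟨z, rfl⟩
      exact ⟨_, rfl⟩
    · rintro ⟨w, rfl⟩
      exact ⟨⟨ω'' w, w, rfl⟩, congrArg ψ (Subtype.ext (hθx w _))⟩
  haveI : Finite (normalizerIn S Q) := finite_of_le (normalizerIn_le S Q)
  have hNp := isPGroup_of_le hS (normalizerIn_le S Q)
  have hDnorm : ∀ h ∈ normalizerIn S Q, h ∈ Subgroup.normalizer (D : Set Ω) := by
    suffices H : ∀ h ∈ normalizerIn S Q, ∀ z ∈ D, h * z * h⁻¹ ∈ D from fun h hh =>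
      Subgroup.mem_normalizer_iff.mpr fun z => ⟨H h hh z, fun hz => by
        have := H h⁻¹ (Subgroup.inv_mem _ hh) _ hz
        simpa [mul_assoc] using this⟩
    intro h hh z hz
    refine apply_mem_of_sup (conjHom D h) (fun x => Subgroup.mem_sup_left (S := Q) ?_)
      (fun x => Subgroup.mem_sup_right (T := C) ⟨?_, ?_⟩) ⟨z, hz⟩
    · exact mem_normalizer_conj hh.2 x.2
    · exact S.mul_mem (S.mul_mem hh.1 x.2.1) (S.inv_mem hh.1)
    · intro t ht
      have h1 := x.2.2 _ (stronglyClosed_conj hTS (S.inv_mem hh.1) ht)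
      show t * (h * (x : Ω) * h⁻¹) = h * x * h⁻¹ * t
      calc t * (h * (x : Ω) * h⁻¹) = h * (h⁻¹ * t * h⁻¹⁻¹ * x) * h⁻¹ := by group
        _ = h * ((x : Ω) * (h⁻¹ * t * h⁻¹⁻¹)) * h⁻¹ := by rw [h1]
        _ = h * x * h⁻¹ * t := by group
  have hDn : M.IsFullyNormalized D := by
    haveI : Finite ↥(normalizerIn S Q ⊓ Subgroup.normalizer (D : Set Ω)) :=
      finite_of_le (inf_le_left.trans (normalizerIn_le S Q))
    refine ⟨hDN, fun X _ => ?_⟩
    exact Subgroup.card_le_of_le (le_inf le_rfl hDnorm : normalizerIn S Q ≤ normalizerIn (normalizerIn S Q) D)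
      |>.trans' (Subgroup.card_le_of_le (normalizerIn_le _ X))
  obtain ⟨Ψ, hΨ, hΨx⟩ := (receptive_of_fullyNormalized hNp hM hDn).2 X₁ ρ hρM hρr
  haveI := finite_autGroup M hDN
  obtain ⟨-, R₀, hR₀⟩ := (centralized_automized_of_fullyNormalized hNp hM hDn).2
  -- automorphisms of `D` trivial on `Q` and on `D/Q`
  let K : Subgroup (M.autGroup D) :=
    { carrier := {κ | (∀ z : D, (z : Ω) ∈ Q → (κ : MulAut D) z = z) ∧
        ∀ z : D, (z : Ω)⁻¹ * (((κ : MulAut D) z : D) : Ω) ∈ Q}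
      one_mem' := ⟨fun z _ => rfl, fun z => by simp⟩
      mul_mem' := fun {κ μ} hκ hμ => ⟨fun z hz => by
          show (κ : MulAut D) ((μ : MulAut D) z) = z
          rw [hμ.1 z hz, hκ.1 z hz], fun z => by
          show (z : Ω)⁻¹ * (((κ : MulAut D) ((μ : MulAut D) z) : D) : Ω) ∈ Q
          have := Q.mul_mem (hμ.2 z) (hκ.2 ((μ : MulAut D) z))
          simpa [mul_assoc] using this⟩
      inv_mem' := fun {κ} hκ => ⟨fun z hz => by
          refine (κ : MulAut D).injective ?_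
          simp only [InvMemClass.coe_inv, MulAut.apply_inv_self]
          exact (hκ.1 z hz).symm, fun z => by
          have := Q.inv_mem (hκ.2 (((κ⁻¹ : M.autGroup D) : MulAut D) z))
          simpa using this⟩ }
  have hMQ : ∀ (σ : M.autGroup D) (z : D), (z : Ω) ∈ Q → (((σ : MulAut D) z : D) : Ω) ∈ Q := by
    intro σ z hz
    have h := (mem_autGroup_iff M hDN).mp σ.2
    rw [hMh] at h
    obtain ⟨-, -, -, χ, -, hχ, β, -, hβ⟩ := h
    refine Eq.subst (motive := fun w => w ∈ Q) ?_ (β ⟨z, hz⟩).2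
    refine (hβ ⟨z, hz⟩).symm.trans (Eq.trans ?_ (hχ z))
    exact congrArg χ (Subtype.ext rfl)
  haveI hKn : K.Normal := by
    refine ⟨fun κ hκ σ => ⟨fun z hz => ?_, fun z => ?_⟩⟩
    · show (σ : MulAut D) ((κ : MulAut D) ((σ : MulAut D)⁻¹ z)) = z
      rw [hκ.1 ((σ : MulAut D)⁻¹ z) (hMQ σ⁻¹ z hz), MulAut.apply_inv_self]
    · obtain ⟨w, rfl⟩ : ∃ w, (σ : MulAut D) w = z :=
        ⟨(σ : MulAut D)⁻¹ z, (σ : MulAut D).apply_symm_apply z⟩
      show ((σ : MulAut D) w : Ω)⁻¹ *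
        (((σ : MulAut D) ((κ : MulAut D) ((σ : MulAut D)⁻¹ ((σ : MulAut D) w))) : D) : Ω) ∈ Q
      rw [MulAut.inv_apply_self]
      have := hMQ σ (w⁻¹ * (κ : MulAut D) w) (hκ.2 w)
      simpa using this
  have hKp : IsPGroup p K := by
    haveI := finite_of_le hQn.1
    obtain ⟨k, hk⟩ := IsPGroup.iff_card.mp (isPGroup_of_le hS hQn.1)
    refine fun κ => ⟨k, Subtype.ext (Subtype.ext (MulEquiv.ext fun z => ?_))⟩
    show ((((κ : M.autGroup D) : MulAut D)) ^ p ^ k) z = z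
    set κ' := ((κ : M.autGroup D) : MulAut D)
    have hd : ((z⁻¹ * κ' z : D) : Ω) ∈ Q := κ.2.2 z
    have hpow : ∀ j : ℕ, (κ' ^ j) z = z * (z⁻¹ * κ' z) ^ j := by
      intro j
      induction j with
      | zero => simp
      | succ j ih =>
        rw [pow_succ', MulAut.mul_apply, ih, map_mul, map_pow, κ.2.1 _ hd, pow_succ', ← mul_assoc]
        group
    haveI := finite_of_le hQn.1
    have h1 : (⟨_, hd⟩ : Q) ^ p ^ k = 1 := hk ▸ pow_card_eq_one'
    have h2 : (z⁻¹ * κ' z) ^ p ^ k = 1 := Subtype.ext (by simpa using congrArg Subtype.val h1)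
    rw [hpow, h2, mul_one]
  -- `ψ` commutes with the action of `N` up to inner maps
  have haQ : ∀ h : Ω, ∀ hh : h ∈ N, ((a ⟨h, hh.1⟩ : T) : Ω) ∈ normalizerIn S Q := by
    intro h hh
    refine ⟨hTS.1 (a _).2, ?_⟩
    rw [← hRQ]
    exact (apply_mem_normalizerIn ((mem_autGroup_iff F hTS.1).mp ha) hR.1 rfl ⟨h, hh.1⟩ hh.2).2
  have hnorm : ∀ h ∈ N, ∀ z : ↥(R ⊔ C), h * (z : Ω) * h⁻¹ ∈ R ⊔ C := by
    intro h hh z
    refine apply_mem_of_sup (conjHom (R ⊔ C) h) (fun x => Subgroup.mem_sup_left (S := R) ?_)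
      (fun x => Subgroup.mem_sup_right (T := C) ?_) z
    · exact mem_normalizer_conj hh.2 x.2
    · show h * (x : Ω) * h⁻¹ ∈ C
      rw [x.2.2 h hh.1, mul_inv_cancel_right]
      exact x.2
  have hext : ∀ h (hh : h ∈ N), ω' ⟨h, Subgroup.mem_sup_left hh⟩ ∈
      extender (normalizerIn S Q) X₁ ρ := by
    intro h hh
    set b : Ω := ((a ⟨h, hh.1⟩ : T) : Ω) with hb
    have hbN : b ∈ normalizerIn S Q := haQ h hh
    set f₁ := ψ.comp ((conjHom (R ⊔ C) h).codRestrict (R ⊔ C) (hnorm h hh)) with hf₁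
    have hf₁F : f₁ ∈ F.Hom (R ⊔ C) :=
      F.comp_mem (F.conj_mem (hRC.trans (dom_le hω'F)) (hTS.1 hh.1)) hψ (hnorm h hh)
    obtain ⟨ι, hι, hιr, hιx, hιy⟩ := exists_inverse hψ hψr
    have hm : ∀ y, ι y ∈ R ⊔ C := fun y => hιr.le ⟨y, rfl⟩
    have hm2 : ∀ y, (f₁.comp (ι.codRestrict _ hm)) y ∈ D := fun y => hψD _
    set κ₀ := (conjHom D b⁻¹).comp ((f₁.comp (ι.codRestrict _ hm)).codRestrict D hm2) with hκ₀
    have hκ₀F : κ₀ ∈ F.Hom D := F.comp_mem (F.comp_mem hι hf₁F hm)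
      (F.conj_mem (hDN.trans (normalizerIn_le S Q)) (S.inv_mem hbN.1)) hm2
    have hκ₀D : ∀ y, κ₀ y ∈ D := fun y =>
      mem_normalizer_conj (hDnorm _ (Subgroup.inv_mem _ hbN)) (hψD _)
    have hval : ∀ (z : ↥(R ⊔ C)), κ₀ ⟨ψ z, hψD z⟩ =
        b⁻¹ * ψ ⟨h * (z : Ω) * h⁻¹, hnorm h hh z⟩ * b⁻¹⁻¹ := by
      intro z
      show b⁻¹ * ψ _ * b⁻¹⁻¹ = _
      refine congrArg (fun v => b⁻¹ * v * b⁻¹⁻¹) (congrArg ψ (Subtype.ext ?_))
      show h * ι _ * h⁻¹ = _
      rw [hιx z (hψD z)]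
    have hfix : ∀ y : D, (y : Ω) ∈ Q → κ₀ y = y := by
      intro y hy
      obtain ⟨x, hx⟩ := hgr.ge hy
      have hxh : h * (x : Ω) * h⁻¹ ∈ R := mem_normalizer_conj hh.2 x.2
      have e : y = ⟨ψ (Subgroup.inclusion le_sup_left x), hψD _⟩ :=
        Subtype.ext ((hψx x).trans hx).symm
      have e2 : ψ ⟨h * (x : Ω) * h⁻¹, hnorm h hh (Subgroup.inclusion le_sup_left x)⟩ =
          b * g x * b⁻¹ := by
        refine (congrArg ψ (Subtype.ext rfl)).trans ((hψx ⟨_, hxh⟩).trans ?_)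
        show ((a ⟨h * x * h⁻¹, hR.1 hxh⟩ : T) : Ω) = b * ((a ⟨x, hR.1 x.2⟩ : T) : Ω) * b⁻¹
        rw [show (⟨h * x * h⁻¹, hR.1 hxh⟩ : T) = ⟨h, hh.1⟩ * ⟨x, hR.1 x.2⟩ * ⟨h, hh.1⟩⁻¹ from rfl,
          map_mul, map_mul, map_inv]
        rfl
      rw [e, hval]
      show b⁻¹ * ψ ⟨h * (x : Ω) * h⁻¹, hnorm h hh (Subgroup.inclusion le_sup_left x)⟩ * b⁻¹⁻¹ = ψ _
      rw [e2, hψx]
      group
    haveI := finite_of_le (hDN.trans (normalizerIn_le S Q))
    obtain ⟨κ, hκ, hκx⟩ := exists_aut_of_hom' F hκ₀F hκ₀D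
    have hκM : κ ∈ M.autGroup D := by
      refine (mem_autGroup_iff M hDN).mpr ?_
      rw [hMh]
      refine ⟨(mem_autGroup_iff F (hDN.trans (normalizerIn_le S Q))).mp hκ, hDN,
        fun y => hDN (κ y).2, κ₀.comp (Subgroup.inclusion (sup_le le_rfl le_sup_left)),
        restrict_mem hκ₀F _, fun y => (hκx y).symm, 1, Subgroup.one_mem _, fun q => ?_⟩
      exact hfix ⟨q, Subgroup.mem_sup_left q.2⟩ q.2
    have hκK : (⟨κ, hκM⟩ : M.autGroup D) ∈ K := by
      refine ⟨fun y hy => Subtype.ext ((hκx y).trans (hfix y hy)), ?_⟩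
      let V : Subgroup D :=
        { carrier := {y | (y : Ω)⁻¹ * ((κ y : D) : Ω) ∈ Q}
          one_mem' := by simp
          mul_mem' := fun {y z} hy hz => by
            show ((y * z : D) : Ω)⁻¹ * ((κ (y * z) : D) : Ω) ∈ Q
            have h1 : (z : Ω)⁻¹ * ((y : Ω)⁻¹ * ((κ y : D) : Ω)) * (z : Ω) ∈ Q := by
              have := mem_normalizer_conj (inv_mem (hDN z.2).2) hy
              simpa using this
            have := Q.mul_mem h1 hz
            simpa [mul_assoc] using this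
          inv_mem' := fun {y} hy => by
            show ((y⁻¹ : D) : Ω)⁻¹ * ((κ y⁻¹ : D) : Ω) ∈ Q
            have := mem_normalizer_conj (hDN y.2).2 (Q.inv_mem hy)
            simpa [mul_assoc] using this }
      have hVQ : ∀ y : D, (y : Ω) ∈ Q → y ∈ V := fun y hy => by
        show (y : Ω)⁻¹ * ((κ y : D) : Ω) ∈ Q
        rw [hκx, hfix y hy, inv_mul_cancel]
        exact Q.one_mem
      have hle : D ≤ V.map D.subtype := by
        refine sup_le (fun q hq => ⟨⟨q, Subgroup.mem_sup_left hq⟩, hVQ _ hq, rfl⟩) fun c hc => ?_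
        obtain ⟨x, hx⟩ := hψc ⟨c, hc⟩
        have hgx : g x ∈ Q := hgr.le ⟨x, rfl⟩
        have hw : (⟨ψ (Subgroup.inclusion le_sup_right ⟨c, hc⟩), hψD _⟩ : D) ∈ V := by
          show (ψ _)⁻¹ * ((κ _ : D) : Ω) ∈ Q
          rw [hκx, hval]
          have e : (⟨h * c * h⁻¹, hnorm h hh (Subgroup.inclusion le_sup_right ⟨c, hc⟩)⟩ : ↥(R ⊔ C)) =
              Subgroup.inclusion le_sup_right ⟨c, hc⟩ :=
            Subtype.ext (show h * c * h⁻¹ = c by rw [hc.2 h hh.1, mul_inv_cancel_right])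
          show (ψ _)⁻¹ * (b⁻¹ * ψ ⟨h * c * h⁻¹, _⟩ * b⁻¹⁻¹) ∈ Q
          rw [e]
          have hψc' : ψ (Subgroup.inclusion le_sup_right ⟨c, hc⟩) = c * g x := by
            rw [hx, mul_inv_cancel_left]
          have hbc : b * c = c * b := hc.2 b (a _).2
          have h1 := Q.mul_mem (Q.inv_mem hgx)
            (mem_normalizer_conj (Subgroup.inv_mem _ hbN.2) hgx)
          have h2 : b⁻¹ * c = c * b⁻¹ := (Commute.inv_left hbc).eq
          rw [hψc', show b⁻¹ * (c * g x) * b⁻¹⁻¹ = c * (b⁻¹ * g x * b⁻¹⁻¹) by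
            rw [← mul_assoc, h2]; group]
          simpa [mul_assoc] using h1
        have he : (⟨c, Subgroup.mem_sup_right hc⟩ : D) =
            ⟨ψ (Subgroup.inclusion le_sup_right ⟨c, hc⟩), hψD _⟩ * ⟨g x, Subgroup.mem_sup_left hgx⟩⁻¹ :=
          Subtype.ext (by simp [hx])
        exact ⟨_, he ▸ V.mul_mem hw (V.inv_mem (hVQ _ hgx)), rfl⟩
      intro y
      obtain ⟨v, hv, hvy⟩ := hle y.2
      rwa [show v = y from Subtype.ext hvy] at hv
    have hmem := hKp.le_sylow_of_normal R₀ hκK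
    rw [hR₀] at hmem
    obtain ⟨s, hs, hsx⟩ := mem_autInducedBy_iff.mp hmem
    refine mem_extender_iff.mpr ⟨hω'N _, ?_, b * s, Subgroup.mul_mem _ hbN hs, fun w hw => ?_⟩
    · refine Subgroup.mem_normalizer_iff.mpr fun y => ⟨?_, ?_⟩
      · rintro ⟨z, rfl⟩
        refine ⟨⟨h * z * h⁻¹, hnorm h hh z⟩, ?_⟩
        show ω' _ = ω' _ * ω' _ * (ω' _)⁻¹
        rw [← map_inv, ← map_mul, ← map_mul]
        rfl
      · rintro ⟨z, hz⟩
        refine ⟨⟨h⁻¹ * z * h⁻¹⁻¹, hnorm h⁻¹ (N.inv_mem hh) z⟩, ?_⟩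
        have hz' : ω' ⟨(z : Ω), hRC z.2⟩ =
            ω' ⟨h, Subgroup.mem_sup_left hh⟩ * y * (ω' ⟨h, Subgroup.mem_sup_left hh⟩)⁻¹ := hz
        show ω' ⟨h⁻¹ * (z : Ω) * h⁻¹⁻¹, _⟩ = y
        rw [show (⟨h⁻¹ * (z : Ω) * h⁻¹⁻¹, hRC (hnorm h⁻¹ (N.inv_mem hh) z)⟩ : ↥(N ⊔ C)) =
          ⟨h, Subgroup.mem_sup_left hh⟩⁻¹ * ⟨z, hRC z.2⟩ * ⟨h, Subgroup.mem_sup_left hh⟩⁻¹⁻¹ from rfl,
          map_mul, map_mul]
        simp only [map_inv, hz']
        group
    · obtain ⟨z, hz⟩ := w.2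
      have h1 : θ ⟨_, hw⟩ = h * (z : Ω) * h⁻¹ := by
        refine Eq.trans (congrArg θ (Subtype.ext ?_))
          (hθx ⟨h * z * h⁻¹, hnorm h hh z⟩ ⟨_, rfl⟩)
        show ω' _ * (w : Ω) * (ω' _)⁻¹ = ω' _
        rw [← hz]
        show ω' _ * ω' _ * (ω' _)⁻¹ = _
        rw [← map_inv, ← map_mul, ← map_mul]
        rfl
      have h2 : θ w = (z : Ω) := by
        refine Eq.trans (congrArg θ (Subtype.ext ?_)) (hθx z ⟨_, rfl⟩)
        exact hz.symm
      have h3 : ρ ⟨_, hw⟩ = ψ ⟨h * (z : Ω) * h⁻¹, hnorm h hh z⟩ := congrArg ψ (Subtype.ext h1)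
      have h4 : ρ w = ψ z := congrArg ψ (Subtype.ext h2)
      rw [h3, h4]
      have h5 : κ₀ ⟨ψ z, hψD z⟩ = s * ψ z * s⁻¹ := (hκx _).symm.trans (hsx _)
      rw [hval] at h5
      calc ψ ⟨h * (z : Ω) * h⁻¹, hnorm h hh z⟩
          = b * (b⁻¹ * ψ ⟨h * (z : Ω) * h⁻¹, hnorm h hh z⟩ * b⁻¹⁻¹) * b⁻¹ := by group
        _ = _ := by rw [h5]; group
  have hallext : ∀ z, ω' z ∈ extender (normalizerIn S Q) X₁ ρ :=
    apply_mem_of_sup ω' (fun x => hext x x.2) (fun c => le_extender hρM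
      ⟨Subgroup.inclusion le_sup_right c, rfl⟩)
  have hΨF : Ψ ∈ F.Hom (extender (normalizerIn S Q) X₁ ρ) := ((hMh _) ▸ hΨ).1
  set ψh := Ψ.comp (ω'.codRestrict _ hallext) with hψh
  have hψhF : ψh ∈ F.Hom (N ⊔ C) := F.comp_mem hω'F hΨF hallext
  have hagree : ∀ z : ↥(R ⊔ C), ψh (Subgroup.inclusion hRC z) = ψ z := fun z => by
    refine (hΨx (ω'' z) ⟨z, rfl⟩ (hallext _)).trans (congrArg ψ (Subtype.ext ?_))
    exact hθx z ⟨z, rfl⟩
  set φ := ψh.comp (Subgroup.inclusion (le_sup_left : N ≤ N ⊔ C)) with hφ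
  have hφF : φ ∈ F.Hom N := restrict_mem hψhF _
  have hφR : ∀ (x : Ω) (hx : x ∈ R) (hN : x ∈ N), φ ⟨x, hN⟩ = ((a ⟨x, hR.1 hx⟩ : T) : Ω) :=
    fun x hx hN => (hagree (Subgroup.inclusion le_sup_left ⟨x, hx⟩)).trans (hψx ⟨x, hx⟩)
  have hmap : (R.subgroupOf N).map φ = Q := by
    rw [← hgr]
    exact map_subgroupOf_of_extends hRN fun x hx hN => hφR x hx hN
  have hφm : φ.range ≤ normalizerIn T Q := by
    rintro _ ⟨x, rfl⟩
    exact ⟨hTS.2 N hNT φ hφF x, (apply_mem_normalizerIn hφF hRN hmap x x.2.2).2⟩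
  haveI := finite_of_le (normalizerIn_le T Q)
  have hφr : φ.range = normalizerIn T Q := by
    refine Subgroup.eq_of_le_of_card_ge hφm ?_
    rw [card_range_eq (F.injective_of_mem hφF)]
    refine card_le_of_maps_to (ψ := T.subtype.comp ((a⁻¹ : MulAut T)).toMonoidHom)
      (fun x y hxy => (a⁻¹ : MulAut T).injective (Subtype.ext hxy)) (normalizerIn_le T Q) hNT
      fun x hx => ?_
    have haF : T.subtype.comp ((a⁻¹ : MulAut T)).toMonoidHom ∈ F.Hom T :=
      (mem_autGroup_iff F hTS.1).mp (Subgroup.inv_mem _ ha)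
    refine ⟨((a⁻¹ : MulAut T) x).2, (apply_mem_normalizerIn haF hQ.1 ?_ x hx.2).2⟩
    rw [← hRQ]
    ext y
    constructor
    · rintro ⟨w, hw, rfl⟩
      obtain ⟨v, hv, hvw⟩ := hw
      have : (w : T) = a v := Subtype.ext hvw.symm
      show ((a⁻¹ w : T) : Ω) ∈ R
      rw [this, MulAut.inv_apply_self]
      exact hv
    · intro hy
      refine ⟨a ⟨y, hR.1 hy⟩, ⟨⟨y, hR.1 hy⟩, hy, rfl⟩, ?_⟩
      show ((a⁻¹ (a ⟨y, hR.1 hy⟩) : T) : Ω) = y
      rw [MulAut.inv_apply_self]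
  refine ⟨φ, ⟨ψh, hψhF, fun _ => rfl, fun c => ?_⟩, hφr, hφR⟩
  obtain ⟨x, hx⟩ := hψc c
  refine ⟨⟨x, hRN x.2⟩, ?_⟩
  rw [hφR x x.2]
  refine hx.trans (congrArg (fun v => (c : Ω)⁻¹ * v) ?_)
  exact (hagree (Subgroup.inclusion le_sup_right c)).symm

/-- An element of `Aut_E(T)` with a good restriction to a centric subgroup is good. -/
theorem mem_goodAut_of_restrict {Q : Subgroup Ω} (hQ : E.IsCentric Q) {a : E.autGroup T}
    (hg : GoodExt F T Q ((T.subtype.comp (a : MulAut T).toMonoidHom).comp (Subgroup.inclusion hQ.1))) :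
    a ∈ goodAut hS hF hE.2.1 E := by
  have hTS := hE.2.1
  haveI := finite_autGroup E (le_refl T)
  haveI := goodAut_normal hS hF hE
  suffices H : ∀ (n : ℕ) (Q : Subgroup Ω), Nat.card T - Nat.card Q = n → ∀ (hQ : E.IsCentric Q)
      (a : E.autGroup T),
      GoodExt F T Q ((T.subtype.comp (a : MulAut T).toMonoidHom).comp (Subgroup.inclusion hQ.1)) →
      a ∈ goodAut hS hF hE.2.1 E from H _ Q rfl hQ a hg
  intro n
  induction n using Nat.strong_induction_on with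
  | _ n ih =>
  -- subgroups fully normalized in `F`
  have hfn : ∀ (Q : Subgroup Ω), Nat.card T - Nat.card Q = n → F.IsFullyNormalized Q →
      ∀ (hQ : E.IsCentric Q) (a : E.autGroup T),
      GoodExt F T Q ((T.subtype.comp (a : MulAut T).toMonoidHom).comp (Subgroup.inclusion hQ.1)) →
      a ∈ goodAut hS hF hE.2.1 E := by
    intro Q hn hQn hQ a hg
    rcases hQ.1.eq_or_lt with rfl | hlt
    · exact hg.congr fun _ => rfl
    rw [← inv_mem_iff]
    set b : MulAut T := ((a⁻¹ : E.autGroup T) : MulAut T) with hb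
    have hbF : b ∈ F.autGroup T := autGroup_mono hE.1 T (a⁻¹).2
    set R := ((T.subtype.comp (a : MulAut T).toMonoidHom).comp (Subgroup.inclusion hQ.1)).range
      with hR
    have hgF := hg.mem
    have hRc : E.IsCentric R := isCentric_of_hom_invariant hE hQ hgF
    have hbx : ∀ x : T, b ((a : MulAut T) x) = x := fun x => by simp [hb]
    have hRQ : (R.subgroupOf T).map (T.subtype.comp b.toMonoidHom) = Q := by
      ext y
      constructor
      · rintro ⟨w, ⟨x, hx⟩, rfl⟩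
        show ((b w : T) : Ω) ∈ Q
        rw [show w = (a : MulAut T) ⟨x, hQ.1 x.2⟩ from Subtype.ext hx.symm, hbx]
        exact x.2
      · intro hy
        refine ⟨(a : MulAut T) ⟨y, hQ.1 hy⟩, ⟨⟨y, hy⟩, rfl⟩, ?_⟩
        show ((b _ : T) : Ω) = y
        rw [hbx]
    have hgb : GoodExt F T R ((T.subtype.comp b.toMonoidHom).comp (Subgroup.inclusion hRc.1)) :=
      hg.inv rfl fun x hx => congrArg Subtype.val (hbx ⟨x, hQ.1 x.2⟩)
    set N := normalizerIn T R with hN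
    obtain ⟨φ, hφ, hφr, hφR⟩ := exists_goodExt_step hS hF hT hEs hE hQ hQn hbF hRc hRQ hgb
    have hNT : N ≤ T := normalizerIn_le T R
    haveI := finite_of_le hNT
    have hRN : R ≤ N := le_normalizerIn hRc.1
    have hNc : E.IsCentric N := CfsgLib.FusionExamples.isCentric_of_ge hRc hRN hNT
    have hφF := hφ.mem
    have hbF' := (mem_autGroup_iff F hTS.1).mp hbF
    set bN := (T.subtype.comp b.toMonoidHom).comp (Subgroup.inclusion hNT) with hbN
    have hbNF : bN ∈ F.Hom N := restrict_mem hbF' hNT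
    have hbNr : ∀ x, bN x ∈ φ.range := fun x => by
      rw [hφr]
      exact ⟨(b _).2, (apply_mem_normalizerIn hbF' hRc.1 hRQ ⟨x, hNT x.2⟩ x.2.2).2⟩
    obtain ⟨θ, hθ, hθr, hθx, hθy⟩ := exists_inverse hφF rfl
    let f : N →* N := (θ.comp (bN.codRestrict _ hbNr)).codRestrict N fun x => hθr.le ⟨_, rfl⟩
    have hfx : ∀ x : N, φ (f x) = ((b ⟨x, hNT x.2⟩ : T) : Ω) := fun x =>
      hθy ⟨bN x, hbNr x⟩ (f x).2
    have hf : Function.Bijective f := by
      refine Function.Injective.bijective_of_finite fun x y hxy => ?_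
      have h1 := hfx x
      rw [hxy, hfx y] at h1
      have h2 : (⟨y, hNT y.2⟩ : T) = ⟨x, hNT x.2⟩ := b.injective (Subtype.ext h1)
      exact Subtype.ext (congrArg Subtype.val h2).symm
    let ε : MulAut N := MulEquiv.ofBijective f hf
    have hfix : ∀ x : N, (x : Ω) ∈ R → ε x = x := fun x hx =>
      F.injective_of_mem hφF ((hfx x).trans (hφR x hx x.2).symm)
    obtain ⟨k, hk⟩ := exists_pow_dvd_of_fixes_centric hT hRN le_rfl
      (hRc.2 R (isConj_refl E hRc.1)) hfix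
    have hiter : ∀ i : ℕ, ∃ χ : N →* Ω, GoodExt F T N χ ∧ ∀ x : N,
        χ ((ε ^ i) x) = (((b ^ i) ⟨x, hNT x.2⟩ : T) : Ω) := by
      intro i
      induction i with
      | zero => exact ⟨_, GoodExt.incl (hNT.trans hTS.1), fun x => by simp⟩
      | succ i ihi =>
        obtain ⟨χ, hχ, hχx⟩ := ihi
        obtain ⟨χ', hχ', hχ'x⟩ := hχ.transport hS hF hTS hNT hbF
        have hrange : φ.range = (N.subgroupOf T).map (T.subtype.comp b.toMonoidHom) := by
          ext y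
          constructor
          · rintro ⟨x, rfl⟩
            obtain ⟨w, rfl⟩ := ε.surjective x
            exact ⟨⟨w, hNT w.2⟩, w.2, (hfx w).symm⟩
          · rintro ⟨w, hw, rfl⟩
            exact ⟨f ⟨w, hw⟩, hfx ⟨w, hw⟩⟩
        have hm : ∀ x, φ x ∈ (N.subgroupOf T).map (T.subtype.comp b.toMonoidHom) := fun x =>
          hrange.le ⟨x, rfl⟩
        refine ⟨χ'.comp (φ.codRestrict _ hm), hφ.comp hrange hχ' hm fun _ => rfl, fun x => ?_⟩
        set y := (ε ^ i) x with hy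
        have e1 : (ε ^ (i + 1)) x = f y := by rw [pow_succ', MulAut.mul_apply]; rfl
        rw [e1]
        have hχT : χ y ∈ T := by rw [hy, hχx]; exact Subtype.mem _
        refine Eq.trans (congrArg χ' (Subtype.ext ?_))
          ((hχ'x y hχT ⟨⟨y, hNT y.2⟩, y.2, rfl⟩).trans ?_)
        · exact hfx y
        · rw [pow_succ', MulAut.mul_apply]
          exact congrArg (fun v : T => ((b v : T) : Ω)) (Subtype.ext (hχx x))
    obtain ⟨χ, hχ, hχx⟩ := hiter (p ^ k)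
    rw [hk] at hχx
    have hlt' : Nat.card T - Nat.card N < n := by
      have hRlt : R < T := by
        refine lt_of_le_of_ne hRc.1 fun h => ?_
        have h1 := card_range_eq (F.injective_of_mem hgF)
        rw [← hR, h] at h1
        exact hlt.ne (Subgroup.eq_of_le_of_card_ge hQ.1 h1.le)
      have h1 := card_lt_card hNT (CfsgLib.FusionSub.lt_normalizerIn hT hRlt)
      have h2 := Subgroup.card_le_of_le (K := T) hNT
      have h3 := card_range_eq (F.injective_of_mem hgF)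
      rw [← hR] at h3
      omega
    have hmem := ih _ hlt' N rfl hNc (a⁻¹ ^ p ^ k) (hχ.congr fun x => by
      show ((((a⁻¹ ^ p ^ k : E.autGroup T) : MulAut T) ⟨x, hNT x.2⟩ : T) : Ω) = χ x
      rw [SubmonoidClass.coe_pow]
      exact (hχx x).symm)
    exact mem_of_pow_prime_mem (not_dvd_index_goodAut hS hF hT hEs hE) hmem
  intro Q hn hQ a hg
  obtain ⟨Q'', hQQ, hQ''⟩ := exists_isFullyNormalized F (hQ.1.trans hTS.1)
  obtain ⟨φ, hφ, hφr⟩ := hQQ
  obtain ⟨a₀, ha₀, φ₀, hφ₀, hφa⟩ := hE.2.2.2 Q hQ.1 φ hφ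
  obtain ⟨_, c, -, z, hz, hzc⟩ := exists_cl hT hEs (MonoidHom.id _) hφ₀
  set d : MulAut T := a₀ * (c : MulAut T) with hd
  have hdF : d ∈ F.autGroup T := mul_mem ha₀ (autGroup_mono hE.1 T c.2)
  have hφd : ∀ x : Q, φ x = ((d ⟨z x, apply_mem hz.mem x⟩ : T) : Ω) := fun x => by
    rw [hφa x (apply_mem hφ₀ x), hd, MulAut.mul_apply]
    exact congrArg (fun v : T => ((a₀ v : T) : Ω)) (Subtype.ext (hzc x (apply_mem hz.mem x)))
  -- move to the image of `z`
  have hzgood : GoodExt F T Q z :=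
    (GoodExt.of_gen hS hF hT hEs hE hz le_rfl hQ).congr fun _ => rfl
  have hQ1 : E.IsCentric z.range := isCentric_of_hom_invariant hE hQ (hE.1 _ hz.mem)
  set A := ((T.subtype.comp (a : MulAut T).toMonoidHom).comp (Subgroup.inclusion hQ.1)) with hA
  have hAQ : A.range = (Q.subgroupOf T).map (T.subtype.comp (a : MulAut T).toMonoidHom) :=
    range_comp_inclusion _ _
  obtain ⟨χ, hχ, hχx⟩ := Gen.transport_invariant hE (autGroup_mono hE.1 T a.2) hz
  have hχc : E.IsCentric ((Q.subgroupOf T).map (T.subtype.comp (a : MulAut T).toMonoidHom)) :=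
    hAQ ▸ isCentric_of_hom_invariant hE hQ hg.mem
  have hχgood : GoodExt F T _ χ :=
    (GoodExt.of_gen hS hF hT hEs hE hχ le_rfl hχc).congr fun _ => rfl
  obtain ⟨θ, -, hθr, hθx, -⟩ := exists_inverse hz.mem rfl
  have hθgood : GoodExt F T z.range θ := hzgood.inv rfl hθx
  have h1 : GoodExt F T Q (χ.comp (A.codRestrict _ fun x => hAQ.le ⟨x, rfl⟩)) :=
    hg.comp hAQ hχgood (fun x => hAQ.le ⟨x, rfl⟩) fun _ => rfl
  have h2 : GoodExt F T z.range
      ((T.subtype.comp (a : MulAut T).toMonoidHom).comp (Subgroup.inclusion hQ1.1)) := by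
    refine hθgood.comp hθr h1 (fun y => hθr.le ⟨y, rfl⟩) ?_
    rintro ⟨_, x, rfl⟩
    refine Eq.trans (hχx x (hQ.1 x.2) (apply_mem hz.mem x)
      ⟨⟨x, hQ.1 x.2⟩, x.2, rfl⟩).symm ?_
    refine congrArg χ (Subtype.ext ?_)
    show (((a : MulAut T) ⟨x, hQ.1 x.2⟩ : T) : Ω) = (((a : MulAut T) ⟨θ ⟨z x, _⟩, _⟩ : T) : Ω)
    exact congrArg (fun v : T => (((a : MulAut T) v : T) : Ω)) (Subtype.ext (hθx x _).symm)
  -- move to `Q''`
  have hQd : Q'' = (z.range.subgroupOf T).map (T.subtype.comp d.toMonoidHom) := by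
    rw [← hφr]
    ext y
    constructor
    · rintro ⟨x, rfl⟩
      exact ⟨⟨z x, apply_mem hz.mem x⟩, ⟨x, rfl⟩, (hφd x).symm⟩
    · rintro ⟨w, ⟨x, hx⟩, rfl⟩
      refine ⟨x, (hφd x).trans ?_⟩
      exact congrArg (fun v : T => ((d v : T) : Ω)) (Subtype.ext hx)
  have hQ''c : E.IsCentric Q'' := hφr ▸ isCentric_of_hom_invariant hE hQ hφ
  set a' : E.autGroup T :=
    ⟨d * (a : MulAut T) * d⁻¹, conj_mem_autGroup_of_isInvariantIn hE le_rfl hdF a.2⟩ with ha'
  have hn'' : Nat.card T - Nat.card Q'' = n := by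
    rw [← hφr, card_range_eq (F.injective_of_mem hφ), hn]
  have hmem := hfn Q'' hn'' hQ'' hQ''c a' (goodExt_conj hS hF hE hdF hQ1.1 hQd hQ''c.1 h2)
  have hmap : T = (T.subgroupOf T).map (T.subtype.comp (d⁻¹ : MulAut T).toMonoidHom) := by
    ext y
    refine ⟨fun hy => ⟨d ⟨y, hy⟩, (d ⟨y, hy⟩).2, ?_⟩, fun ⟨x, _, hx⟩ => hx ▸ Subtype.mem _⟩
    show ((d⁻¹ (d ⟨y, hy⟩) : T) : Ω) = y
    rw [MulAut.inv_apply_self]
  refine (goodExt_conj hS hF hE (a := (a' : MulAut T)) (Subgroup.inv_mem _ hdF) le_rfl hmap le_rfl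
    (hmem.congr fun _ => rfl)).congr fun x => ?_
  show (((a : MulAut T) x : T) : Ω) = (((d⁻¹ * (d * (a : MulAut T) * d⁻¹) * d⁻¹⁻¹) x : T) : Ω)
  rw [show d⁻¹ * (d * (a : MulAut T) * d⁻¹) * d⁻¹⁻¹ = (a : MulAut T) by group]

/-- `h0 E` is normalized by `Aut_F(T)`. -/
theorem conj_mem_h0 {α : MulAut T} (hα : α ∈ F.autGroup T) {a : E.autGroup T} (ha : a ∈ h0 E p) :
    ⟨α * (a : MulAut T) * α⁻¹, conj_mem_autGroup_of_isInvariantIn hE le_rfl hα a.2⟩ ∈ h0 E p := by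
  let c : E.autGroup T →* E.autGroup T :=
    { toFun := fun a => ⟨α * (a : MulAut T) * α⁻¹,
        conj_mem_autGroup_of_isInvariantIn hE le_rfl hα a.2⟩
      map_one' := Subtype.ext (by simp)
      map_mul' := fun a b => Subtype.ext (by simp [mul_assoc]) }
  suffices h : h0 E p ≤ (h0 E p).comap c from h ha
  refine (Subgroup.closure_le _).mpr ?_
  rintro b ⟨Q, hQ, hb⟩
  obtain ⟨χ, hχ, hχx⟩ := Gen.transport_invariant hE hα hb
  have hαF := restrict_mem ((mem_autGroup_iff F hE.2.1.1).mp hα) hQ.1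
  have hc : E.IsCentric ((Q.subgroupOf T).map (T.subtype.comp α.toMonoidHom)) := by
    have := isCentric_of_hom_invariant hE hQ hαF
    rwa [range_comp_inclusion] at this
  refine Subgroup.subset_closure ⟨_, hc, hχ.congr ?_⟩
  rintro ⟨_, ⟨x, hxT⟩, hxQ, rfl⟩
  refine Eq.trans ?_ (hχx ⟨x, hxQ⟩ hxT (Subtype.mem _) ⟨⟨x, hxT⟩, hxQ, rfl⟩).symm
  show (((α * (b : MulAut T) * α⁻¹) (α ⟨x, hxT⟩) : T) : Ω) = _
  simp only [MulAut.mul_apply, MulAut.inv_apply_self]
  rfl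

/-- The `p'`-residual of a weakly normal subsystem is normal. -/
theorem pPrimeResidual_isNormalIn {D : FusionSystem T} (hD : E.IsPPrimeResidual p D) :
    D.IsNormalIn F p := by
  have hTS := hE.2.1
  haveI := h0_normal (F := E) (p := p)
  set π := QuotientGroup.mk' (h0 E p) with hπd
  have hπ : h0 E p ≤ π.ker := (QuotientGroup.ker_mk' _).ge
  have hDh : ∀ {P : Subgroup Ω} {φ : P →* Ω}, φ ∈ D.Hom P ↔ Cl π p P φ 1 := by
    intro P φ
    refine ⟨fun h => hD.2.2 (classSystem π hT) (classSystem_isSaturated hT hEs hπ)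
      (classSystem_index hT hEs) P h, ?_⟩
    rintro ⟨a, ha, z, hz, hza⟩
    obtain ⟨hgen, hh0⟩ := gen_le_of_index hT hEs hD.1 hD.2.1
    exact comp_mem_apply (hgen hz) ((mem_autGroup_iff D le_rfl).mp
      (hh0 a ((QuotientGroup.eq_one_iff a).mp ha))) (apply_mem hz.mem) fun x => hza x _
  refine ⟨⟨hD.1, hF, fun P φ h => hE.1 P (hD.2.1.1 P h), hTS, ?_, ?_⟩, ?_⟩
  · -- invariance
    intro P hPT φ hφ α hα
    obtain ⟨a, ha, z, hz, hza⟩ := hDh.mp hφ
    obtain ⟨χ, hχ, hχx⟩ := Gen.transport_invariant hE hα hz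
    set a' : E.autGroup T := ⟨α * (a : MulAut T) * α⁻¹,
      conj_mem_autGroup_of_isInvariantIn hE le_rfl hα a.2⟩ with ha'
    have ha'0 : π a' = 1 := (QuotientGroup.eq_one_iff a').mpr
      (conj_mem_h0 hS hF hT hEs hE hα ((QuotientGroup.eq_one_iff a).mp ha))
    set χ' := (T.subtype.comp (a' : MulAut T).toMonoidHom).comp
      (χ.codRestrict T fun y => apply_mem hχ.mem y) with hχ'
    refine ⟨χ', hDh.mpr ⟨a', ha'0, χ, hχ, fun y hy => rfl⟩, fun x hφx hαx => ?_⟩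
    have h1 := hχx x (hPT x.2) (apply_mem hz.mem x) hαx
    show (((a' : MulAut T) ⟨χ ⟨_, hαx⟩, _⟩ : T) : Ω) = _
    refine Eq.trans (congrArg (fun v : T => (((a' : MulAut T) v : T) : Ω))
      (Subtype.ext h1 : (⟨χ ⟨_, hαx⟩, apply_mem hχ.mem _⟩ : T) = α ⟨z x, apply_mem hz.mem x⟩)) ?_
    show (((α * (a : MulAut T) * α⁻¹) (α ⟨z x, apply_mem hz.mem x⟩) : T) : Ω) = _
    simp only [MulAut.mul_apply, MulAut.inv_apply_self]
    exact congrArg (fun v : T => ((α v : T) : Ω)) (Subtype.ext (hza x (apply_mem hz.mem x)).symm)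
  · -- Frattini
    intro P hPT φ hφ
    obtain ⟨α, hα, φ₀, hφ₀, hφx⟩ := hE.2.2.2 P hPT φ hφ
    obtain ⟨_, c, -, z, hz, hzc⟩ := exists_cl hT hEs π hφ₀
    refine ⟨α * (c : MulAut T), mul_mem hα (autGroup_mono hE.1 T c.2), z,
      hDh.mpr (Cl.of_gen hz), fun x hx => ?_⟩
    rw [hφx x (apply_mem hφ₀ x), MulAut.mul_apply]
    exact congrArg (fun v : T => ((α v : T) : Ω)) (Subtype.ext (hzc x hx))
  · -- extension
    intro α hα
    obtain ⟨a, ha, z, hz, hza⟩ := hDh.mp ((mem_autGroup_iff D le_rfl).mp hα)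
    have hgood : GoodExt F T T (T.subtype.comp α.toMonoidHom) := by
      have h0le : h0 E p ≤ goodAut hS hF hTS E := by
        refine (Subgroup.closure_le _).mpr ?_
        rintro b ⟨Q, hQ, hb⟩
        exact mem_goodAut_of_restrict hS hF hT hEs hE hQ
          ((GoodExt.of_gen hS hF hT hEs hE hb le_rfl hQ).congr fun _ => rfl)
      have hzg : GoodExt F T T z :=
        (GoodExt.of_gen hS hF hT hEs hE hz le_rfl (isCentric_top E)).congr fun _ => rfl
      have hzr : z.range = T := eq_self_of_isConj ⟨z, hz.mem, rfl⟩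
      exact hzg.comp hzr (h0le ((QuotientGroup.eq_one_iff a).mp ha)) (apply_mem hz.mem)
        fun x => hza x _
    obtain ⟨ψ, hψ, hψx, hψc⟩ := hgood
    haveI := finite_of_le (sup_le hTS.1 (centralizerIn_le S T))
    have hrange : (T.subtype.comp α.toMonoidHom).range = T := range_subtype_comp_aut α
    obtain ⟨β, hβ, hβx⟩ := exists_aut_of_hom' F hψ fun y => by
      have := mem_sup_of_good hψx hψc y
      rwa [hrange] at this
    refine ⟨β, hβ, fun x => (hβx _).trans (hψx x), fun c hc => ?_⟩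
    rw [hβx]
    have hd : (c : Ω)⁻¹ * ψ c ∈ T := by
      have := hψc ⟨c, hc⟩
      rw [hrange] at this
      exact this
    refine ⟨hd, fun t ht => ?_⟩
    obtain ⟨u, hu⟩ := hrange.ge ht
    have h1 : t * c = c * t := hc.2 t ht
    have h2 : t * ψ c = ψ c * t := by
      rw [← hu, ← hψx, ← map_mul, ← map_mul]
      exact congrArg ψ (Subtype.ext (hc.2 _ u.2))
    have h3 : t * (c : Ω)⁻¹ = (c : Ω)⁻¹ * t := (Commute.inv_right h1).eq
    rw [← mul_assoc, h3, mul_assoc, h2, mul_assoc]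

end CfsgLib.Alperin
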