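import Cfsg.Agent.Lib.Alperin.EssentialSeries
import Cfsg.Agent.Lib.TwoGroups.Taussky
import Cfsg.Agent.Lib.PGroups.Frattini
import Cfsg.Agent.Lib.PGroups.ClassTwo

/-!
Nonabelian groups of order `p ^ 4` without a characteristic series with cyclic steps.
-/

set_option autoImplicit false
set_option linter.style.haveILetI false
set_option linter.unusedSectionVars false
set_option linter.deprecated false

open scoped commutatorElement

namespace CfsgLib.Alperin

open Subgroup

variable {P : Type*} [Group P] [Finite P] {p : ℕ} [Fact p.Prime]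

/-- A nonabelian `p`-group has centre of index at least `p ^ 2`. -/
theorem sq_dvd_index_center (hP : IsPGroup p P) (hab : ¬ IsMulCommutative P) :
    p ^ 2 ∣ (center P).index := by
  have hp : p.Prime := Fact.out
  obtain ⟨j, hj⟩ := (hP.to_quotient (center P)).exists_card_eq
  have hj2 : 2 ≤ j := by
    by_contra hlt
    apply hab
    haveI : IsCyclic (P ⧸ center P) := by
      rcases Nat.le_one_iff_eq_zero_or_eq_one.mp (show j ≤ 1 by omega) with rfl | rfl
      · haveI : Subsingleton (P ⧸ center P) :=
          (Nat.card_eq_one_iff_unique.mp (by simpa using hj)).1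
        infer_instance
      · exact isCyclic_of_prime_card (p := p) (by simpa using hj)
    exact ⟨⟨commutative_of_cyclic_center_quotient (QuotientGroup.mk' (center P))
      (QuotientGroup.ker_mk' _).le⟩⟩
  exact (show (center P).index = p ^ j from hj) ▸ pow_dvd_pow p hj2

/-- With a centre of index `p ^ 2`, commutators and `p`-th powers are central. -/
theorem central_of_index_sq (hP : IsPGroup p P) (hab : ¬ IsMulCommutative P)
    (hZi : (center P).index = p ^ 2) :
    (∀ x y : P, ⁅x, y⁆ ∈ center P) ∧ ∀ x : P, x ^ p ∈ center P := by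
  have hp : p.Prime := Fact.out
  have hQ : ∀ a b : P ⧸ center P, a * b = b * a := IsPGroup.commutative_of_card_eq_prime_sq hZi
  refine ⟨fun x y => ?_, fun x => ?_⟩
  · rw [← QuotientGroup.eq_one_iff]
    show QuotientGroup.mk' _ ⁅x, y⁆ = 1
    rw [map_commutatorElement]
    exact commutatorElement_eq_one_iff_mul_comm.mpr (hQ _ _)
  · rw [← QuotientGroup.eq_one_iff, QuotientGroup.mk_pow]
    by_contra hx
    apply hab
    haveI : IsCyclic (P ⧸ center P) := by
      refine isCyclic_of_orderOf_eq_card (x : P ⧸ center P) ?_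
      obtain ⟨k, hk2, hk⟩ := (Nat.dvd_prime_pow hp).mp
        ((orderOf_dvd_natCard (x : P ⧸ center P)).trans (dvd_of_eq hZi))
      have hk' : ¬ k < 2 := fun h => hx (orderOf_dvd_iff_pow_eq_one.mp
        (hk ▸ (pow_dvd_pow p (by omega : k ≤ 1)).trans (pow_one p).dvd))
      rw [hk, show k = 2 by omega]
      exact hZi.symm
    exact ⟨⟨commutative_of_cyclic_center_quotient (QuotientGroup.mk' (center P))
      (QuotientGroup.ker_mk' _).le⟩⟩

/-- A nonabelian group of order `p ^ 3` has centre of order `p` and is extraspecial. -/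
theorem extraspecial_of_card_cube (hP : IsPGroup p P) (hab : ¬ IsMulCommutative P)
    (hcard : Nat.card P = p ^ 3) : Nat.card (center P) = p ∧ Cfsg.IsExtraspecial p P := by
  have hp : p.Prime := Fact.out
  haveI : Nontrivial P := by
    rw [← Finite.one_lt_card_iff_nontrivial, hcard]
    exact Nat.one_lt_pow (by norm_num) hp.one_lt
  haveI := hP.center_nontrivial
  obtain ⟨k, hk⟩ := (hP.to_subgroup (center P)).exists_card_eq
  have hk0 : k ≠ 0 := fun h0 =>
    (Finite.one_lt_card (α := center P)).ne' (by rw [hk, h0, pow_zero])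
  have h := (center P).card_mul_index
  obtain ⟨j, hj⟩ := (hP.to_quotient (center P)).exists_card_eq
  have hj' : (center P).index = p ^ j := hj
  have hj2 : 2 ≤ j := (Nat.pow_dvd_pow_iff_le_right hp.one_lt).mp (hj' ▸ sq_dvd_index_center hP hab)
  rw [hcard, hk, hj', ← pow_add] at h
  have := Nat.pow_right_injective hp.two_le h
  obtain rfl : k = 1 := by omega
  obtain rfl : j = 2 := by omega
  rw [pow_one] at hk
  obtain ⟨hcomm, hpow⟩ := central_of_index_sq hP hab hj'
  have hcc : commutator P = center P := by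
    have hle : commutator P ≤ center P := by
      rw [commutator_def, Subgroup.commutator_le]
      exact fun x _ y _ => hcomm x y
    refine eq_of_le_of_card_ge hle ?_
    have hne : commutator P ≠ ⊥ := fun h => hab ⟨⟨fun a b =>
      commutatorElement_eq_one_iff_mul_comm.mp (mem_bot.mp (h.le
        (commutator_mem_commutator (mem_top a) (mem_top b))))⟩⟩
    obtain ⟨l, hl⟩ := (hP.to_subgroup (commutator P)).exists_card_eq
    rw [hk, hl]
    exact Nat.le_of_dvd (pow_pos hp.pos l) (dvd_pow_self p fun h0 =>
      hne (card_eq_one.mp (by rw [hl, h0, pow_zero])))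
  refine ⟨hk, ⟨hP, le_antisymm (PGroups.frattini_le_of hcc.le hpow) ?_, hcc⟩, hk⟩
  rw [← hcc]
  exact PGroups.commutator_le_frattini hP

/-- Invariance under all automorphisms. -/
def AutInvariant (W : Subgroup P) : Prop := ∀ α : MulAut P, ∀ y ∈ W, α y ∈ W

theorem autInvariant_of_characteristic (W : Subgroup P) [h : W.Characteristic] : AutInvariant W :=
  fun α y hy => (characteristic_iff_map_le.mp h α) ⟨y, hy, rfl⟩

theorem AutInvariant.normal {W : Subgroup P} (h : AutInvariant W) : W.Normal :=
  ⟨fun n hn g => h (MulAut.conj g) n hn⟩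

/-- No series with cyclic steps is preserved by all automorphisms. -/
def NoInvariantSeries (P : Type*) [Group P] : Prop :=
  ∀ (m : ℕ) (d : Fin (m + 1) → Subgroup P), CyclicSeries d → ¬ ∀ α : MulAut P, Preserves d α

theorem false_of_chain_four (hbad : NoInvariantSeries P) (hcard : Nat.card P = p ^ 4)
    {A B C : Subgroup P} (hA : AutInvariant A) (hB : AutInvariant B) (hC : AutInvariant C)
    (hAB : A ≤ B) (hBC : B ≤ C) (cA : Nat.card A = p) (cB : Nat.card B = p ^ 2)
    (cC : Nat.card C = p ^ 3) : False := by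
  have hp : p.Prime := Fact.out
  have hrel : ∀ (X Y : Subgroup P) (i : ℕ), X ≤ Y → Nat.card X = p ^ i → Nat.card Y = p ^ (i + 1) →
      X.relIndex Y = p := by
    intro X Y i hXY hX hY
    have h := card_mul_index (X.subgroupOf Y)
    rw [Nat.card_congr (subgroupOfEquivOfLe hXY).toEquiv, hX, hY, pow_succ] at h
    exact Nat.eq_of_mul_eq_mul_left (pow_pos hp.pos i) h
  refine hbad 4 ![⊥, A, B, C, ⊤] (cyclicSeries_of_relIndex (p := p) rfl rfl (fun i => ?_)
    (fun i => ?_) fun i => ?_) fun α i y hy => ?_
  · fin_cases i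
    · exact bot_le
    · exact hAB
    · exact hBC
    · exact le_top
  · fin_cases i
    · exact (inferInstance : (⊥ : Subgroup P).Normal)
    · exact hA.normal
    · exact hB.normal
    · exact hC.normal
    · exact (inferInstance : (⊤ : Subgroup P).Normal)
  · fin_cases i
    · exact (relIndex_bot_left _).trans cA
    · exact hrel A B 1 hAB (cA.trans (pow_one p).symm) cB
    · exact hrel B C 2 hBC cB cC
    · exact hrel C ⊤ 3 le_top cC (card_top.trans hcard)
  · fin_cases i
    · have hy' : y = 1 := mem_bot.mp hy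
      show α y ∈ (⊥ : Subgroup P)
      rw [hy', map_one]
      exact one_mem _
    · exact hA α y hy
    · exact hB α y hy
    · exact hC α y hy
    · exact mem_top _

/-- Order `p ^ 4` with centre of order `p` has an invariant series. -/
theorem false_of_center_prime (hbad : NoInvariantSeries P) (hP : IsPGroup p P)
    (hab : ¬ IsMulCommutative P) (hcard : Nat.card P = p ^ 4) (hZ : Nat.card (center P) = p) :
    False := by
  have hp : p.Prime := Fact.out
  set Z := center P with hZdef
  have hQc : Nat.card (P ⧸ Z) = p ^ 3 := by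
    have h := Z.card_mul_index
    rw [hZ, hcard, pow_succ'] at h
    exact Nat.eq_of_mul_eq_mul_left hp.pos h
  -- the second centre has order `p ^ 2`
  have hQab : ¬ IsMulCommutative (P ⧸ Z) := by
    intro hQ
    obtain ⟨a, b, hne⟩ : ∃ a b : P, a * b ≠ b * a := by
      by_contra hcon
      push Not at hcon
      exact hab ⟨⟨hcon⟩⟩
    have hc : ∀ x y : P, ⁅x, y⁆ ∈ Z := fun x y => by
      rw [← QuotientGroup.eq_one_iff]
      show QuotientGroup.mk' _ ⁅x, y⁆ = 1
      rw [map_commutatorElement]
      exact commutatorElement_eq_one_iff_mul_comm.mpr (hQ.is_comm.comm _ _)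
    let f : P → P →* Z := fun g => MonoidHom.mk' (fun x => ⟨⁅x, g⁆, hc x g⟩) fun x y => by
      refine Subtype.ext ?_
      show ⁅x * y, g⁆ = ⁅x, g⁆ * ⁅y, g⁆
      have := mem_center_iff.mp (hc y g) x
      rw [show ⁅x * y, g⁆ = x * ⁅y, g⁆ * x⁻¹ * ⁅x, g⁆ by simp only [commutatorElement_def]; group,
        this, mul_inv_cancel_right]
      exact (mem_center_iff.mp (hc y g) _).symm
    let ψ : P →* Z × Z := (f a).prod (f b)
    have hψK : p ^ 2 ≤ Nat.card ψ.ker := by
      have h := ψ.ker.card_mul_index
      rw [index_ker, hcard] at h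
      have hr : Nat.card ψ.range ≤ p ^ 2 := by
        refine (card_le_card_group ψ.range).trans_eq ?_
        rw [Nat.card_prod, hZ, sq]
      have hpos : 0 < Nat.card ψ.range := Nat.card_pos
      nlinarith [Nat.mul_le_mul_left (Nat.card ψ.ker) hr, pow_pos hp.pos 2]
    obtain ⟨c, hc', hcZ⟩ : ∃ c ∈ ψ.ker, c ∉ Z := by
      by_contra hcon
      push Not at hcon
      have hle := card_le_of_le (show ψ.ker ≤ Z from hcon)
      rw [hZ] at hle
      have := hψK.trans hle
      have h2 : p ^ 2 ≤ p ^ 1 := by rwa [pow_one]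
      have := (Nat.pow_le_pow_iff_right hp.one_lt).mp h2
      omega
    apply hcZ
    have hca : c * a = a * c := commutatorElement_eq_one_iff_mul_comm.mp
      (congrArg (fun z : Z × Z => (z.1 : P)) (MonoidHom.mem_ker.mp hc'))
    have hcb : c * b = b * c := commutatorElement_eq_one_iff_mul_comm.mp
      (congrArg (fun z : Z × Z => (z.2 : P)) (MonoidHom.mem_ker.mp hc'))
    -- `C(c)` contains `a`, `b` and the kernel, so is everything
    set Cc := centralizer ({c} : Set P) with hCc
    have hZC : Z ≤ Cc := fun z hz => mem_centralizer_singleton_iff.mpr (mem_center_iff.mp hz c).symm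
    have haC : a ∈ Cc := mem_centralizer_singleton_iff.mpr hca.symm
    have hbC : b ∈ Cc := mem_centralizer_singleton_iff.mpr hcb.symm
    have hcC : c ∈ Cc := mem_centralizer_singleton_iff.mpr rfl
    have hgen : ⁅a, b⁆ ≠ 1 := fun h => hne (commutatorElement_eq_one_iff_mul_comm.mp h)
    have hzgen : ∀ z : Z, ∃ n : ℤ, ⁅a, b⁆ ^ n = (z : P) := by
      intro z
      have htop : zpowers (⟨⁅a, b⁆, hc a b⟩ : Z) = ⊤ :=
        zpowers_eq_top_of_prime_card hZ fun h => hgen (congrArg Subtype.val h)
      obtain ⟨n, hn⟩ := mem_zpowers_iff.mp (htop.ge (mem_top z))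
      exact ⟨n, congrArg Subtype.val hn⟩
    have hKc : ψ.ker ≤ Cc ∨ ∃ d ∈ ψ.ker, d * c ≠ c * d := by
      by_cases h : ψ.ker ≤ Cc
      · exact Or.inl h
      · obtain ⟨d, hd, hdC⟩ := SetLike.not_le_iff_exists.mp h
        exact Or.inr ⟨d, hd, fun h' => hdC (mem_centralizer_singleton_iff.mpr h')⟩
    have hfa : ∀ x : P, ((ψ x).1 : P) = ⁅x, a⁆ := fun x => rfl
    have hfb : ∀ x : P, ((ψ x).2 : P) = ⁅x, b⁆ := fun x => rfl
    have hdec : ∀ x : P, ∃ w ∈ Cc, w⁻¹ * x ∈ ψ.ker := by
      intro x
      obtain ⟨i, hi⟩ := hzgen (ψ x).2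
      obtain ⟨j, hj⟩ := hzgen ((ψ x).1)⁻¹
      refine ⟨a ^ i * b ^ j, mul_mem (zpow_mem haC i) (zpow_mem hbC j), ?_⟩
      rw [MonoidHom.mem_ker, map_mul, map_inv, inv_mul_eq_one, map_mul, map_zpow, map_zpow]
      refine Prod.ext (Subtype.ext ?_) (Subtype.ext ?_)
      · simp only [Prod.fst_mul, Prod.pow_fst, Subgroup.coe_mul, SubgroupClass.coe_zpow, hfa]
        rw [commutatorElement_self, one_zpow, one_mul, ← commutatorElement_inv a b, inv_zpow, hj,
          Subgroup.coe_inv, inv_inv, hfa x]
      · simp only [Prod.snd_mul, Prod.pow_snd, Subgroup.coe_mul, SubgroupClass.coe_zpow, hfb]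
        rw [commutatorElement_self, one_zpow, mul_one, hi, ← hfb x]
    rcases hKc with hK | ⟨d, hd, hdc⟩
    · refine mem_center_iff.mpr fun x => ?_
      obtain ⟨w, hw, hwx⟩ := hdec x
      have := mul_mem hw (hK hwx)
      rw [mul_inv_cancel_left] at this
      exact mem_centralizer_singleton_iff.mp this
    · -- the kernel is abelian when it has order `p ^ 2`
      exfalso
      have hKcard : Nat.card ψ.ker = p ^ 2 := by
        have h := ψ.ker.card_mul_index
        rw [index_ker, hcard] at h
        have hsurj : ψ.range = ⊤ := by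
          rw [eq_top_iff]
          rintro ⟨u, v⟩ -
          obtain ⟨i, hi⟩ := hzgen v
          obtain ⟨j, hj⟩ := hzgen u⁻¹
          refine ⟨a ^ i * b ^ j, ?_⟩
          rw [map_mul, map_zpow, map_zpow]
          refine Prod.ext (Subtype.ext ?_) (Subtype.ext ?_)
          · simp only [Prod.fst_mul, Prod.pow_fst, Subgroup.coe_mul, SubgroupClass.coe_zpow, hfa]
            rw [commutatorElement_self, one_zpow, one_mul, ← commutatorElement_inv a b, inv_zpow, hj,
              Subgroup.coe_inv, inv_inv]
          · simp only [Prod.snd_mul, Prod.pow_snd, Subgroup.coe_mul, SubgroupClass.coe_zpow, hfb]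
            rw [commutatorElement_self, one_zpow, mul_one, hi]
        rw [hsurj, card_top, Nat.card_prod, hZ, show p ^ 4 = p ^ 2 * (p * p) by ring] at h
        exact Nat.eq_of_mul_eq_mul_right (Nat.mul_pos hp.pos hp.pos) h
      exact hdc (congrArg Subtype.val
        (IsPGroup.commutative_of_card_eq_prime_sq hKcard ⟨d, hd⟩ ⟨c, hc'⟩))
  have hQZ := (extraspecial_of_card_cube (hP.to_quotient Z) hQab hQc).1
  let Z2 : Subgroup P := (center (P ⧸ Z)).comap (QuotientGroup.mk' Z)
  have hZZ2 : Z ≤ Z2 := fun z hz => by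
    show QuotientGroup.mk' Z z ∈ center (P ⧸ Z)
    rw [show QuotientGroup.mk' Z z = 1 from (QuotientGroup.eq_one_iff z).mpr hz]
    exact one_mem _
  have hZ2c : Nat.card Z2 = p ^ 2 := by
    have h2 : (center (P ⧸ Z)).index = p ^ 2 := by
      have h := (center (P ⧸ Z)).card_mul_index
      rw [hQZ, hQc, pow_succ'] at h
      exact Nat.eq_of_mul_eq_mul_left hp.pos h
    have h1 : Z2.index = p ^ 2 := by
      rw [← h2]
      exact index_comap_of_surjective _ (QuotientGroup.mk'_surjective Z)
    have h := Z2.card_mul_index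
    rw [h1, hcard, show p ^ 4 = p ^ 2 * p ^ 2 by ring] at h
    exact Nat.eq_of_mul_eq_mul_right (pow_pos hp.pos 2) h
  have hZinv : AutInvariant Z := autInvariant_of_characteristic (center P)
  have hmem2 : ∀ y : P, y ∈ Z2 ↔ ∀ g : P, ⁅y, g⁆ ∈ Z := by
    intro y
    show QuotientGroup.mk' Z y ∈ center (P ⧸ Z) ↔ _
    rw [mem_center_iff]
    constructor
    · intro h g
      rw [← QuotientGroup.eq_one_iff]
      show QuotientGroup.mk' _ ⁅y, g⁆ = 1
      rw [map_commutatorElement]
      exact commutatorElement_eq_one_iff_mul_comm.mpr (h _).symm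
    · intro h q
      obtain ⟨g, rfl⟩ := QuotientGroup.mk'_surjective Z q
      refine (commutatorElement_eq_one_iff_mul_comm.mp ?_).symm
      rw [← map_commutatorElement]
      exact (QuotientGroup.eq_one_iff _).mpr (h g)
  have hZ2inv : AutInvariant Z2 := by
    intro α y hy
    rw [hmem2] at hy ⊢
    intro g
    have := hZinv α _ (hy (α⁻¹ g))
    rwa [map_commutatorElement, MulAut.apply_inv_self] at this
  set C := centralizer (Z2 : Set P) with hC
  have hCinv : AutInvariant C := by
    intro α y hy z hz
    have h := congrArg α (hy _ (hZ2inv α⁻¹ z hz))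
    rwa [map_mul, map_mul, MulAut.apply_inv_self] at h
  have hZ2C : Z2 ≤ C := fun x hx z hz => congrArg Subtype.val
    (IsPGroup.commutative_of_card_eq_prime_sq hZ2c ⟨z, hz⟩ ⟨x, hx⟩)
  have hZlt : Z < Z2 := lt_of_le_of_ne hZZ2 fun h => by
    rw [← h, hZ] at hZ2c
    have := Nat.pow_right_injective hp.two_le ((pow_one p).trans hZ2c)
    omega
  obtain ⟨z, hz, hzZ⟩ := SetLike.exists_of_lt hZlt
  have hCz : C = centralizer ({z} : Set P) := by
    refine le_antisymm (fun x hx => mem_centralizer_singleton_iff.mpr (hx z hz).symm) ?_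
    have hsup : Z ⊔ zpowers z = Z2 := by
      refine eq_of_le_of_card_ge (sup_le hZZ2 (zpowers_le.mpr hz)) ?_
      obtain ⟨j, hj⟩ := (hP.to_subgroup (Z ⊔ zpowers z)).exists_card_eq
      rw [hZ2c, hj]
      refine Nat.pow_le_pow_right hp.pos ?_
      by_contra hlt
      have hle : Nat.card (Z ⊔ zpowers z : Subgroup P) ≤ Nat.card Z := by
        rw [hj, hZ]
        exact (Nat.pow_le_pow_right hp.pos (by omega : j ≤ 1)).trans_eq (pow_one p)
      exact hzZ ((eq_of_le_of_card_ge le_sup_left hle).ge (mem_sup_right (mem_zpowers z)))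
    intro x hx w hw
    rw [SetLike.mem_coe, ← hsup, mem_sup_of_normal_left] at hw
    obtain ⟨u, hu, v, ⟨n, rfl⟩, rfl⟩ := hw
    have h1 : Commute x z := mem_centralizer_singleton_iff.mp hx
    exact ((Commute.mul_right (mem_center_iff.mp hu x) (h1.zpow_right n))).symm
  have hCtop : C ≠ ⊤ := fun h => hzZ (mem_center_iff.mpr fun x =>
    ((h.ge (mem_top x) : x ∈ C) z hz).symm)
  have hCi : C.index ≤ p := by
    let f : P →* Z := MonoidHom.mk' (fun x => ⟨⁅z, x⁆, (hmem2 z).mp hz x⟩) fun x y => by
      refine Subtype.ext ?_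
      show ⁅z, x * y⁆ = ⁅z, x⁆ * ⁅z, y⁆
      have := mem_center_iff.mp ((hmem2 z).mp hz y) x
      rw [show ⁅z, x * y⁆ = ⁅z, x⁆ * (x * ⁅z, y⁆ * x⁻¹) by simp only [commutatorElement_def]; group,
        this, mul_inv_cancel_right]
    have hfk : f.ker = C := by
      rw [hCz]
      ext x
      rw [MonoidHom.mem_ker, mem_centralizer_singleton_iff]
      exact ⟨fun h => (commutatorElement_eq_one_iff_mul_comm.mp (congrArg Subtype.val h)).symm,
        fun h => Subtype.ext (commutatorElement_eq_one_iff_mul_comm.mpr h.symm)⟩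
    rw [← hfk, index_ker]
    exact (card_le_card_group f.range).trans_eq hZ
  refine false_of_chain_four hbad hcard hZinv hZ2inv hCinv hZZ2 hZ2C hZ hZ2c ?_
  have hi : C.index = p := by
    obtain ⟨j, -, hj⟩ := (Nat.dvd_prime_pow hp).mp (hcard ▸ C.index_dvd_card)
    rw [hj] at hCi ⊢
    have hj1 : j ≠ 0 := fun h => hCtop (index_eq_one.mp (by rw [hj, h, pow_zero]))
    have : p ^ j ≤ p ^ 1 := by rwa [pow_one]
    have := (Nat.pow_le_pow_iff_right hp.one_lt).mp this
    rw [show j = 1 by omega, pow_one]
  have h := C.card_mul_index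
  rw [hi, hcard, pow_succ p 3] at h
  exact Nat.eq_of_mul_eq_mul_right hp.pos h

/-- The classification of nonabelian groups of order `p ^ 4` without an invariant series. -/
theorem cases_of_noInvariantSeries (hbad : NoInvariantSeries P) (hP : IsPGroup p P)
    (hab : ¬ IsMulCommutative P) (hcard : Nat.card P = p ^ 4) :
    (Nat.card (center P) = p ^ 2 ∧ ∀ x : P, x ^ p ^ 2 = 1) ∧
      (IsCyclic (center P) ∨ ∃ (M : Subgroup P) (c : P), orderOf c = p ∧ c ∈ center P ∧
        Nat.card M = p ^ 3 ∧ c ∉ M ∧ ¬ IsMulCommutative M ∧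
        ((Odd p ∧ ∀ x : P, x ^ p = 1) ∨ (p = 2 ∧ Nonempty (M ≃* QuaternionGroup 2)))) := by
  classical
  have hp : p.Prime := Fact.out
  haveI : Nontrivial P := by
    rw [← Finite.one_lt_card_iff_nontrivial, hcard]
    exact Nat.one_lt_pow (by norm_num) hp.one_lt
  haveI := hP.center_nontrivial
  have hZ2 : Nat.card (center P) = p ^ 2 := by
    obtain ⟨k, hk⟩ := (hP.to_subgroup (center P)).exists_card_eq
    have hk0 : k ≠ 0 := fun h0 =>
      (Finite.one_lt_card (α := center P)).ne' (by rw [hk, h0, pow_zero])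
    obtain ⟨j, hj⟩ := (hP.to_quotient (center P)).exists_card_eq
    have hj' : (center P).index = p ^ j := hj
    have hj2 : 2 ≤ j :=
      (Nat.pow_dvd_pow_iff_le_right hp.one_lt).mp (hj' ▸ sq_dvd_index_center hP hab)
    have h := (center P).card_mul_index
    rw [hcard, hk, hj', ← pow_add] at h
    have := Nat.pow_right_injective hp.two_le h
    rcases Nat.lt_or_ge k 2 with hk2 | hk2
    · exact (false_of_center_prime hbad hP hab hcard
        (by rw [hk, show k = 1 by omega, pow_one])).elim
    · rw [hk, show k = 2 by omega]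
  have hZi : (center P).index = p ^ 2 := by
    have h := (center P).card_mul_index
    rw [hZ2, hcard, show p ^ 4 = p ^ 2 * p ^ 2 by ring] at h
    exact Nat.eq_of_mul_eq_mul_left (pow_pos hp.pos 2) h
  obtain ⟨hcomm, hpow⟩ := central_of_index_sq hP hab hZi
  set Z := center P with hZdef
  set D := commutator P with hD
  have hDZ : D ≤ Z := by
    rw [hD, commutator_def, Subgroup.commutator_le]
    exact fun x _ y _ => hcomm x y
  have hcp : ∀ x y : P, ⁅x, y⁆ ^ p = 1 := by
    intro x y
    have key : ∀ n : ℕ, ⁅x ^ n, y⁆ = ⁅x, y⁆ ^ n := by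
      intro n
      induction n with
      | zero => simp
      | succ n ih =>
        rw [pow_succ, show ⁅x ^ n * x, y⁆ = x ^ n * ⁅x, y⁆ * (x ^ n)⁻¹ * ⁅x ^ n, y⁆ by
          simp only [commutatorElement_def]; group, ih,
          mem_center_iff.mp (hcomm x y) (x ^ n), mul_inv_cancel_right, ← pow_succ']
    rw [← key, commutatorElement_eq_one_iff_mul_comm]
    exact (mem_center_iff.mp (hpow x) y).symm
  obtain ⟨a, b, hne⟩ : ∃ a b : P, a * b ≠ b * a := by
    by_contra hcon
    push Not at hcon
    exact hab ⟨⟨hcon⟩⟩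
  -- the derived subgroup has order `p`
  have hDc : Nat.card D = p := by
    have hgen : Z ⊔ zpowers a ⊔ zpowers b = ⊤ := by
      have h1 : Z < Z ⊔ zpowers a := lt_of_le_of_ne le_sup_left fun h =>
        hne (mem_center_iff.mp (h.ge (mem_sup_right (mem_zpowers a)) : a ∈ Z) b).symm
      have h2 : Z ⊔ zpowers a < Z ⊔ zpowers a ⊔ zpowers b := lt_of_le_of_ne le_sup_left fun h => by
        obtain ⟨u, hu, v, ⟨n, rfl⟩, he⟩ :=
          mem_sup_of_normal_left.mp (h.ge (mem_sup_right (mem_zpowers b)))
        apply hne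
        rw [← he]
        exact ((Commute.mul_right (mem_center_iff.mp hu a) ((Commute.refl a).zpow_right n))).eq
      by_contra htop
      have e1 := relIndex_mul_index h1.le
      have e2 := relIndex_mul_index h2.le
      rw [← e2, hZi] at e1
      obtain ⟨i, -, hi⟩ := (Nat.dvd_prime_pow hp).mp (Dvd.intro _ e1)
      obtain ⟨j, -, hj⟩ := (Nat.dvd_prime_pow hp).mp
        ((dvd_mul_right _ (Z ⊔ zpowers a ⊔ zpowers b).index).trans (Dvd.intro_left _ e1))
      obtain ⟨l, -, hl⟩ := (Nat.dvd_prime_pow hp).mp
        ((dvd_mul_left _ ((Z ⊔ zpowers a).relIndex (Z ⊔ zpowers a ⊔ zpowers b))).trans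
          (Dvd.intro_left _ e1))
      rw [hi, hj, hl, ← pow_add, ← pow_add] at e1
      have := Nat.pow_right_injective hp.two_le e1
      have : i ≠ 0 := fun h => h1.not_ge (relIndex_eq_one.mp (by rw [hi, h, pow_zero]))
      have : j ≠ 0 := fun h => h2.not_ge (relIndex_eq_one.mp (by rw [hj, h, pow_zero]))
      have : l ≠ 0 := fun h => htop (index_eq_one.mp (by rw [hl, h, pow_zero]))
      omega
    set K := zpowers ⁅a, b⁆ with hK
    have hKZ : K ≤ Z := zpowers_le.mpr (hcomm a b)
    haveI : K.Normal := ⟨fun n hn g => by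
      rw [mem_center_iff.mp (hKZ hn) g, mul_inv_cancel_right]; exact hn⟩
    have hcom : ∀ x y : P ⧸ K, x * y = y * x := by
      have hgenQ : (⊤ : Subgroup (P ⧸ K)) ≤
          Subgroup.centralizer (QuotientGroup.mk' K '' ({a, b} ∪ (Z : Set P))) := by
        rw [← map_top_of_surjective _ (QuotientGroup.mk'_surjective K), ← hgen, Subgroup.map_sup,
          Subgroup.map_sup]
        have hab' : QuotientGroup.mk' K a * QuotientGroup.mk' K b =
            QuotientGroup.mk' K b * QuotientGroup.mk' K a := by
          rw [← commutatorElement_eq_one_iff_mul_comm, ← map_commutatorElement]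
          exact (QuotientGroup.eq_one_iff _).mpr (mem_zpowers _)
        have hZc : ∀ z ∈ Z, ∀ g : P,
            QuotientGroup.mk' K z * QuotientGroup.mk' K g = QuotientGroup.mk' K g * QuotientGroup.mk' K z :=
          fun z hz g => by rw [← map_mul, ← map_mul, mem_center_iff.mp hz g]
        refine sup_le (sup_le ?_ ?_) ?_
        · rintro _ ⟨z, hz, rfl⟩ _ ⟨g, -, rfl⟩
          exact (hZc z hz g).symm
        · rw [MonoidHom.map_zpowers, zpowers_le]
          rintro _ ⟨g, (rfl | rfl) | hg, rfl⟩
          · rfl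
          · exact hab'.symm
          · exact hZc g hg a
        · rw [MonoidHom.map_zpowers, zpowers_le]
          rintro _ ⟨g, (rfl | rfl) | hg, rfl⟩
          · exact hab'
          · rfl
          · exact hZc g hg b
      have hall : ∀ y : P ⧸ K, y ∈ Subgroup.centralizer (QuotientGroup.mk' K '' ({a, b} ∪ (Z : Set P))) :=
        fun y => hgenQ (mem_top y)
      intro x y
      have : (⊤ : Subgroup (P ⧸ K)) ≤ centralizer ({y} : Set (P ⧸ K)) := by
        rw [← map_top_of_surjective _ (QuotientGroup.mk'_surjective K), ← hgen, Subgroup.map_sup,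
          Subgroup.map_sup]
        refine sup_le (sup_le ?_ ?_) ?_
        · rintro _ ⟨z, hz, rfl⟩
          exact mem_centralizer_singleton_iff.mpr (hall y _ ⟨z, Or.inr hz, rfl⟩)
        · rw [MonoidHom.map_zpowers, zpowers_le]
          exact mem_centralizer_singleton_iff.mpr (hall y _ ⟨a, Or.inl (Or.inl rfl), rfl⟩)
        · rw [MonoidHom.map_zpowers, zpowers_le]
          exact mem_centralizer_singleton_iff.mpr (hall y _ ⟨b, Or.inl (Or.inr rfl), rfl⟩)
      exact mem_centralizer_singleton_iff.mp (this (mem_top x))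
    have hDK : D ≤ K := by
      rw [hD, commutator_def, Subgroup.commutator_le]
      intro x _ y _
      rw [← QuotientGroup.eq_one_iff]
      show QuotientGroup.mk' K ⁅x, y⁆ = 1
      rw [map_commutatorElement]
      exact commutatorElement_eq_one_iff_mul_comm.mpr (hcom _ _)
    have hKc : Nat.card K = p := by
      rw [hK, Nat.card_zpowers]
      exact orderOf_eq_prime (hcp a b) fun h => hne (commutatorElement_eq_one_iff_mul_comm.mp h)
    refine le_antisymm ((card_le_of_le hDK).trans_eq hKc) (hKc.ge.trans (card_le_of_le ?_))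
    rw [hK, zpowers_le]
    exact commutator_mem_commutator (mem_top a) (mem_top b)
  have hDinv : AutInvariant D := autInvariant_of_characteristic (commutator P)
  have hZinv : AutInvariant Z := autInvariant_of_characteristic (center P)
  have hkeyW : ∀ W : Subgroup P, AutInvariant W → Z ≤ W → Nat.card W = p ^ 3 → False :=
    fun W hW hZW hWc => false_of_chain_four hbad hcard hDinv hZinv hW hDZ hZW hDc hZ2 hWc
  have hzD : ∀ z ∈ Z, z ^ p ∈ D := by
    intro z hz
    set D' := D.subgroupOf Z
    have hi : D'.index = p := by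
      have h := D'.card_mul_index
      rw [Nat.card_congr (subgroupOfEquivOfLe hDZ).toEquiv, hDc, hZ2, sq] at h
      exact Nat.eq_of_mul_eq_mul_left hp.pos h
    have h1 : (⟨z, hz⟩ : Z) ^ p ∈ D' := by
      haveI : D'.Normal := ⟨fun n hn g => by
        have : g * n * g⁻¹ = n := Subtype.ext (by
          show (g : P) * (n : P) * (g : P)⁻¹ = n
          rw [mem_center_iff.mp n.2 g, mul_inv_cancel_right])
        exact this.symm ▸ hn⟩
      have hq := pow_card_eq_one' (x := ((⟨z, hz⟩ : Z) : Z ⧸ D'))
      rw [show Nat.card (Z ⧸ D') = p from hi, ← QuotientGroup.mk_pow] at hq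
      exact (QuotientGroup.eq_one_iff _).mp hq
    exact h1
  -- all `p`-th powers lie in the derived subgroup
  have hpD : ∀ x : P, x ^ p ∈ D := by
    by_contra hcon
    push Not at hcon
    obtain ⟨x₀, hx₀⟩ := hcon
    haveI : D.Normal := hDinv.normal
    have hQc : ∀ u v : P ⧸ D, Commute u v := fun u v => by
      obtain ⟨u, rfl⟩ := QuotientGroup.mk'_surjective D u
      obtain ⟨v, rfl⟩ := QuotientGroup.mk'_surjective D v
      refine commutatorElement_eq_one_iff_mul_comm.mp ?_
      rw [← map_commutatorElement]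
      exact (QuotientGroup.eq_one_iff _).mpr (commutator_mem_commutator (mem_top u) (mem_top v))
    let f : P →* P ⧸ D := MonoidHom.mk' (fun x => (x : P ⧸ D) ^ p) fun u v => by
      rw [QuotientGroup.mk_mul, (hQc _ _).mul_pow]
    have hfr : Nat.card f.range = p := by
      have hle : f.range ≤ Z.map (QuotientGroup.mk' D) := by
        rintro _ ⟨y, rfl⟩
        exact ⟨y ^ p, hpow y, map_pow (QuotientGroup.mk' D) y p⟩
      have hc : Nat.card (Z.map (QuotientGroup.mk' D)) = p := by
        have h1 : (Z.map (QuotientGroup.mk' D)).index = Z.index :=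
          Subgroup.index_map_eq _ (QuotientGroup.mk'_surjective D)
            (by rw [QuotientGroup.ker_mk']; exact hDZ)
        have h := (Z.map (QuotientGroup.mk' D)).card_mul_index
        have h2 := D.card_mul_index
        rw [hDc, hcard, pow_succ'] at h2
        rw [h1, hZi, show Nat.card (P ⧸ D) = p ^ 3 from Nat.eq_of_mul_eq_mul_left hp.pos h2,
          show p ^ 3 = p * p ^ 2 by ring] at h
        exact Nat.eq_of_mul_eq_mul_right (pow_pos hp.pos 2) h
      have hd := card_dvd_of_le hle
      rw [hc] at hd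
      rcases (Nat.dvd_prime hp).mp hd with h | h
      · exfalso
        apply hx₀
        have h2 : f x₀ ∈ f.range := ⟨_, rfl⟩
        rw [card_eq_one.mp h, mem_bot] at h2
        rw [← QuotientGroup.eq_one_iff, QuotientGroup.mk_pow]
        exact h2
      · exact h
    refine hkeyW f.ker (fun α y hy => ?_) (fun z hz => ?_) ?_
    · have hy' : y ^ p ∈ D := by
        rw [← QuotientGroup.eq_one_iff, QuotientGroup.mk_pow]; exact hy
      show (α y : P ⧸ D) ^ p = 1
      rw [← QuotientGroup.mk_pow, QuotientGroup.eq_one_iff, ← map_pow]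
      exact hDinv α _ hy'
    · show (z : P ⧸ D) ^ p = 1
      rw [← QuotientGroup.mk_pow, QuotientGroup.eq_one_iff]
      exact hzD z hz
    · have h := f.ker.card_mul_index
      rw [index_ker, hfr, hcard, pow_succ p 3] at h
      exact Nat.eq_of_mul_eq_mul_right hp.pos h
  have hDp : ∀ d ∈ D, d ^ p = 1 := fun d hd => by
    have := pow_card_eq_one' (x := (⟨d, hd⟩ : D))
    rw [hDc] at this
    exact congrArg Subtype.val this
  refine ⟨⟨hZ2, fun x => by rw [sq, pow_mul]; exact hDp _ (hpD x)⟩, ?_⟩
  by_cases hcyc : IsCyclic Z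
  · exact Or.inl hcyc
  refine Or.inr ?_
  have hZexp : ∀ z ∈ Z, z ^ p = 1 := by
    intro z hz
    by_contra hzp
    apply hcyc
    refine isCyclic_of_orderOf_eq_card (⟨z, hz⟩ : Z) ?_
    obtain ⟨k, hk2, hk⟩ := (Nat.dvd_prime_pow hp).mp
      ((orderOf_dvd_natCard (⟨z, hz⟩ : Z)).trans (dvd_of_eq hZ2))
    have hk' : ¬ k < 2 := fun h => hzp (congrArg (Subtype.val : Z → P) (orderOf_dvd_iff_pow_eq_one.mp
      (hk ▸ (pow_dvd_pow p (by omega : k ≤ 1)).trans (pow_one p).dvd)))
    rw [hk, show k = 2 by omega, hZ2]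
  have hDlt : D < Z := lt_of_le_of_ne hDZ fun h => by
    rw [h, hZ2] at hDc
    have := Nat.pow_right_injective hp.two_le (hDc.trans (pow_one p).symm)
    omega
  obtain ⟨c, hcZ, hcD⟩ := SetLike.exists_of_lt hDlt
  obtain ⟨M, hM, hcM⟩ : ∃ M : Subgroup P, IsCoatom M ∧ c ∉ M := by
    by_contra hcon
    push Not at hcon
    refine hcD (PGroups.frattini_le_of (N := D) le_rfl hpD ?_)
    simp only [frattini, Order.radical, Subgroup.mem_iInf]
    exact hcon
  haveI := TwoGroups.normal_of_isCoatom hP hM
  have hMi := TwoGroups.index_eq_of_isCoatom hP hM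
  have hMc : Nat.card M = p ^ 3 := by
    have h := M.card_mul_index
    rw [hMi, hcard, pow_succ p 3] at h
    exact Nat.eq_of_mul_eq_mul_right hp.pos h
  have hco : orderOf c = p := orderOf_eq_prime (hZexp c hcZ) fun h => hcD (h ▸ one_mem D)
  have hMab : ¬ IsMulCommutative M := by
    intro hMab
    apply hab
    have htop : M ⊔ zpowers c = ⊤ := by
      refine (hM.2 _ (lt_of_le_of_ne le_sup_left fun h => hcM ?_))
      exact h.ge (mem_sup_right (mem_zpowers c))
    refine ⟨⟨fun x y => ?_⟩⟩
    obtain ⟨u, hu, v, ⟨i, rfl⟩, rfl⟩ := mem_sup_of_normal_left.mp (htop.ge (mem_top x))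
    obtain ⟨u', hu', v', ⟨j, rfl⟩, rfl⟩ := mem_sup_of_normal_left.mp (htop.ge (mem_top y))
    have huu : Commute u u' := congrArg Subtype.val (hMab.is_comm.comm ⟨u, hu⟩ ⟨u', hu'⟩)
    have hcc : ∀ g : P, Commute c g := fun g => (mem_center_iff.mp hcZ g).symm
    exact ((huu.mul_right (((hcc u).symm).zpow_right j)).mul_left
      (((hcc u').zpow_left i).mul_right ((Commute.refl c).zpow_zpow i j))).eq
  refine ⟨M, c, hco, hcZ, hMc, hcM, hMab, ?_⟩
  by_cases hp2 : p = 2
  · subst hp2
    refine Or.inr ⟨rfl, ?_⟩
    rcases CfsgLib.TwoGroups.dihedral_or_quaternion_of_card_eight (G := M) (by rw [hMc]; rfl) hMab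
      with ⟨⟨e⟩⟩ | h
    · exfalso
      -- the elements of square `≠ 1` generate a subgroup of order eight
      have hr4 : ∀ g : DihedralGroup 4, g * g ≠ 1 → g = DihedralGroup.r 1 ∨ g = DihedralGroup.r 3 := by
        decide
      have hrc : ∀ g : DihedralGroup 4, (∀ h : DihedralGroup 4, h * g = g * h) →
          g = DihedralGroup.r 0 ∨ g = DihedralGroup.r 2 := by decide
      let W : Subgroup P := closure {x | x * x ≠ 1}
      let m₁ : M := e.symm (DihedralGroup.r 1)
      have htop : M ⊔ zpowers c = ⊤ := hM.2 _ (lt_of_le_of_ne le_sup_left fun h =>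
        hcM (h.ge (mem_sup_right (mem_zpowers c))))
      have hcc : ∀ g : P, Commute c g := fun g => (mem_center_iff.mp hcZ g).symm
      let U : Subgroup M := (zpowers (DihedralGroup.r (1 : ZMod 4))).comap e.toMonoidHom
      have hr : ∀ i : ZMod 4, DihedralGroup.r i ∈ zpowers (DihedralGroup.r (1 : ZMod 4)) :=
        fun i => ⟨(i.val : ℕ), by
          simp only [zpow_natCast, DihedralGroup.r_one_pow, ZMod.natCast_zmod_val]⟩
      have hdecomp : ∀ x : P, ∃ u : M, ∃ i : ℤ, x = (u : P) * c ^ i := fun x => by
        obtain ⟨u, hu, v, ⟨i, rfl⟩, rfl⟩ := mem_sup_of_normal_left.mp (htop.ge (mem_top x))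
        exact ⟨⟨u, hu⟩, i, rfl⟩
      have hsq : ∀ (u : M) (i : ℤ), (u : P) * c ^ i * ((u : P) * c ^ i) = ((u * u : M) : P) := by
        intro u i
        have h2 : c ^ i * c ^ i = 1 := by
          rw [← zpow_add, ← two_mul, zpow_mul, show c ^ (2 : ℤ) = c ^ (2 : ℕ) from zpow_natCast c 2,
            hZexp c hcZ, one_zpow]
        calc (u : P) * c ^ i * ((u : P) * c ^ i) = (u : P) * (c ^ i * (u : P)) * c ^ i := by group
          _ = (u : P) * u * (c ^ i * c ^ i) := by rw [((hcc (u : P)).zpow_left i).eq]; group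
          _ = ((u * u : M) : P) := by rw [h2, mul_one]; rfl
      have hWle : ∀ x ∈ W, ∃ u ∈ U, ∃ i : ℤ, x = (u : P) * c ^ i := by
        intro x hx
        induction hx using closure_induction with
        | mem x hx =>
          obtain ⟨u, i, rfl⟩ := hdecomp x
          refine ⟨u, ?_, i, rfl⟩
          show e u ∈ zpowers (DihedralGroup.r (1 : ZMod 4))
          rcases hr4 (e u) (fun h => hx (by
            rw [hsq, ← map_mul, MulEquiv.map_eq_one_iff] at *
            rw [h]; rfl)) with h | h <;> rw [h] <;> exact hr _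
        | one => exact ⟨1, one_mem _, 0, by simp⟩
        | mul x y _ _ hx hy =>
          obtain ⟨u, hu, i, rfl⟩ := hx
          obtain ⟨v, hv, j, rfl⟩ := hy
          refine ⟨u * v, mul_mem hu hv, i + j, ?_⟩
          rw [Subgroup.coe_mul, zpow_add]
          calc (u : P) * c ^ i * ((v : P) * c ^ j) = (u : P) * (c ^ i * (v : P)) * c ^ j := by group
            _ = (u : P) * v * (c ^ i * c ^ j) := by rw [((hcc (v : P)).zpow_left i).eq]; group
        | inv x _ hx =>
          obtain ⟨u, hu, i, rfl⟩ := hx
          refine ⟨u⁻¹, inv_mem hu, -i, ?_⟩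
          rw [mul_inv_rev, zpow_neg, Subgroup.coe_inv]
          exact (((hcc (u : P)).zpow_left i).inv_inv).eq
      have hm₁ : ∀ (i : ℤ) (u : M), e u = DihedralGroup.r 1 ∨ e u = DihedralGroup.r 3 →
          (u : P) * c ^ i ∈ W := by
        intro i u hu
        refine subset_closure ?_
        show (u : P) * c ^ i * ((u : P) * c ^ i) ≠ 1
        rw [hsq]
        intro h
        have h1 : e u * e u = 1 := by rw [← map_mul, (Subtype.ext h : u * u = 1), map_one]
        rcases hu with h' | h' <;> rw [h'] at h1 <;> exact absurd h1 (by decide)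
      have hUW : ∀ (i : ℤ) (u : M), u ∈ U → (u : P) * c ^ i ∈ W := by
        intro i u hu
        by_cases hu' : e u = DihedralGroup.r 1 ∨ e u = DihedralGroup.r 3
        · exact hm₁ i u hu'
        have hcases : ∀ g : DihedralGroup 4, g = DihedralGroup.r 0 ∨ g = DihedralGroup.r 2 →
            g * DihedralGroup.r 1 = DihedralGroup.r 1 ∨ g * DihedralGroup.r 1 = DihedralGroup.r 3 := by
          decide
        have hu2 : e u = DihedralGroup.r 0 ∨ e u = DihedralGroup.r 2 := by
          obtain ⟨k, hk⟩ := mem_zpowers_iff.mp (show e u ∈ zpowers _ from hu)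
          have key : ∀ i : ZMod 4, ¬ (DihedralGroup.r i = DihedralGroup.r 1 ∨
              DihedralGroup.r i = DihedralGroup.r 3) →
              DihedralGroup.r i = DihedralGroup.r 0 ∨ DihedralGroup.r i = DihedralGroup.r 2 := by
            decide
          rw [DihedralGroup.r_one_zpow] at hk
          rw [← hk] at hu' ⊢
          exact key _ hu'
        have h1 := hm₁ i (u * m₁) (by
          rw [map_mul, MulEquiv.apply_symm_apply]; exact hcases _ hu2)
        have h2 := hm₁ 0 m₁ (Or.inl (MulEquiv.apply_symm_apply _ _))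
        have := mul_mem h1 (inv_mem h2)
        rw [zpow_zero, mul_one, Subgroup.coe_mul] at this
        convert this using 1
        rw [mul_assoc (u : P), ← ((hcc (m₁ : P)).zpow_left i).eq]
        group
      refine hkeyW W (fun α y hy => ?_) (fun z hz => ?_) ?_
      · have hle : W.map α.toMonoidHom ≤ W := by
          rw [MonoidHom.map_closure, closure_le]
          rintro _ ⟨x, hx, rfl⟩
          refine subset_closure fun h => hx ?_
          rw [← map_mul] at h
          exact (MulEquiv.map_eq_one_iff α).mp h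
        exact hle ⟨y, hy, rfl⟩
      · obtain ⟨u, i, rfl⟩ := hdecomp z
        refine hUW i u ?_
        show e u ∈ zpowers (DihedralGroup.r (1 : ZMod 4))
        rcases hrc (e u) (fun h => by
          obtain ⟨w, rfl⟩ := e.surjective h
          rw [← map_mul, ← map_mul]
          refine congrArg e (Subtype.ext ?_)
          show (w : P) * u = u * w
          have h1 := mem_center_iff.mp hz (w : P)
          rw [← mul_assoc, mul_assoc (u : P), ((hcc (w : P)).zpow_left i).eq, ← mul_assoc] at h1
          exact mul_right_cancel h1) with h | h <;> rw [h] <;> exact hr _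
      · let T : Subgroup P := U.map M.subtype ⊔ zpowers c
        have hWT : W = T := by
          refine le_antisymm (fun x hx => ?_) (sup_le ?_ ?_)
          · obtain ⟨u, hu, i, rfl⟩ := hWle x hx
            exact mul_mem (mem_sup_left ⟨u, hu, rfl⟩) (mem_sup_right (zpow_mem (mem_zpowers c) i))
          · rintro _ ⟨u, hu, rfl⟩
            simpa using hUW 0 u hu
          · rw [zpowers_le]
            simpa using hUW 1 1 (one_mem U)
        have hUc : Nat.card (U.map M.subtype) = 4 := by
          rw [card_map_of_injective M.subtype_injective,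
            ← card_map_of_injective (f := e.toMonoidHom) e.injective,
            map_comap_eq_self_of_surjective e.surjective, Nat.card_zpowers,
            DihedralGroup.orderOf_r_one]
        have hdisj : U.map M.subtype ⊓ zpowers c = ⊥ := by
          refine (eq_bot_iff_forall _).mpr fun x hx => ?_
          obtain ⟨⟨u, -, rfl⟩, k, hk⟩ := hx
          by_contra hne'
          have hgen : zpowers (⟨(u : P), k, hk⟩ : zpowers c) = ⊤ :=
            zpowers_eq_top_of_prime_card ((Nat.card_zpowers c).trans hco)
              fun h => hne' (congrArg Subtype.val h)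
          obtain ⟨j, hj⟩ := mem_zpowers_iff.mp (hgen.ge (mem_top ⟨c, mem_zpowers c⟩))
          have h' : (u : P) ^ j = c := congrArg Subtype.val hj
          exact hcM (h' ▸ M.zpow_mem u.2 j)
        haveI : (zpowers c).Normal := ⟨fun n hn g => by
          obtain ⟨k, rfl⟩ := hn
          show g * c ^ k * g⁻¹ ∈ _
          rw [((hcc g).zpow_left k).symm.eq, mul_inv_cancel_right]
          exact zpow_mem (mem_zpowers c) k⟩
        rw [hWT]
        show Nat.card (U.map M.subtype ⊔ zpowers c : Subgroup P) = _
        have h := relIndex_mul_index (le_sup_right : zpowers c ≤ U.map M.subtype ⊔ zpowers c)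
        rw [relIndex_sup_right, ← inf_relIndex_right (zpowers c), inf_comm, hdisj,
          relIndex_bot_left, hUc] at h
        have h1 := (zpowers c).card_mul_index
        rw [Nat.card_zpowers, hco, ← h, hcard] at h1
        have h2 := (U.map M.subtype ⊔ zpowers c).card_mul_index
        rw [hcard] at h2
        have hpos : 0 < (U.map M.subtype ⊔ zpowers c).index := Nat.pos_of_ne_zero index_ne_zero_of_finite
        have h3 : Nat.card (U.map M.subtype ⊔ zpowers c : Subgroup P) *
            (U.map M.subtype ⊔ zpowers c).index = 8 * (U.map M.subtype ⊔ zpowers c).index := by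
          rw [h2, ← h1]; ring
        exact Nat.eq_of_mul_eq_mul_right hpos h3
    · exact h
  · refine Or.inl ⟨hp.odd_of_ne_two hp2, ?_⟩
    by_contra hexp
    push Not at hexp
    obtain ⟨x₀, hx₀⟩ := hexp
    let f : P →* D := MonoidHom.mk' (fun x => ⟨x ^ p, hpD x⟩) (fun x y => by
      refine Subtype.ext ?_
      show (x * y) ^ p = x ^ p * y ^ p
      obtain ⟨t, ht⟩ := CfsgLib.PGroups.dvd_choose_two_of_odd (hp.odd_of_ne_two hp2)
      rw [CfsgLib.PGroups.mul_pow_of_commute (mem_center_iff.mp (hcomm y x) x).symm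
        (mem_center_iff.mp (hcomm y x) y).symm, ht, pow_mul, hcp, one_pow, mul_one])
    refine hkeyW f.ker (fun α y hy => ?_) (fun z hz => Subtype.ext (hZexp z hz)) ?_
    · have hy' : y ^ p = 1 := congrArg Subtype.val hy
      refine Subtype.ext ?_
      show α y ^ p = 1
      rw [← map_pow, hy', map_one]
    · have h := f.ker.card_mul_index
      rw [index_ker, hcard] at h
      have hr : Nat.card f.range = p := by
        rcases (Nat.dvd_prime hp).mp (hDc ▸ card_subgroup_dvd_card f.range) with h' | h'
        · exfalso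
          apply hx₀
          have h2 : f x₀ ∈ f.range := ⟨_, rfl⟩
          rw [card_eq_one.mp h', mem_bot] at h2
          exact congrArg Subtype.val h2
        · exact h'
      rw [hr, pow_succ p 3] at h
      exact Nat.eq_of_mul_eq_mul_right hp.pos h

end CfsgLib.Alperin
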