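import Cfsg.Agent.Lib.Alperin.Theorem
import Cfsg.Agent.Lib.FusionExamples.Hyperfocal

/-!
Saturated subsystems of `p`-power index: generation and comparison.
-/

set_option autoImplicit false
set_option linter.style.haveILetI false

namespace CfsgLib.Alperin

open Cfsg Cfsg.FusionSystem CfsgLib.FusionExamples

theorem sylow_sup_pResidual {A : Type*} [Group A] [Finite A] {p : ℕ} [Fact p.Prime]
    (R : Sylow p A) : (R : Subgroup A) ⊔ pResidual p A = ⊤ := by
  haveI := pResidual_normal p A
  have h3 : IsPGroup p (A ⧸ pResidual p A) := by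
    intro q
    induction q using QuotientGroup.induction_on with
    | _ a =>
      obtain ⟨k, m, hkm, hm⟩ := exists_coprime_power (p := p) a
      exact ⟨k, by
        rw [← QuotientGroup.mk_pow]
        exact (QuotientGroup.eq_one_iff _).mpr (mem_pResidual_of_pow_eq_one hkm hm)⟩
  obtain ⟨k, hk⟩ := IsPGroup.iff_card.mp h3
  set M := (R : Subgroup A) ⊔ pResidual p A
  have h4 : M.index ∣ p ^ k := by
    rw [← hk, ← Subgroup.index_eq_card]
    exact Subgroup.index_dvd_of_le le_sup_right
  have h5 : Nat.Coprime M.index p :=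
    (((Nat.Prime.coprime_iff_not_dvd Fact.out).mpr R.not_dvd_index).symm).coprime_dvd_left
      (Subgroup.index_dvd_of_le le_sup_left)
  exact Subgroup.index_eq_one.mp (Nat.eq_one_of_dvd_coprimes (h5.pow_right k) dvd_rfl h4)

variable {Ω : Type*} [Group Ω] {S T : Subgroup Ω} [Finite S] {p : ℕ} [Fact p.Prime]

/-- At a fully normalized subgroup, `Aut_F(P)` is generated by `Aut_S(P)` and its elements of order
prime to `p`. -/
theorem autGroup_le_of_pPrime {F : FusionSystem S} (hS : IsPGroup p S) (hF : F.IsSaturated p)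
    {P : Subgroup Ω} (hP : F.IsFullyNormalized P) {B : Subgroup (MulAut P)}
    (hsyl : autInducedBy S P ≤ B)
    (hp : ∀ γ ∈ F.autGroup P, (orderOf γ).Coprime p → γ ∈ B) : F.autGroup P ≤ B := by
  haveI := finite_autGroup F hP.1
  obtain ⟨-, R, hR⟩ := (centralized_automized_of_fullyNormalized hS hF hP).2
  intro γ hγ
  have hle : (R : Subgroup (F.autGroup P)) ⊔ pResidual p (F.autGroup P) ≤
      B.subgroupOf (F.autGroup P) := by
    refine sup_le (fun a ha => ?_) ((Subgroup.closure_le _).mpr fun a ha => ?_)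
    · rw [hR] at ha
      exact hsyl ha
    · exact hp a a.2 (by rw [Subgroup.orderOf_coe]; exact ha)
  rw [sylow_sup_pResidual] at hle
  exact hle (Subgroup.mem_top (⟨γ, hγ⟩ : F.autGroup P))

/-- A saturated subsystem lies in every system over the same group that contains the automorphisms
of order prime to `p` of the ambient system. -/
theorem le_of_pPrime_le {F : FusionSystem S} (hT : IsPGroup p T) [Finite T] {E : FusionSystem T}
    (hE : E.IsSaturated p) (hEF : E.IsSubsystemOf F) (hTS : T ≤ S) (D : FusionSystem T)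
    (hD : ∀ P : Subgroup Ω, P ≤ T → ∀ γ ∈ F.autGroup P, (orderOf γ).Coprime p → γ ∈ D.autGroup P) :
    ∀ P : Subgroup Ω, E.Hom P ⊆ D.Hom P := by
  refine alperin_centric_radical hT hE D fun P hP _ _ => ?_
  exact autGroup_le_of_pPrime hT hE hP (autInducedBy_le_autGroup D hP.1) fun γ hγ hc =>
    hD P hP.1 γ ((mem_autGroup_iff F (hP.1.trans hTS)).mpr
      (hEF P ((mem_autGroup_iff E hP.1).mp hγ))) hc

/-- Membership of automorphisms of order prime to `p` in a subsystem of `p`-power index. -/
theorem pPrime_mem_of_hasPPowerIndexIn {F : FusionSystem S} {E : FusionSystem T}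
    (h : E.HasPPowerIndexIn F p) {P : Subgroup Ω} (hP : P ≤ T) {γ : MulAut P}
    (hγ : γ ∈ F.autGroup P) (hc : (orderOf γ).Coprime p) : γ ∈ E.autGroup P :=
  h.2.2 P hP ⟨⟨γ, hγ⟩, Subgroup.subset_closure (by
    show Nat.Coprime (orderOf _) p
    rwa [Subgroup.orderOf_mk]), rfl⟩

/-- Two saturated subsystems of `p`-power index over the same group have the same maps. -/
theorem hom_eq_of_hasPPowerIndexIn {F : FusionSystem S} (hS : IsPGroup p S) (hTS : T ≤ S)
    {E E' : FusionSystem T} (hE : E.IsSaturated p) (hE' : E'.IsSaturated p)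
    (h : E.HasPPowerIndexIn F p) (h' : E'.HasPPowerIndexIn F p) (P : Subgroup Ω) :
    E.Hom P = E'.Hom P := by
  haveI := finite_of_le hTS
  exact Set.Subset.antisymm
    (le_of_pPrime_le (isPGroup_of_le hS hTS) hE h.1 hTS E'
      (fun Q hQ γ hγ hc => pPrime_mem_of_hasPPowerIndexIn h' hQ hγ hc) P)
    (le_of_pPrime_le (isPGroup_of_le hS hTS) hE' h'.1 hTS E
      (fun Q hQ γ hγ hc => pPrime_mem_of_hasPPowerIndexIn h hQ hγ hc) P)

end CfsgLib.Alperin
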