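import Cfsg.Agent.Lib.Alperin.PPrimeStab

/-!
The classes of the identity map of a fully normalized subgroup.
-/

set_option autoImplicit false
set_option linter.style.haveILetI false
set_option linter.unusedSectionVars false

namespace CfsgLib.Alperin

open Cfsg Cfsg.FusionSystem CfsgLib.FusionSub CfsgLib.FusionBasics

variable {Ω : Type*} [Group Ω] {S : Subgroup Ω} [Finite S] {F : FusionSystem S} {p : ℕ} [Fact p.Prime]
variable {Γ : Type*} [Group Γ] {π : F.autGroup S →* Γ} (hS : IsPGroup p S) (hF : F.IsSaturated p)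
include hS hF

/-- The induction hypothesis of the main lemma. -/
def MainAbove (π : F.autGroup S →* Γ) (p : ℕ) (n : ℕ) : Prop :=
  ∀ X : Subgroup Ω, n < Nat.card X → F.IsFullyNormalized X → ∀ c : Γ,
    Cl π p X X.subtype c → FixCl π p X c

/-- `φ` transported to `P` extends to `P C_S(P)` with class the transported class of `c`. -/
def Compares (π : F.autGroup S →* Γ) (p : ℕ) (P A : Subgroup Ω) (φ : A →* Ω) (c : Γ) : Prop :=
  ∀ (ψA : normalizerIn S A →* Ω) (dA : Γ) (ψB : normalizerIn S φ.range →* Ω) (dB : Γ),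
    Cl π p (normalizerIn S A) ψA dA → Cl π p (normalizerIn S φ.range) ψB dB →
    (∀ hA : A ≤ normalizerIn S A, (ψA.comp (Subgroup.inclusion hA)).range = P) →
    (∀ hB : φ.range ≤ normalizerIn S φ.range, (ψB.comp (Subgroup.inclusion hB)).range = P) →
    ∃ δ : ↥(P ⊔ centralizerIn S P) →* Ω, Cl π p _ δ (dB * c * dA⁻¹) ∧
      (∀ z, δ z ∈ P ⊔ centralizerIn S P) ∧
      ∀ (x : A) (h₁ : (x : Ω) ∈ normalizerIn S A) (h₂ : ψA ⟨x, h₁⟩ ∈ P ⊔ centralizerIn S P)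
        (h₃ : φ x ∈ normalizerIn S φ.range), δ ⟨ψA ⟨x, h₁⟩, h₂⟩ = ψB ⟨φ x, h₃⟩

theorem fixCl_of_cl_subtype_lt (hπ : h0 F p ≤ π.ker) {P : Subgroup Ω} (hP : F.IsFullyNormalized P)
    (ih : MainAbove π p (Nat.card P)) {X : Subgroup Ω} (hPX : P < X)
    (hXN : X ≤ normalizerIn S P) {e : Γ} (he : Cl π p X X.subtype e) : FixCl π p P e := by
  obtain ⟨τ, hτ, hτN, hτP, hτc⟩ := exists_fixing_to_fullyCentralized hS hF hP hPX.le hXN
  obtain ⟨y, hy, hτy⟩ := exists_fixCl_of_kHom hS hF hπ hP (W := X) (ρ := τ)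
    ⟨hτ, hXN, hτN, τ.comp (Subgroup.inclusion (sup_le le_rfl hPX.le)), restrict_mem hτ _,
      fun x => rfl, 1, Subgroup.one_mem _, fun q => hτP ⟨(q : Ω), hPX.le q.2⟩ q.2⟩
  set X' := τ.range with hX'
  obtain ⟨θ, hθ, hθr, hθx, hθy⟩ := exists_inverse hτ hX'.symm
  have h1 : Cl π p X' θ y⁻¹ := hτy.inv rfl hθx
  have h2 : Cl π p X' θ (e * y⁻¹) :=
    h1.comp he (fun z => hθr.le ⟨z, rfl⟩) fun _ => rfl
  have h3 : Cl π p X' X'.subtype (y * (e * y⁻¹)) :=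
    h2.comp hτy (fun z => hθr.le ⟨z, rfl⟩) fun z => (hθy z _).symm
  -- pass to a fully normalized conjugate
  obtain ⟨X'', hXX, hX''⟩ := exists_isFullyNormalized F hτc.1
  obtain ⟨η, hη, hηm, hηX⟩ := exists_hom_normalizerIn_of_fullyNormalized hS hF hX'' hXX
  obtain ⟨d, hd⟩ := exists_cl hS hF π hη
  have lX : X' ≤ normalizerIn S X' := le_normalizerIn hτc.1
  set ηX := η.comp (Subgroup.inclusion lX) with hηXdef
  have hηXr : ηX.range = X'' := (range_comp_inclusion η lX).trans hηX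
  obtain ⟨θ', hθ', hθ'r, hθ'x, hθ'y⟩ := exists_inverse (restrict_mem hη lX) hηXr
  have hdX : Cl π p X' ηX d := hd.restrict lX fun _ => rfl
  have h4 : Cl π p X'' θ' (y * (e * y⁻¹) * d⁻¹) :=
    (hdX.inv hηXr hθ'x).comp h3 (fun z => hθ'r.le ⟨z, rfl⟩) fun _ => rfl
  have h5 : Cl π p X'' X''.subtype (d * (y * (e * y⁻¹) * d⁻¹)) :=
    h4.comp hdX (fun z => hθ'r.le ⟨z, rfl⟩) fun z => (hθ'y z _).symm
  have hlt : Nat.card P < Nat.card X'' := by
    rw [IsConj.card_eq hXX, hX', card_range_eq (F.injective_of_mem hτ)]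
    exact card_lt_card (hXN.trans (normalizerIn_le S P)) hPX
  obtain ⟨χ, hχ, hχm, hχfix⟩ := ih X'' hlt hX'' _ h5
  -- pull back to `X' C_S(X')`
  set D := X' ⊔ centralizerIn S X' with hD
  have hDc : F.IsCentric D := isCentric_sup_centralizerIn hτc
  have hDX : D ≤ normalizerIn S X' := sup_centralizerIn_le_normalizerIn hτc.1
  set ηD := η.comp (Subgroup.inclusion hDX) with hηD
  have hηDF : ηD ∈ F.Hom D := restrict_mem hη hDX
  have hX''D : X'' ≤ ηD.range := by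
    rw [← hηXr]
    rintro _ ⟨x, rfl⟩
    exact ⟨Subgroup.inclusion le_sup_left x, rfl⟩
  haveI := finite_of_le (centralizerIn_le S X'')
  have hCD : centralizerIn S X'' ≤ ηD.range := by
    have hle : ((centralizerIn S X').subgroupOf D).map ηD ≤ centralizerIn S X'' := by
      rintro _ ⟨x, hx, rfl⟩
      exact apply_mem_centralizerIn hη lX hηX _ hx.2
    have := Subgroup.eq_of_le_of_card_ge hle (by
      rw [Subgroup.card_map_of_injective (F.injective_of_mem hηDF),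
        Nat.card_congr (Subgroup.subgroupOfEquivOfLe le_sup_right).toEquiv]
      exact hτc.2 X'' hXX)
    rw [← this]
    rintro _ ⟨x, -, rfl⟩
    exact ⟨x, rfl⟩
  have hchain : ∀ x : D, ηD x ∈ normalizerIn S X'' := fun x => hηm _
  have hback : ∀ x : D, χ ⟨ηD x, hchain x⟩ ∈ ηD.range := by
    have hle : D ≤ ((ηD.range.comap (χ.comp (ηD.codRestrict _ hchain)))).map D.subtype := by
      refine sup_le (fun x hx => ⟨⟨x, Subgroup.mem_sup_left hx⟩, ?_, rfl⟩)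
        (fun x hx => ⟨⟨x, Subgroup.mem_sup_right hx⟩, ?_, rfl⟩)
      · have hm' : ηD ⟨x, Subgroup.mem_sup_left hx⟩ ∈ X'' := hηXr.le ⟨⟨x, hx⟩, rfl⟩
        show χ ⟨ηD ⟨x, _⟩, hchain _⟩ ∈ ηD.range
        rw [hχfix _ hm' (hchain _)]
        exact ⟨_, rfl⟩
      · refine hCD (apply_mem_centralizerIn hχ.mem (le_normalizerIn hX''.1) ?_ _
          (apply_mem_centralizerIn hη lX hηX _ hx.2).2)
        refine (map_subgroupOf_of_extends (φ := X''.subtype) (le_normalizerIn hX''.1)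
          fun z hz hzN => hχfix z hz hzN).trans X''.range_subtype
    intro x
    obtain ⟨w, hw, hwx⟩ := hle x.2
    rwa [show w = x from Subtype.ext hwx] at hw
  obtain ⟨θD, hθD, hθDr, hθDx, -⟩ := exists_inverse hηDF rfl
  have h7 : Cl π p D (χ.comp (ηD.codRestrict _ hchain)) (d * (y * (e * y⁻¹) * d⁻¹) * d) :=
    (hd.restrict hDX fun _ => rfl).comp hχ hchain fun _ => rfl
  have h8 : Cl π p D (θD.comp ((χ.comp (ηD.codRestrict _ hchain)).codRestrict _ hback))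
      (d⁻¹ * (d * (y * (e * y⁻¹) * d⁻¹) * d)) :=
    h7.comp ((hd.restrict (χ := ηD) hDX fun _ => rfl).inv rfl hθDx) hback fun _ => rfl
  have hPX' : P ≤ X' := fun z hz => ⟨⟨z, hPX.le hz⟩, hτP _ hz⟩
  have hX'N : X' ≤ normalizerIn S P := by
    rintro _ ⟨x, rfl⟩
    exact hτN x
  have hDN : D ≤ normalizerIn S P := sup_le hX'N
    ((inf_le_inf_left S (Subgroup.centralizer_le hPX')).trans (centralizerIn_le_normalizerIn S P))
  have h9 := fixCl_of_centric hS hF hπ hP hDc (hPX'.trans le_sup_left) hDN h8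
    (fun x => hDN (hθDr.le ⟨_, rfl⟩)) fun x hx => by
      have hm' : ηD x ∈ X'' := hηXr.le ⟨⟨x, hPX' hx⟩, rfl⟩
      refine Eq.trans (congrArg θD (Subtype.ext ?_)) (hθDx x ⟨x, rfl⟩)
      exact hχfix _ hm' (hchain x)
  have e' : d⁻¹ * (d * (y * (e * y⁻¹) * d⁻¹) * d) = y * e * y⁻¹ := by group
  rw [e'] at h9
  have := (hy.mul h9).mul hy.inv
  simpa [mul_assoc] using this

theorem compares_of_centric (hπ : h0 F p ≤ π.ker) {P : Subgroup Ω} (hP : F.IsFullyNormalized P)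
    (ih : MainAbove π p (Nat.card P)) {A D : Subgroup Ω} (hAD : A ≤ D) (hAP : F.IsConj A P)
    {f : D →* Ω} {c : Γ} (hf : Cl π p D f c) (hD : F.IsCentric D) :
    Compares π p P A (f.comp (Subgroup.inclusion hAD)) c := by
  unfold Compares
  set B := (f.comp (Subgroup.inclusion hAD)).range with hB
  intro ψA dA ψB dB hψA hψB hrA hrB
  set D0 := P ⊔ centralizerIn S P with hD0
  have hrec := receptive_of_fullyNormalized hS hF hP
  have hPN : P ≤ normalizerIn S P := le_normalizerIn hP.1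
  have hD0N : D0 ≤ normalizerIn S P := sup_centralizerIn_le_normalizerIn hP.1
  have hAS : A ≤ S := hAD.trans hD.1
  have hBS : B ≤ S := range_le (restrict_mem hf.mem hAD)
  have lA : A ≤ normalizerIn S A := le_normalizerIn hAS
  have lB : B ≤ normalizerIn S B := le_normalizerIn hBS
  set A1 := D ⊓ Subgroup.normalizer (A : Set Ω) with hA1
  have hAA1 : A ≤ A1 := le_inf hAD Subgroup.le_normalizer
  have hA1N : A1 ≤ normalizerIn S A := inf_le_inf_right _ hD.1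
  have hmapA : (A.subgroupOf D).map f = B := by rw [hB, range_comp_inclusion]
  have hfN : ∀ x : A1, f (Subgroup.inclusion inf_le_left x) ∈ normalizerIn S B := fun x =>
    apply_mem_normalizerIn hf.mem hAD hmapA _ x.2.2
  set ψA1 := ψA.comp (Subgroup.inclusion hA1N) with hψA1
  set γ0 := ψB.comp ((f.comp (Subgroup.inclusion (inf_le_left : A1 ≤ D))).codRestrict _ hfN) with hγ0
  have hγ0c : Cl π p A1 γ0 (dB * c) :=
    (hf.restrict (χ := f.comp (Subgroup.inclusion (inf_le_left : A1 ≤ D))) inf_le_left fun _ => rfl).comp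
      hψB hfN fun _ => rfl
  have hψA1c : Cl π p A1 ψA1 dA := hψA.restrict hA1N fun _ => rfl
  set X := ψA1.range with hX
  obtain ⟨θ1, hθ1, hθ1r, hθ1x, hθ1y⟩ := exists_inverse hψA1c.mem hX.symm
  set γ' := γ0.comp (θ1.codRestrict A1 fun z => hθ1r.le ⟨z, rfl⟩) with hγ'
  have hγ'c : Cl π p X γ' (dB * c * dA⁻¹) :=
    (hψA1c.inv rfl hθ1x).comp hγ0c (fun z => hθ1r.le ⟨z, rfl⟩) fun _ => rfl
  have hPX : P ≤ X := by
    rw [← hrA lA]
    rintro _ ⟨x, rfl⟩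
    exact ⟨Subgroup.inclusion hAA1 x, rfl⟩
  have hγ'x : ∀ (x : Ω) (hx : x ∈ A1), γ' ⟨ψA1 ⟨x, hx⟩, ⟨_, rfl⟩⟩ = γ0 ⟨x, hx⟩ := fun x hx =>
    congrArg γ0 (Subtype.ext (hθ1x ⟨x, hx⟩ _))
  have hrAmap : (A.subgroupOf (normalizerIn S A)).map ψA = P := by
    rw [← hrA lA, range_comp_inclusion]
  have hrBmap : (B.subgroupOf (normalizerIn S B)).map ψB = P := by
    rw [← hrB lB, range_comp_inclusion]
  have hXN : X ≤ normalizerIn S P := by
    rintro _ ⟨x, rfl⟩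
    exact apply_mem_normalizerIn hψA.mem lA hrAmap _ (hA1N x.2).2
  have hγ'N : ∀ z, γ' z ∈ normalizerIn S P := by
    rintro ⟨_, ⟨x, hx⟩, rfl⟩
    rw [hγ'x x hx]
    exact apply_mem_normalizerIn hψB.mem lB hrBmap _ (hfN ⟨x, hx⟩).2
  set φ' := γ'.comp (Subgroup.inclusion hPX) with hφ'
  have hφ'F : φ' ∈ F.Hom P := restrict_mem hγ'c.mem hPX
  have hφ'r : φ'.range = P := by
    refine Eq.trans ?_ (hrB lB)
    ext y
    constructor
    · rintro ⟨⟨z, hz⟩, rfl⟩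
      obtain ⟨x, rfl⟩ := (hrA lA).ge hz
      exact ⟨⟨f ⟨x, hAD x.2⟩, ⟨x, rfl⟩⟩, (hγ'x x (hAA1 x.2)).symm⟩
    · rintro ⟨⟨_, x, rfl⟩, rfl⟩
      exact ⟨⟨ψA ⟨x, lA x.2⟩, (hrA lA).le ⟨x, rfl⟩⟩, hγ'x x (hAA1 x.2)⟩
  obtain ⟨γ, hγ, hγx⟩ := hrec.2 P φ' hφ'F hφ'r
  have hsup := sup_centralizerIn_le_extender hφ'F
  have hγP : (P.subgroupOf (extender S P φ')).map γ = P :=
    (map_subgroupOf_of_extends (le_extender hφ'F) hγx).trans hφ'r
  have hγD0 : ∀ z : D0, γ (Subgroup.inclusion hsup z) ∈ D0 := by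
    have hle : D0 ≤ (D0.comap (γ.comp (Subgroup.inclusion hsup))).map D0.subtype := by
      refine sup_le (fun x hx => ⟨⟨x, Subgroup.mem_sup_left hx⟩, ?_, rfl⟩)
        (fun x hx => ⟨⟨x, Subgroup.mem_sup_right hx⟩, ?_, rfl⟩)
      · exact Subgroup.mem_sup_left (hγP.le ⟨_, hx, rfl⟩)
      · exact Subgroup.mem_sup_right (apply_mem_centralizerIn hγ (le_extender hφ'F) hγP _ hx.2)
    intro z
    obtain ⟨w, hw, hwz⟩ := hle z.2
    rwa [show w = z from Subtype.ext hwz] at hw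
  have hval : ∀ (x : A) (h₁ : (x : Ω) ∈ normalizerIn S A) (h₂ : ψA ⟨x, h₁⟩ ∈ D0)
      (h₃ : f ⟨x, hAD x.2⟩ ∈ normalizerIn S B),
      γ (Subgroup.inclusion hsup ⟨ψA ⟨x, h₁⟩, h₂⟩) = ψB ⟨f ⟨x, hAD x.2⟩, h₃⟩ := by
    intro x h₁ h₂ h₃
    have hPm : ψA ⟨x, h₁⟩ ∈ P := (hrA lA).le ⟨x, rfl⟩
    exact (hγx _ hPm _).trans (hγ'x x (hAA1 x.2))
  by_cases hXP : X ≤ P
  · have hAeq : A = D := by
      by_contra hne
      obtain ⟨g, hgD, hgN, hgA⟩ :=
        exists_mem_normalizer_not_mem hS (lt_of_le_of_ne hAD hne) hD.1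
      have hgX : ψA1 ⟨g, hgD, hgN⟩ ∈ P := hXP ⟨_, rfl⟩
      obtain ⟨x, hx⟩ := (hrA lA).ge hgX
      have := F.injective_of_mem hψA.mem hx
      have hxg : (x : Ω) = g := congrArg Subtype.val this
      exact hgA (hxg ▸ x.2)
    have hPcen : F.IsCentric P := CfsgLib.FusionExamples.isCentric_of_isConj (hAeq ▸ hD) hAP
    have hD0P : D0 ≤ P := sup_le le_rfl (hPcen.2 P (isConj_refl F hP.1))
    refine ⟨γ.comp (Subgroup.inclusion hsup), hγ'c.restrict (hD0P.trans hPX) ?_, hγD0,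
      fun x h₁ h₂ h₃ => hval x h₁ h₂ h₃⟩
    intro z
    exact hγx _ (hD0P z.2) _
  have hPltX : P < X := lt_of_le_of_ne hPX fun h => hXP h.ge
  have hXext : X ≤ extender S P φ' := fun z hz => by
    refine mem_extender_iff.mpr ⟨(hXN hz).1, (hXN hz).2, γ' ⟨z, hz⟩, (hγ'N _).1, fun x hx => ?_⟩
    show γ' ⟨z * x * z⁻¹, hPX hx⟩ = γ' ⟨z, hz⟩ * γ' ⟨x, hPX x.2⟩ * (γ' ⟨z, hz⟩)⁻¹
    rw [← map_inv, ← map_mul, ← map_mul]
    rfl
  obtain ⟨c1, hc1⟩ := exists_cl hS hF π hγ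
  set X2 := γ'.range with hX2
  obtain ⟨θ2, hθ2, hθ2r, hθ2x, -⟩ := exists_inverse hγ'c.mem hX2.symm
  have hθ2m : ∀ z, θ2 z ∈ extender S P φ' := fun z => hXext (hθ2r.le ⟨z, rfl⟩)
  set ρ := γ.comp (θ2.codRestrict _ hθ2m) with hρ
  have hρc : Cl π p X2 ρ (c1 * (dB * c * dA⁻¹)⁻¹) :=
    (hγ'c.inv rfl hθ2x).comp hc1 hθ2m fun _ => rfl
  have hPX2 : P ≤ X2 := fun z hz => by
    obtain ⟨x, hx⟩ := hφ'r.ge hz
    exact ⟨_, hx⟩
  have hX2N : X2 ≤ normalizerIn S P := by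
    rintro _ ⟨x, rfl⟩
    exact hγ'N x
  have hρN : ∀ z, ρ z ∈ normalizerIn S P := fun z =>
    apply_mem_normalizerIn hγ (le_extender hφ'F) hγP _ (hXN (hθ2r.le ⟨z, rfl⟩)).2
  have hρfix : ∀ z : X2, (z : Ω) ∈ P → ρ z = z := by
    intro z hz
    obtain ⟨x, hx⟩ := hφ'r.ge hz
    have h1 : θ2 z = (x : Ω) := by
      rw [show z = ⟨γ' (Subgroup.inclusion hPX x), ⟨_, rfl⟩⟩ from Subtype.ext hx.symm]
      exact hθ2x _ _
    show γ ⟨θ2 z, hθ2m z⟩ = z
    rw [show (⟨θ2 z, hθ2m z⟩ : extender S P φ') = Subgroup.inclusion (le_extender hφ'F) x from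
      Subtype.ext h1, ← hx]
    exact hγx x x.2 _
  obtain ⟨y, hy, hρy⟩ := exists_fixCl_of_kHom hS hF hπ hP (W := X2) (ρ := ρ)
    ⟨hρc.mem, hX2N, hρN, ρ.comp (Subgroup.inclusion (sup_le le_rfl hPX2)), restrict_mem hρc.mem _,
      fun x => rfl, 1, Subgroup.one_mem _, fun q => hρfix ⟨(q : Ω), hPX2 q.2⟩ q.2⟩
  obtain ⟨θ3, hθ3, hθ3r, hθ3x, hθ3y⟩ := exists_inverse hρc.mem rfl
  have hid : Cl π p X2 X2.subtype (y⁻¹ * (c1 * (dB * c * dA⁻¹)⁻¹)) :=
    hρc.comp (hρy.inv rfl hθ3x) (fun z => ⟨z, rfl⟩) fun z => (hθ3x z ⟨z, rfl⟩).symm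
  have hPltX2 : P < X2 := lt_of_le_of_ne hPX2 fun h => by
    have h1 := card_lt_card (hXN.trans (normalizerIn_le S P)) hPltX
    have h2 := card_range_eq (F.injective_of_mem hγ'c.mem)
    rw [← hX2, ← h] at h2
    omega
  have he := fixCl_of_cl_subtype_lt hS hF hπ hP ih hPltX2 hX2N hid
  obtain ⟨χ, hχ, hχm, hχfix⟩ := (he.mul hy).inv
  have hm2 : ∀ z : D0, γ (Subgroup.inclusion hsup z) ∈ normalizerIn S P := fun z => hD0N (hγD0 z)
  have hout : ∀ z : D0, χ ⟨γ (Subgroup.inclusion hsup z), hm2 z⟩ ∈ D0 := by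
    intro z
    have hmapχ : (P.subgroupOf (normalizerIn S P)).map χ = P :=
      (map_subgroupOf_of_extends (φ := P.subtype) hPN fun x hx hN => hχfix x hx hN).trans
        P.range_subtype
    have hle : D0 ≤ ((D0.comap χ).map (normalizerIn S P).subtype) := by
      refine sup_le (fun x hx => ⟨⟨x, hPN hx⟩, ?_, rfl⟩)
        (fun x hx => ⟨⟨x, centralizerIn_le_normalizerIn S P hx⟩, ?_, rfl⟩)
      · show χ ⟨x, _⟩ ∈ D0
        rw [hχfix x hx]
        exact Subgroup.mem_sup_left hx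
      · exact Subgroup.mem_sup_right (apply_mem_centralizerIn hχ.mem hPN hmapχ _ hx.2)
    obtain ⟨w, hw, hwz⟩ := hle (hγD0 z)
    rwa [show w = ⟨γ (Subgroup.inclusion hsup z), hm2 z⟩ from Subtype.ext hwz] at hw
  refine ⟨χ.comp ((γ.comp (Subgroup.inclusion hsup)).codRestrict _ hm2), ?_, hout,
    fun x h₁ h₂ h₃ => ?_⟩
  · have h := (hc1.restrict (χ := γ.comp (Subgroup.inclusion hsup)) hsup fun _ => rfl).comp
      (χ := χ.comp ((γ.comp (Subgroup.inclusion hsup)).codRestrict _ hm2)) hχ hm2 fun _ => rfl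
    convert h using 1
    group
  · have h1 := hval x h₁ h₂ h₃
    have h2 : ψB ⟨f ⟨x, hAD x.2⟩, h₃⟩ ∈ P := (hrB lB).le ⟨⟨_, ⟨x, rfl⟩⟩, rfl⟩
    refine Eq.trans ?_ (hχfix _ h2 (hPN h2))
    exact congrArg χ (Subtype.ext h1)

theorem Compares.comp {P A B : Subgroup Ω} (hP : F.IsFullyNormalized P) {φ : A →* Ω} {ψ : B →* Ω}
    {χ : A →* Ω} {c d : Γ} (hφ : φ ∈ F.Hom A) (hr : φ.range = B) (hBP : F.IsConj B P)
    (hχ : ∀ x (hx : φ x ∈ B), χ x = ψ ⟨φ x, hx⟩) (h₁ : Compares π p P A φ c)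
    (h₂ : Compares π p P B ψ d) : Compares π p P A χ (d * c) := by
  intro ψA dA ψC dC hψA hψC hrA hrC
  set D0 := P ⊔ centralizerIn S P with hD0
  subst hr
  obtain ⟨ψB, hψB, -, hψBP⟩ := exists_hom_normalizerIn_of_fullyNormalized hS hF hP hBP
  obtain ⟨dB, hdB⟩ := exists_cl hS hF π hψB
  have hrB : ∀ hB : φ.range ≤ normalizerIn S φ.range,
      (ψB.comp (Subgroup.inclusion hB)).range = P :=
    fun hB => (range_comp_inclusion ψB hB).trans hψBP
  have hr' : χ.range = ψ.range := by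
    ext z
    constructor
    · rintro ⟨x, rfl⟩
      exact ⟨_, (hχ x ⟨x, rfl⟩).symm⟩
    · rintro ⟨⟨_, x, rfl⟩, rfl⟩
      exact ⟨x, hχ x _⟩
  obtain ⟨δ₁, hδ₁, hm₁, hx₁⟩ := h₁ ψA dA ψB dB hψA hdB hrA hrB
  have hle : normalizerIn S ψ.range ≤ normalizerIn S χ.range := by rw [hr']
  obtain ⟨δ₂, hδ₂, hm₂, hx₂⟩ := h₂ ψB dB (ψC.comp (Subgroup.inclusion hle)) dC hdB
    (hψC.restrict hle fun _ => rfl) hrB fun hB => by
      have hB' : χ.range ≤ normalizerIn S χ.range := hr'.le.trans (hB.trans hle)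
      rw [← hrC hB']
      ext z
      exact ⟨fun ⟨u, hu⟩ => ⟨⟨u, hr'.ge u.2⟩, hu⟩, fun ⟨u, hu⟩ => ⟨⟨u, hr'.le u.2⟩, hu⟩⟩
  refine ⟨δ₂.comp (δ₁.codRestrict D0 hm₁), ?_, fun z => hm₂ _, fun x h₁' h₂' h₃ => ?_⟩
  · have h := hδ₁.comp (χ := δ₂.comp (δ₁.codRestrict D0 hm₁)) hδ₂ hm₁ fun _ => rfl
    convert h using 1
    group
  · have lB : φ.range ≤ normalizerIn S φ.range := le_normalizerIn (range_le hφ)
    have hin : ψB ⟨φ x, lB ⟨x, rfl⟩⟩ ∈ D0 :=
      Subgroup.mem_sup_left ((hrB lB).le ⟨⟨_, ⟨x, rfl⟩⟩, rfl⟩)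
    have hψm : ψ ⟨φ x, ⟨x, rfl⟩⟩ ∈ normalizerIn S ψ.range := by
      rw [← hχ x ⟨x, rfl⟩, ← hr']
      exact h₃
    have h2 := hx₂ ⟨φ x, ⟨x, rfl⟩⟩ (lB ⟨x, rfl⟩) hin hψm
    refine Eq.trans (congrArg δ₂ (Subtype.ext ?_)) (h2.trans ?_)
    · exact hx₁ x h₁' h₂' (lB ⟨x, rfl⟩)
    · exact congrArg ψC (Subtype.ext (hχ x ⟨x, rfl⟩).symm)

theorem compares_of_gen (hπ : h0 F p ≤ π.ker) {P : Subgroup Ω} (hP : F.IsFullyNormalized P)
    (ih : MainAbove π p (Nat.card P)) {A : Subgroup Ω} {z : A →* Ω} (hz : Gen F p A z) :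
    ∀ {A' : Subgroup Ω} (hA' : A' ≤ A), F.IsConj A' P →
      Compares π p P A' (z.comp (Subgroup.inclusion hA')) 1 := by
  induction hz with
  | @base A Q hAQ hQ β hβ k hk =>
    intro A' hA' hA
    have e : ((Q.subtype.comp β.toMonoidHom).comp (Subgroup.inclusion hAQ)).comp
        (Subgroup.inclusion hA') =
        (Q.subtype.comp β.toMonoidHom).comp (Subgroup.inclusion (hA'.trans hAQ)) :=
      MonoidHom.ext fun _ => rfl
    have hf : Cl π p Q (Q.subtype.comp β.toMonoidHom) 1 :=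
      Cl.of_gen ((Gen.base le_rfl hQ β hβ k hk).congr fun _ => rfl)
    rw [e]
    exact compares_of_centric hS hF hπ hP ih (hA'.trans hAQ) hA hf hQ
  | @comp A B φ ψ h₁ h₂ h ih₁ ih₂ =>
    intro A' hA' hA
    set φ₀ := φ.comp (Subgroup.inclusion hA') with hφ₀
    have hφ₀F : φ₀ ∈ F.Hom A' := restrict_mem h₁.mem hA'
    have hle : φ₀.range ≤ B := by
      rintro _ ⟨x, rfl⟩
      exact h _
    have hB : F.IsConj φ₀.range P := IsConj.trans (IsConj.symm ⟨φ₀, hφ₀F, rfl⟩) hA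
    have hx : ∀ (x : A') (hx : φ₀ x ∈ φ₀.range),
        ((ψ.comp (φ.codRestrict B h)).comp (Subgroup.inclusion hA')) x =
          (ψ.comp (Subgroup.inclusion hle)) ⟨φ₀ x, hx⟩ := fun x hx => rfl
    have := Compares.comp hS hF hP hφ₀F rfl hB hx (ih₁ hA' hA) (ih₂ hle hB)
    rwa [one_mul] at this

/-- The main lemma: the classes of the identity of a fully normalized subgroup. -/
theorem fixCl_of_cl_subtype (hπ : h0 F p ≤ π.ker) :
    ∀ {P : Subgroup Ω}, F.IsFullyNormalized P → ∀ {c : Γ}, Cl π p P P.subtype c →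
      FixCl π p P c := by
  suffices H : ∀ (n : ℕ) {P : Subgroup Ω}, Nat.card S - Nat.card P = n → F.IsFullyNormalized P →
      ∀ {c : Γ}, Cl π p P P.subtype c → FixCl π p P c from fun {P} hP {c} h => H _ rfl hP h
  intro n
  induction n using Nat.strong_induction_on with
  | _ n ih' =>
  intro P hn hP c₀ hc₀
  have ih : MainAbove π p (Nat.card P) := fun X hX hXn c hc => ih' _ (by
    have := Subgroup.card_le_of_le (K := S) hXn.1
    omega) rfl hXn hc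
  set D0 := P ⊔ centralizerIn S P with hD0
  have hPc := (centralized_automized_of_fullyNormalized hS hF hP).1
  have hD0c : F.IsCentric D0 := isCentric_sup_centralizerIn hPc
  have hPN : P ≤ normalizerIn S P := le_normalizerIn hP.1
  have hD0N : D0 ≤ normalizerIn S P := sup_centralizerIn_le_normalizerIn hP.1
  obtain ⟨a, ha, z, hz, hza⟩ := hc₀
  have hzr : z.range ≤ S := range_le hz.mem
  have hzP : F.IsConj z.range P :=
    IsConj.trans (IsConj.symm ⟨z, hz.mem, rfl⟩) (isConj_refl F hP.1)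
  have h1 : Compares π p P P z 1 := compares_of_gen hS hF hπ hP ih hz le_rfl (isConj_refl F hP.1)
  have h2 := compares_of_centric hS hF hπ hP ih hzr hzP (Cl.of_aut (π := π) (φ := S.subtype.comp (a : MulAut S).toMonoidHom) a
    le_rfl fun _ => rfl) (isCentric_top F)
  have h3 := Compares.comp hS hF hP (χ := P.subtype) hz.mem rfl hzP (fun x hx => hza x (apply_mem hz.mem x)) h1 h2
  have hrle : normalizerIn S P.subtype.range ≤ normalizerIn S P := by rw [P.range_subtype]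
  obtain ⟨δ, hδ, hδm, hδx⟩ := h3 (normalizerIn S P).subtype 1
    ((normalizerIn S P).subtype.comp (Subgroup.inclusion hrle)) 1
    (Cl.of_gen (Gen.incl (normalizerIn_le S P)))
    (Cl.of_gen ((Gen.incl (normalizerIn_le S P)).restrict hrle))
    (fun hA => by
      ext y
      exact ⟨fun ⟨u, hu⟩ => hu ▸ u.2, fun hy => ⟨⟨y, hy⟩, rfl⟩⟩)
    (fun hB => by
      ext y
      exact ⟨fun ⟨u, hu⟩ => hu ▸ P.range_subtype.le u.2,
        fun hy => ⟨⟨y, P.range_subtype.ge hy⟩, rfl⟩⟩)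
  have h4 : Cl π p D0 δ c₀ := by simpa [ha] using hδ
  exact fixCl_of_centric hS hF hπ hP hD0c le_sup_left hD0N h4 (fun x => hD0N (hδm x))
    fun x hx => hδx ⟨x, hx⟩ (hPN hx) x.2
      (le_normalizerIn (S := S) (P := P.subtype.range) (P.range_subtype.le.trans hP.1)
        (P.range_subtype.ge hx))

end CfsgLib.Alperin
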