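import Cfsg.Agent.Lib.Alperin.PPrimeIndex

/-!
Classes of maps fixing a fully normalized subgroup.
-/

set_option autoImplicit false
set_option linter.style.haveILetI false
set_option linter.unusedSectionVars false

namespace CfsgLib.Alperin

open Cfsg Cfsg.FusionSystem CfsgLib.FusionSub CfsgLib.FusionBasics

variable {Ω : Type*} [Group Ω] {S : Subgroup Ω} [Finite S] {F : FusionSystem S} {p : ℕ} [Fact p.Prime]
variable {Γ : Type*} [Group Γ] {π : F.autGroup S →* Γ} (hS : IsPGroup p S) (hF : F.IsSaturated p)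
include hS hF

theorem exists_stabilizerSystem {P : Subgroup Ω} (hP : F.IsFullyNormalized P) :
    ∃ M : FusionSystem (normalizerIn S P), M.IsSaturated p ∧
      (∀ W, M.Hom W = kHom F P (autInducedBy S P) (normalizerIn S P) W) := by
  refine ⟨kSystem F P (autInducedBy S P) _ hP.1 (normalizerIn_le S P)
    fun g hg => ⟨conjAut P g hg.2, conjAut_mem hg.1 hg.2, fun _ => rfl⟩, ?_, fun W => rfl⟩
  haveI := finite_autGroup F hP.1
  refine kSystem_saturated hS hF (receptive_of_fullyNormalized hS hF hP) ?_ ?_ _ fun W => rfl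
  · rw [inf_idem, inf_eq_right.mpr (autInducedBy_le_autGroup F hP.1)]
    haveI : Finite P := finite_of_le hP.1
    haveI := finite_mulAut (P := P)
    obtain ⟨n, hn⟩ := IsPGroup.iff_card.mp (isPGroup_autInducedBy hS P)
    rw [hn, (Fact.out : p.Prime).factorization_pow, Finsupp.single_eq_same]
  · ext g
    refine ⟨fun hg => ⟨hg.1, conjAut P g hg.2, conjAut_mem hg.1 hg.2, fun _ => rfl⟩, ?_⟩
    rintro ⟨hg, β, -, hx⟩
    exact ⟨hg, normalizer_of_induced hx⟩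

theorem exists_fixing_to_fullyCentralized {P : Subgroup Ω} (hP : F.IsFullyNormalized P)
    {W : Subgroup Ω} (hPW : P ≤ W) (hW : W ≤ normalizerIn S P) :
    ∃ τ ∈ F.Hom W, (∀ x, τ x ∈ normalizerIn S P) ∧ (∀ x : W, (x : Ω) ∈ P → τ x = x) ∧
      F.IsFullyCentralized τ.range := by
  have hWS : W ≤ S := hW.trans (normalizerIn_le S P)
  obtain ⟨W'', hWW, hW''⟩ := exists_isFullyNormalized F hWS
  obtain ⟨φ, hφ, rfl⟩ := hWW
  have hc'' := (centralized_automized_of_fullyNormalized hS hF hW'').1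
  set φP := φ.comp (Subgroup.inclusion hPW)
  have hφP : φP ∈ F.Hom P := restrict_mem hφ hPW
  have hconj : F.IsConj φP.range P := IsConj.symm ⟨φP, hφP, rfl⟩
  obtain ⟨ψ, hψ, hψm, hψP⟩ := exists_hom_normalizerIn_of_fullyNormalized hS hF hP hconj
  have hsubP : (P.subgroupOf W).map φ = φP.range := by rw [range_comp_inclusion]
  have hφN : ∀ x : W, φ x ∈ normalizerIn S φP.range := fun x =>
    apply_mem_normalizerIn hφ hPW hsubP x (hW x.2).2
  set σ : W →* Ω := ψ.comp (φ.codRestrict _ hφN) with hσ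
  have hσF : σ ∈ F.Hom W := F.comp_mem hφ hψ hφN
  have hσP : (P.subgroupOf W).map σ = P := by
    refine Eq.trans ?_ hψP
    ext y
    constructor
    · rintro ⟨x, hx, rfl⟩
      exact ⟨_, hsubP.le ⟨x, hx, rfl⟩, rfl⟩
    · rintro ⟨w, hw, rfl⟩
      obtain ⟨x, hx, hxw⟩ := hsubP.ge hw
      exact ⟨x, hx, congrArg ψ (Subtype.ext hxw)⟩
  have hσr : σ.range ≤ normalizerIn S P := by
    rintro _ ⟨x, rfl⟩
    exact hψm _
  have hPW1 : P ≤ σ.range := fun y hy => by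
    obtain ⟨x, -, hxy⟩ := hσP.ge hy
    exact ⟨x, hxy⟩
  have hle : φP.range ≤ φ.range := by
    rintro _ ⟨x, rfl⟩
    exact ⟨_, rfl⟩
  have hcle : centralizerIn S φ.range ≤ normalizerIn S φP.range :=
    (inf_le_inf_left S (Subgroup.centralizer_le hle)).trans (centralizerIn_le_normalizerIn S _)
  have hrange : φ.range ≤ normalizerIn S φP.range := by
    rintro _ ⟨x, rfl⟩
    exact hφN x
  have hmap : (φ.range.subgroupOf (normalizerIn S φP.range)).map ψ = σ.range := by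
    ext y
    constructor
    · rintro ⟨w, ⟨x, hxw⟩, rfl⟩
      exact ⟨x, congrArg ψ (Subtype.ext hxw)⟩
    · rintro ⟨x, rfl⟩
      exact ⟨⟨φ x, hφN x⟩, ⟨x, rfl⟩, rfl⟩
  have hc1 : Nat.card (centralizerIn S φ.range) ≤ Nat.card (centralizerIn S σ.range) :=
    card_le_of_maps_to (F.injective_of_mem hψ) hcle (centralizerIn_le S _) fun x hx =>
      apply_mem_centralizerIn hψ hrange hmap x hx.2
  -- undo the automorphism induced on `P`
  obtain ⟨β, hβ, hβx⟩ := exists_aut_of_hom F (restrict_mem hσF hPW)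
    ((range_comp_inclusion σ hPW).trans hσP)
  have hβi : P.subtype.comp (β⁻¹ : MulAut P).toMonoidHom ∈ F.Hom P :=
    (mem_autGroup_iff F hP.1).mp (Subgroup.inv_mem _ hβ)
  obtain ⟨γ, hγ, hγx⟩ := (receptive_of_fullyNormalized hS hF hP).2 P _ hβi (range_subtype_comp_aut _)
  have hext : σ.range ≤ extender S P (P.subtype.comp (β⁻¹ : MulAut P).toMonoidHom) := by
    rintro _ ⟨w, rfl⟩
    refine mem_extender_iff.mpr ⟨(hψm _).1, (hψm _).2, w, hWS w.2, fun x hx => ?_⟩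
    obtain ⟨u, rfl⟩ : ∃ u, β u = x := ⟨β⁻¹ x, β.apply_symm_apply x⟩
    have hwu : (w : Ω) * u * (w : Ω)⁻¹ ∈ P := mem_normalizer_conj (hW w.2).2 u.2
    have he : (⟨σ w * ((β u : P) : Ω) * (σ w)⁻¹, hx⟩ : P) = β ⟨_, hwu⟩ := Subtype.ext (by
      show σ w * ((β u : P) : Ω) * (σ w)⁻¹ = _
      rw [hβx, hβx]
      show σ w * σ (Subgroup.inclusion hPW u) * (σ w)⁻¹ = σ _
      rw [← map_inv, ← map_mul, ← map_mul]
      rfl)
    show ((β⁻¹ (⟨_, hx⟩ : P) : P) : Ω) = (w : Ω) * ((β⁻¹ (β u) : P) : Ω) * (w : Ω)⁻¹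
    rw [he, MulAut.inv_apply_self, MulAut.inv_apply_self]
  have hm : ∀ x : W, σ x ∈ extender S P (P.subtype.comp (β⁻¹ : MulAut P).toMonoidHom) :=
    fun x => hext ⟨x, rfl⟩
  set τ : W →* Ω := γ.comp (σ.codRestrict _ hm) with hτ
  have hγP : (P.subgroupOf _).map γ = P :=
    (map_subgroupOf_of_extends (le_extender hβi) hγx).trans (range_subtype_comp_aut _)
  refine ⟨τ, F.comp_mem hσF hγ hm, fun x => apply_mem_normalizerIn hγ (le_extender hβi) hγP _
    (hσr ⟨x, rfl⟩).2, fun x hx => ?_, ?_⟩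
  · have h1 : σ x = ((β ⟨x, hx⟩ : P) : Ω) := (hβx ⟨x, hx⟩).symm
    show γ ⟨σ x, hm x⟩ = x
    rw [hγx (σ x) (h1 ▸ (β ⟨x, hx⟩).2) (hm x)]
    show ((β⁻¹ ⟨σ x, _⟩ : P) : Ω) = x
    rw [show (⟨σ x, h1 ▸ (β ⟨x, hx⟩).2⟩ : P) = β ⟨x, hx⟩ from Subtype.ext h1, MulAut.inv_apply_self]
  · refine ⟨range_le (F.comp_mem hσF hγ hm), fun Q hQ => ?_⟩
    have hmap2 : (σ.range.subgroupOf _).map γ = τ.range := by
      ext y
      constructor
      · rintro ⟨w, ⟨x, hxw⟩, rfl⟩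
        exact ⟨x, congrArg γ (Subtype.ext hxw)⟩
      · rintro ⟨x, rfl⟩
        exact ⟨⟨σ x, hm x⟩, ⟨x, rfl⟩, rfl⟩
    have hc2 : Nat.card (centralizerIn S σ.range) ≤ Nat.card (centralizerIn S τ.range) :=
      card_le_of_maps_to (F.injective_of_mem hγ)
        ((inf_le_inf_left S (Subgroup.centralizer_le hPW1)).trans (centralizerIn_le_extender P _))
        (centralizerIn_le S _) fun x hx => apply_mem_centralizerIn hγ hext hmap2 x hx.2
    have h3 : F.IsConj φ.range Q := IsConj.trans (IsConj.symm ⟨φ, hφ, rfl⟩)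
      (IsConj.trans ⟨τ, F.comp_mem hσF hγ hm, rfl⟩ hQ)
    exact (hc''.2 Q h3).trans (hc1.trans hc2)

/-- The classes of maps of `F` inside `N_S(P)` inducing automorphisms of `Aut_S(P)` on `P`. -/
theorem exists_fixCl_of_kHom (hπ : h0 F p ≤ π.ker) {P : Subgroup Ω} (hP : F.IsFullyNormalized P)
    {W : Subgroup Ω} {ρ : W →* Ω}
    (hρ : ρ ∈ kHom F P (autInducedBy S P) (normalizerIn S P) W) :
    ∃ c, FixCl π p P c ∧ Cl π p W ρ c := by
  obtain ⟨M, hM, hMh⟩ := exists_stabilizerSystem hS hF hP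
  rw [← hMh] at hρ
  have hMF : ∀ {W' : Subgroup Ω} {φ : W' →* Ω}, φ ∈ M.Hom W' → φ ∈ F.Hom W' := fun h =>
    ((hMh _) ▸ h).1
  haveI : Finite (normalizerIn S P) := finite_of_le (normalizerIn_le S P)
  have hNp : IsPGroup p (normalizerIn S P) := isPGroup_of_le hS (normalizerIn_le S P)
  have hPN : P ≤ (normalizerIn S P) := le_normalizerIn hP.1
  refine closed_induction_centric hNp hM (Good := fun W φ => ∃ c, FixCl π p P c ∧ Cl π p W φ c)
    ⟨fun {A B φ} hB _ ⟨c, hc, h⟩ => ⟨c, hc, h.restrict hB fun _ => rfl⟩,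
      fun {A B φ ψ} _ _ h ⟨c, hc, h₁⟩ ⟨d, hd, h₂⟩ => ⟨d * c, hc.mul hd, h₁.comp h₂ h fun _ => rfl⟩,
      fun {A B φ ψ} _ _ hr hx ⟨c, hc, h⟩ => ⟨c⁻¹, hc.inv, h.inv hr hx⟩⟩ ?_ hρ
  intro W' hW'n hW'c hbig α hα
  have hW'N : W' ≤ (normalizerIn S P) := hW'n.1
  have hW'S : W' ≤ S := hW'N.trans (normalizerIn_le S P)
  have hαM := (mem_autGroup_iff M hW'N).mp hα
  have hαk := (hMh W') ▸ hαM
  obtain ⟨hαF, -, -, ψ, hψ, hψx, β, hβ, hβx⟩ := hαk
  by_cases hPW : P ≤ W'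
  · rcases hW'N.eq_or_lt with rfl | hlt
    · obtain ⟨s, hs, hsx⟩ := mem_autInducedBy_iff.mp hβ
      have hsN : s ∈ (normalizerIn S P) := ⟨hs, normalizer_of_induced hsx⟩
      have hm : ∀ x : (normalizerIn S P), conjHom (normalizerIn S P) s⁻¹ x ∈ (normalizerIn S P) := fun x => by
        show s⁻¹ * (x : Ω) * s⁻¹⁻¹ ∈ (normalizerIn S P)
        exact (normalizerIn S P).mul_mem ((normalizerIn S P).mul_mem ((normalizerIn S P).inv_mem hsN) x.2) (by simpa using hsN)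
      obtain ⟨c, hc⟩ := exists_cl hS hF π hαF
      refine ⟨c, ⟨(conjHom (normalizerIn S P) s⁻¹).comp (((normalizerIn S P).subtype.comp α.toMonoidHom).codRestrict (normalizerIn S P)
        fun x => (α x).2), ?_, fun x => hm _, fun x hx hN => ?_⟩, hc⟩
      · have := Cl.comp (χ := (conjHom (normalizerIn S P) s⁻¹).comp (((normalizerIn S P).subtype.comp α.toMonoidHom).codRestrict (normalizerIn S P)
          fun x => (α x).2)) hc
          (Cl.of_gen (π := π) (Gen.conj (F := F) hS (normalizerIn_le S P) (S.inv_mem hs)))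
          (fun x => (α x).2) fun _ => rfl
        simpa using this
      · show s⁻¹ * ((α ⟨x, hN⟩ : (normalizerIn S P)) : Ω) * s⁻¹⁻¹ = x
        have h1 : ((α ⟨x, hN⟩ : (normalizerIn S P)) : Ω) = s * x * s⁻¹ := by
          refine (hψx ⟨x, hN⟩).symm.trans (Eq.trans ?_ (hsx ⟨x, hx⟩))
          rw [← hβx ⟨x, hx⟩]
          exact congrArg ψ (Subtype.ext rfl)
        rw [h1]
        group
    -- `W'` is centric in `F`
    obtain ⟨τ, hτ, hτN, hτP, hτc⟩ := exists_fixing_to_fullyCentralized hS hF hP hPW hW'N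
    have hτM : τ ∈ M.Hom W' := by
      rw [hMh]
      refine ⟨hτ, hW'N, hτN, τ.comp (Subgroup.inclusion (sup_le le_rfl hPW)), restrict_mem hτ _,
        fun x => rfl, 1, Subgroup.one_mem _, fun q => ?_⟩
      exact hτP ⟨(q : Ω), hPW q.2⟩ q.2
    have hτW : centralizerIn S τ.range ≤ τ.range := by
      have hPτ : P ≤ τ.range := fun y hy => ⟨⟨y, hPW hy⟩, hτP _ hy⟩
      refine fun g hg => hW'c.2 _ ⟨τ, hτM, rfl⟩ ⟨?_, hg.2⟩
      exact centralizerIn_le_normalizerIn S P ⟨hg.1, Subgroup.centralizer_le hPτ hg.2⟩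
    have hFc : F.IsCentric W' := CfsgLib.FusionExamples.isCentric_of_isConj
      (isCentric_of_fullyCentralized hS hF hτc hτW) (IsConj.symm ⟨τ, hτ, rfl⟩)
    let K : Subgroup (MulAut W') := Subgroup.closure {β | β ∈ F.autGroup W' ∧ ∃ k, β ^ p ^ k = 1}
    have hKn : ∀ a ∈ M.autGroup W', ∀ κ ∈ K, a * κ * a⁻¹ ∈ K := by
      intro a ha κ hκ
      suffices h : K ≤ K.comap (MulAut.conj a).toMonoidHom from h hκ
      refine (Subgroup.closure_le _).mpr ?_
      rintro γ ⟨hγ, k, hk⟩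
      have ha' : a ∈ F.autGroup W' :=
        (mem_autGroup_iff F hW'S).mpr (hMF ((mem_autGroup_iff M hW'N).mp ha))
      refine Subgroup.subset_closure ⟨mul_mem (mul_mem ha' hγ) (Subgroup.inv_mem _ ha'), k, ?_⟩
      show (a * γ * a⁻¹) ^ p ^ k = 1
      rw [conj_pow, hk, mul_one, mul_inv_cancel]
    obtain ⟨κ, ⟨hκ, -⟩, χ, -, hαχ, R, hWR, ψ', -, hψ', hψ'x, hR⟩ :=
      frattini_extend hNp hM hW'n K hKn hα
    have hκ' : κ ∈ (genSystem F hS).autGroup W' := by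
      refine Subgroup.closure_le _ |>.mpr ?_ hκ
      rintro γ ⟨hγ, k, hk⟩
      exact (mem_autGroup_iff _ hW'S).mpr ((Gen.base le_rfl hFc γ hγ k hk).congr fun _ => rfl)
    have hNR : normalizerIn (normalizerIn S P) W' ≤ R := fun g hg => by
      have hmem : conjAut W' g hg.2 ∈ autInducedBy S W' := conjAut_mem hg.1.1 hg.2
      exact hR g hg.1 hg.2 (Subgroup.subset_closure
        ⟨autInducedBy_le_autGroup F hW'S hmem, exists_pow_eq_one_of_mem_autInducedBy hS hmem⟩)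
    obtain ⟨c, hc, hcl⟩ := hbig R ψ' hψ' (card_lt_card (dom_le hψ')
      (lt_of_lt_of_le (CfsgLib.FusionSub.lt_normalizerIn hNp hlt) hNR))
    refine ⟨c, hc, ?_⟩
    have := Cl.comp (χ := W'.subtype.comp α.toMonoidHom)
      (hcl.restrict (χ := ψ'.comp (Subgroup.inclusion hWR)) hWR fun _ => rfl)
      (Cl.of_gen ((mem_autGroup_iff _ hW'S).mp hκ'))
      (fun x => show ψ' ⟨x, hWR x.2⟩ ∈ W' from (hψ'x x).symm ▸ (χ x).2) fun x => ?_
    · simpa using this
    show ((α x : W') : Ω) = ((κ ⟨_, _⟩ : W') : Ω)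
    rw [hαχ]
    exact congrArg (fun w : W' => ((κ w : W') : Ω)) (Subtype.ext (hψ'x x).symm)
  · have hlt : W' < W' ⊔ P :=
      lt_of_le_of_ne le_sup_left fun h => hPW (le_sup_right.trans h.ge)
    have hψM : ψ ∈ M.Hom (W' ⊔ P) := by
      rw [hMh]
      refine ⟨hψ, sup_le hW'N hPN, apply_mem_of_sup ψ (fun x => ?_) (fun q => ?_),
        ψ.comp (Subgroup.inclusion (sup_le le_rfl le_sup_right)), restrict_mem hψ _,
        fun x => rfl, β, hβ, fun q => hβx q⟩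
      · rw [hψx]; exact hW'N (α x).2
      · rw [hβx]; exact hPN (β q).2
    obtain ⟨c, hc, hcl⟩ := hbig _ ψ hψM (card_lt_card (dom_le hψM) hlt)
    exact ⟨c, hc, hcl.restrict le_sup_left fun x => (hψx x).symm⟩

theorem fixCl_of_centric (hπ : h0 F p ≤ π.ker) {P : Subgroup Ω} (hP : F.IsFullyNormalized P)
    {D : Subgroup Ω} (hD : F.IsCentric D) (hPD : P ≤ D) (hDN : D ≤ normalizerIn S P)
    {γ : D →* Ω} {c : Γ} (hγ : Cl π p D γ c) (hm : ∀ x, γ x ∈ normalizerIn S P)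
    (hfix : ∀ x : D, (x : Ω) ∈ P → γ x = x) : FixCl π p P c := by
  obtain ⟨d, hd, hdc⟩ := exists_fixCl_of_kHom hS hF hπ hP (W := D) (ρ := γ)
    ⟨hγ.mem, hDN, hm, γ.comp (Subgroup.inclusion (sup_le le_rfl hPD)), restrict_mem hγ.mem _,
      fun x => rfl, 1, Subgroup.one_mem _, fun q => hfix ⟨(q : Ω), hPD q.2⟩ q.2⟩
  exact hγ.unique hπ hD hdc ▸ hd

end CfsgLib.Alperin
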