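import Cfsg.Agent.Lib.BGTypes.OrderP
import Cfsg.Agent.Lib.Transfer.Tate
import Mathlib.GroupTheory.Perm.Cycle.Type

/-!
Every finite `p`-group has a normal abelian subgroup of exponent dividing `p` (`p` odd), respectively
`4` (`p = 2`), whose pointwise stabilizer in the automorphism group is a `p`-group.
-/

set_option autoImplicit false
set_option linter.style.haveILetI false

namespace CfsgLib.Alperin

open Subgroup

variable {P : Type*} [Group P] [Finite P] {p : ℕ} [Fact p.Prime]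

omit [Fact p.Prime] in
theorem smallExp_frattini (hP : IsPGroup p P) [Fact p.Prime] (Q : Subgroup P) (u v : Q) :
    u⁻¹ * v⁻¹ * u * v ∈ frattini Q ∧ u ^ p ∈ frattini Q := by
  simp only [frattini, Order.radical, Subgroup.mem_iInf]
  constructor <;> intro M hM
  all_goals
    have hn : M.Normal := TwoGroups.normal_of_isCoatom (hP.to_subgroup Q) hM
    have hi := TwoGroups.index_eq_of_isCoatom (hP.to_subgroup Q) hM
    rw [← QuotientGroup.eq_one_iff]
    have hcard : Nat.card (Q ⧸ M) = p := hi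
    haveI : IsCyclic (Q ⧸ M) := isCyclic_of_prime_card hcard
  · simp only [QuotientGroup.mk_mul, QuotientGroup.mk_inv]
    letI := IsCyclic.commGroup (α := Q ⧸ M)
    rw [mul_comm _ (v : Q ⧸ M)⁻¹, mul_assoc, mul_assoc, inv_mul_cancel_left, inv_mul_cancel]
  · rw [QuotientGroup.mk_pow, ← hcard, pow_card_eq_one']

omit [Finite P] [Fact p.Prime] in
/-- An automorphism of order prime to `p` fixing the displacement of `g` fixes `g`. -/
theorem fix_of_fix_displacement (hP : IsPGroup p P) {x : MulAut P} (hx : (orderOf x).Coprime p)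
    {g : P} (h : x (g⁻¹ * x g) = g⁻¹ * x g) : x g = g := by
  have hd : ∀ n : ℕ, (x ^ n) g = g * (g⁻¹ * x g) ^ n := by
    intro n
    induction n with
    | zero => simp
    | succ n ih =>
      rw [pow_succ', MulAut.mul_apply, ih, map_mul, map_pow, h, pow_succ', ← mul_assoc, ← mul_assoc,
        mul_inv_cancel, one_mul]
  have h1 : (g⁻¹ * x g) ^ orderOf x = 1 := by
    have := hd (orderOf x)
    rw [pow_orderOf_eq_one, MulAut.one_apply] at this
    exact mul_eq_left.mp this.symm
  obtain ⟨k, hk⟩ := hP (g⁻¹ * x g)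
  have h2 : orderOf (g⁻¹ * x g) = 1 :=
    Nat.eq_one_of_dvd_coprimes (hx.pow_right k) (orderOf_dvd_of_pow_eq_one h1)
      (orderOf_dvd_of_pow_eq_one hk)
  exact (inv_mul_eq_one.mp (orderOf_eq_one_iff.mp h2)).symm

variable {A : Subgroup P} {e : ℕ}

/-- A normal subgroup of exponent `e` centralizing a maximal normal abelian subgroup `A` of exponent
`e` lies in `A`. -/
theorem le_of_isMaximal_smallExp (hP : IsPGroup p P) [A.Normal]
    (hAc : ∀ a ∈ A, ∀ b ∈ A, a * b = b * a) (hAe : ∀ a ∈ A, a ^ e = 1)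
    (hmax : ∀ B : Subgroup P, B.Normal → (∀ a ∈ B, ∀ b ∈ B, a * b = b * a) →
      (∀ b ∈ B, b ^ e = 1) → A ≤ B → B = A)
    {Q : Subgroup P} [Q.Normal] (hQA : Q ≤ centralizer (A : Set P)) (hQe : ∀ q ∈ Q, q ^ e = 1) :
    Q ≤ A := by
  by_contra hnot
  have hne : Q.map (QuotientGroup.mk' A) ≠ ⊥ := by
    rwa [Ne, Subgroup.map_eq_bot_iff, QuotientGroup.ker_mk']
  have hQn : (Q.map (QuotientGroup.mk' A)).Normal :=
    (inferInstance : Q.Normal).map _ (QuotientGroup.mk'_surjective A)
  obtain ⟨c, hc, hc1⟩ := CfsgLib.Transfer.exists_mem_inf_center_ne_one (hP.to_quotient A) hne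
  obtain ⟨y, hy, rfl⟩ := hc.1
  have hyA : y ∉ A := fun h => hc1 ((QuotientGroup.eq_one_iff y).mpr h)
  have hcen : ∀ g : P, (g * y * g⁻¹) * y⁻¹ ∈ A := fun g => by
    rw [← QuotientGroup.eq_one_iff]
    simp only [QuotientGroup.mk_mul, QuotientGroup.mk_inv]
    have := Subgroup.mem_center_iff.mp hc.2 (g : P ⧸ A)
    rw [show (g : P ⧸ A) * (y : P ⧸ A) = (y : P ⧸ A) * g from this, mul_inv_cancel_right,
      mul_inv_cancel]
  have hyc : ∀ a ∈ A, Commute a y := fun a ha => hQA hy a ha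
  have hBm : ∀ b ∈ A ⊔ zpowers y, ∃ a ∈ A, ∃ i : ℤ, b = a * y ^ i := by
    intro b hb
    obtain ⟨a, ha, z, ⟨i, rfl⟩, rfl⟩ := mem_sup_of_normal_left.mp hb
    exact ⟨a, ha, i, rfl⟩
  refine hyA ((hmax (A ⊔ zpowers y) ⟨fun b hb g => ?_⟩ (fun a ha b hb => ?_) (fun b hb => ?_)
    le_sup_left).le (mem_sup_right (mem_zpowers y)))
  · obtain ⟨a, ha, i, rfl⟩ := hBm b hb
    rw [show g * (a * y ^ i) * g⁻¹ = (g * a * g⁻¹) * ((g * y * g⁻¹) * y⁻¹ * y) ^ i by
      rw [inv_mul_cancel_right, conj_zpow]; group]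
    exact mul_mem (mem_sup_left ((inferInstance : A.Normal).conj_mem a ha g))
      (zpow_mem (mul_mem (mem_sup_left (hcen g)) (mem_sup_right (mem_zpowers y))) i)
  · obtain ⟨a, ha', i, rfl⟩ := hBm a ha
    obtain ⟨b, hb', j, rfl⟩ := hBm b hb
    exact ((Commute.mul_left (hAc a ha' b hb') ((hyc b hb').symm.zpow_left i)).mul_right
      (Commute.mul_left ((hyc a ha').zpow_right j) ((Commute.refl y).zpow_zpow i j))).eq
  · obtain ⟨a, ha, i, rfl⟩ := hBm b hb
    rw [((hyc a ha).zpow_right i).mul_pow, hAe a ha, one_mul, hQe _ (zpow_mem hy i)]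

/-- An automorphism of order prime to `p` fixing a maximal normal abelian subgroup of exponent `e`
fixes everything. -/
theorem eq_one_of_fix_maximal_smallExp (hP : IsPGroup p P) [A.Normal] (he1 : p ∣ e)
    (he2 : p ∣ e.choose 2) (he3 : p ∣ p.choose 2 * (e / p))
    (hAc : ∀ a ∈ A, ∀ b ∈ A, a * b = b * a) (hAe : ∀ a ∈ A, a ^ e = 1)
    (hmax : ∀ B : Subgroup P, B.Normal → (∀ a ∈ B, ∀ b ∈ B, a * b = b * a) →
      (∀ b ∈ B, b ^ e = 1) → A ≤ B → B = A)
    {x : MulAut P} (hx : (orderOf x).Coprime p) (hfix : ∀ a ∈ A, x a = a) : x = 1 := by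
  classical
  have key : ∀ Q : Subgroup P, Q.Normal → Q ≤ centralizer (A : Set P) → (∀ q ∈ Q, x q ∈ Q) →
      ∀ q ∈ Q, x q = q := by
    intro Q
    induction Q using (measure fun Q : Subgroup P => Nat.card Q).wf.induction with
    | _ Q ih =>
    intro hQn hQA hxQ
    have ih' : ∀ W : Subgroup P, W < Q → W.Normal → (∀ q ∈ W, x q ∈ W) → ∀ q ∈ W, x q = q :=
      fun W hW hWn hxW => ih W (Set.Finite.card_lt_card (Set.toFinite _) hW) hWn
        (hW.le.trans hQA) hxW
    let c : P → P := fun g => g⁻¹ * x g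
    have hcQ : ∀ g ∈ Q, c g ∈ Q := fun g hg => Q.mul_mem (Q.inv_mem hg) (hxQ g hg)
    let W : Subgroup P := normalClosure (c '' Q)
    have hWQ : W ≤ Q := normalClosure_le_normal (Set.image_subset_iff.mpr hcQ)
    have hxW : ∀ q ∈ W, x q ∈ W := by
      intro q hq
      have h : W.map x.toMonoidHom ≤ W := by
        rw [map_le_iff_le_comap]
        haveI : (W.comap x.toMonoidHom).Normal := (normalClosure_normal).comap _
        refine normalClosure_le_normal ?_
        rintro _ ⟨g, hg, rfl⟩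
        show x (c g) ∈ W
        refine subset_normalClosure ⟨x g, hxQ g hg, ?_⟩
        simp [c]
      exact h ⟨q, hq, rfl⟩
    rcases lt_or_eq_of_le hWQ with hlt | hWeq
    · exact fun q hq => fix_of_fix_displacement hP hx
        (ih' W hlt normalClosure_normal hxW _ (subset_normalClosure ⟨q, hq, rfl⟩))
    by_cases hQ1 : Q = ⊥
    · intro q hq
      rw [hQ1, Subgroup.mem_bot] at hq
      rw [hq, map_one]
    haveI := (Subgroup.nontrivial_iff_ne_bot Q).mpr hQ1
    let Z : Subgroup P := (frattini Q).map Q.subtype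
    have hZQ : Z ≤ Q := map_subtype_le _
    have hZlt : Z < Q := by
      refine lt_of_le_of_ne hZQ fun e' => ?_
      have hft : frattini Q = ⊤ := by
        apply Subgroup.map_injective Q.subtype_injective
        rw [← MonoidHom.range_eq_map, Subgroup.range_subtype]
        exact e'
      obtain ⟨M, hM, -⟩ := (eq_top_or_exists_le_coatom (⊥ : Subgroup Q)).resolve_left bot_ne_top
      exact hM.1 (top_le_iff.mp (hft.ge.trans (frattini_le_coatom hM)))
    have hZn : Z.Normal := ConjAct.normal_of_characteristic_of_normal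
    have hxZ : ∀ z ∈ Z, x z ∈ Z := by
      rintro _ ⟨z, hz, rfl⟩
      let f : Q →* Q := (x.toMonoidHom.comp Q.subtype).codRestrict Q fun q => hxQ q q.2
      have hf : Function.Bijective f := Finite.injective_iff_bijective.mp fun a b h =>
        Subtype.ext (x.injective (congrArg Subtype.val h))
      exact ⟨MulEquiv.ofBijective f hf z, (Subgroup.characteristic_iff_map_le.mp
        (inferInstance : (frattini Q).Characteristic) (MulEquiv.ofBijective f hf)) ⟨z, hz, rfl⟩, rfl⟩
    have hZfix := ih' Z hZlt hZn hxZ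
    have hcent : ∀ z ∈ Z, ∀ g ∈ Q, Commute z g := by
      intro z hz g hg
      have hle : W ≤ centralizer (Z : Set P) := by
        haveI : (centralizer (Z : Set P)).Normal := by infer_instance
        refine normalClosure_le_normal ?_
        rintro _ ⟨u, hu, rfl⟩ w hw
        have h1 : x (u * w * u⁻¹) = u * w * u⁻¹ := hZfix _ (hZn.conj_mem w hw u)
        rw [map_mul, map_mul, map_inv, hZfix w hw] at h1
        show w * (u⁻¹ * x u) = u⁻¹ * x u * w
        have h2 : x u * w = u * w * u⁻¹ * x u := mul_inv_eq_iff_eq_mul.mp h1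
        rw [mul_assoc u⁻¹, h2]
        group
      exact (hle (hWeq.ge hg) z hz : z * g = g * z)
    have hfr : ∀ u ∈ Q, ∀ v ∈ Q, u⁻¹ * v⁻¹ * u * v ∈ Z ∧ u ^ p ∈ Z := fun u hu v hv =>
      ⟨⟨_, (smallExp_frattini hP Q ⟨u, hu⟩ ⟨v, hv⟩).1, rfl⟩,
        ⟨_, (smallExp_frattini hP Q ⟨u, hu⟩ ⟨v, hv⟩).2, rfl⟩⟩
    have hzp : ∀ u ∈ Q, ∀ v ∈ Q, (u⁻¹ * v⁻¹ * u * v) ^ p = 1 := by
      intro d hd g hg
      let z : P := d⁻¹ * g⁻¹ * d * g
      have hzZ : z ∈ Z := (hfr d hd g hg).1
      have hzg : Commute z g := hcent z hzZ g hg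
      have hzd : Commute z d := hcent z hzZ d hd
      have hrel : d * g = g * d * z := by simp only [z]; group
      have hconj : ∀ n : ℕ, d * g ^ n = g ^ n * d * z ^ n := by
        intro n
        induction n with
        | zero => simp
        | succ n ih =>
          calc d * g ^ (n + 1) = d * g ^ n * g := by rw [pow_succ, mul_assoc]
            _ = g ^ n * d * (z ^ n * g) := by rw [ih]; group
            _ = g ^ n * (d * g) * z ^ n := by rw [(hzg.pow_left n).eq]; group
            _ = g ^ (n + 1) * d * z ^ (n + 1) := by rw [hrel]; group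
      have := hconj p
      rw [(hcent _ (hfr g hg d hd).2 d hd).eq] at this
      exact mul_eq_left.mp this.symm
    have hgen : ∀ g ∈ Q, c g ^ e = 1 := by
      intro g hg
      set d := c g with hd
      have hdQ : d ∈ Q := hcQ g hg
      let z : P := d⁻¹ * g⁻¹ * d * g
      have hzZ : z ∈ Z := (hfr d hdQ g hg).1
      have hrel : d * g = g * d * z := by simp only [z]; group
      have hgd : g * d = x g := by simp [hd, c]
      have h := BGTypes.pow_mul_eq_of_central (hcent z hzZ g hg) (hcent z hzZ d hdQ) hrel p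
      rw [hgd, ← map_pow, hZfix _ (hfr g hg g hg).2, mul_assoc] at h
      have h1 : d ^ p * z ^ p.choose 2 = 1 := mul_eq_left.mp h.symm
      obtain ⟨k, hk⟩ := he1
      obtain ⟨m, hm⟩ := he3
      rw [hk, pow_mul, eq_inv_of_mul_eq_one_left h1, inv_pow, ← pow_mul,
        show k = e / p by rw [hk, Nat.mul_div_cancel_left _ (Fact.out (p := p.Prime)).pos], hm,
        pow_mul, hzp d hdQ g hg, one_pow, inv_one]
    let V : Subgroup P :=
      { carrier := {q | q ∈ Q ∧ q ^ e = 1}
        one_mem' := ⟨Q.one_mem, one_pow e⟩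
        mul_mem' := by
          rintro a b ⟨ha, hae⟩ ⟨hb, hbe⟩
          refine ⟨Q.mul_mem ha hb, ?_⟩
          have hz : (b⁻¹ * a⁻¹ * b * a) ∈ Z := (hfr b hb a ha).1
          obtain ⟨m, hm⟩ := he2
          rw [BGTypes.pow_mul_eq_of_central (hcent _ hz a ha) (hcent _ hz b hb) (by group) e, hae,
            hbe, hm, pow_mul, hzp b hb a ha, one_pow, mul_one, mul_one]
        inv_mem' := by
          rintro a ⟨ha, hae⟩
          exact ⟨Q.inv_mem ha, by rw [inv_pow, hae, inv_one]⟩ }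
    haveI : V.Normal := ⟨fun q hq g =>
      ⟨hQn.conj_mem q hq.1 g, by rw [conj_pow, hq.2, mul_one, mul_inv_cancel]⟩⟩
    have hQe : ∀ q ∈ Q, q ^ e = 1 := fun q hq =>
      ((normalClosure_le_normal (N := V) (by
        rintro _ ⟨g, hg, rfl⟩
        exact ⟨hcQ g hg, hgen g hg⟩)) (hWeq.ge hq)).2
    exact fun q hq => hfix q (le_of_isMaximal_smallExp hP hAc hAe hmax hQA hQe hq)
  have hxA : ∀ q ∈ centralizer (A : Set P), x q ∈ centralizer (A : Set P) := by
    intro q hq a ha
    have := congrArg x (hq a ha)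
    rwa [map_mul, map_mul, hfix a ha] at this
  have hC := key _ inferInstance le_rfl hxA
  refine MulEquiv.ext fun g => fix_of_fix_displacement hP hx (hC _ ?_)
  intro a ha
  have hga : g * a * g⁻¹ ∈ A := (inferInstance : A.Normal).conj_mem a ha g
  have h1 : x (g * a * g⁻¹) = g * a * g⁻¹ := hfix _ hga
  rw [map_mul, map_mul, map_inv, hfix a ha] at h1
  have h2 : x g * a = g * a * g⁻¹ * x g := mul_inv_eq_iff_eq_mul.mp h1
  rw [mul_assoc g⁻¹, h2]
  group

/-- A normal abelian subgroup of exponent `p` (`p` odd) or dividing `4` (`p = 2`) whose pointwise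
stabilizer in `Aut(P)` is a `p`-group. -/
theorem exists_smallExp_normal (hP : IsPGroup p P) :
    ∃ A : Subgroup P, A.Normal ∧ (∀ a ∈ A, ∀ b ∈ A, a * b = b * a) ∧
      (p ≠ 2 → ∀ a ∈ A, a ^ p = 1) ∧ (p = 2 → ∀ a ∈ A, a ^ 4 = 1) ∧
      ∀ x : MulAut P, (∀ a ∈ A, x a = a) → ∃ k : ℕ, x ^ p ^ k = 1 := by
  classical
  have hp : p.Prime := Fact.out
  let e : ℕ := if p = 2 then 4 else p
  have he : p ∣ e ∧ p ∣ e.choose 2 ∧ p ∣ p.choose 2 * (e / p) := by
    by_cases h : p = 2
    · subst h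
      simp [e, Nat.choose]
    · have : 2 < p := lt_of_le_of_ne hp.two_le (Ne.symm h)
      simp only [e, if_neg h]
      exact ⟨dvd_rfl, hp.dvd_choose_self two_ne_zero this,
        (hp.dvd_choose_self two_ne_zero this).mul_right _⟩
  obtain ⟨A, -, hA⟩ := Set.Finite.exists_le_maximal
    (Set.toFinite {B : Subgroup P | B.Normal ∧ (∀ a ∈ B, ∀ b ∈ B, a * b = b * a) ∧
      ∀ b ∈ B, b ^ e = 1})
    (show (⊥ : Subgroup P) ∈ _ from ⟨inferInstance,
      fun a ha b hb => by rw [mem_bot.mp ha, mem_bot.mp hb],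
      fun b hb => by rw [mem_bot.mp hb, one_pow]⟩)
  obtain ⟨hAn, hAc, hAe⟩ := hA.1
  refine ⟨A, hAn, hAc, fun h a ha => by simpa [e, h] using hAe a ha,
    fun h a ha => by simpa [e, h] using hAe a ha, fun x hx => ?_⟩
  have hfix : ∀ n : ℕ, ∀ a ∈ A, (x ^ n) a = a := by
    intro n
    induction n with
    | zero => simp
    | succ n ih => intro a ha; rw [pow_succ, MulAut.mul_apply, hx a ha, ih a ha]
  haveI : Finite (MulAut P) :=
    Finite.of_injective (fun a : MulAut P => (a : P → P)) fun _ _ h => MulEquiv.ext (congrFun h)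
  obtain ⟨k, m, hm, hkm⟩ := Nat.exists_eq_pow_mul_and_not_dvd (orderOf_pos x).ne' p hp.ne_one
  refine ⟨k, eq_one_of_fix_maximal_smallExp hP he.1 he.2.1 he.2.2 hAc hAe
    (fun B h1 h2 h3 h4 => le_antisymm (hA.2 ⟨h1, h2, h3⟩ h4) h4) ?_ (hfix _)⟩
  rw [orderOf_pow' x (pow_pos hp.pos k).ne', hkm,
    Nat.gcd_mul_right_left, Nat.mul_div_cancel_left _ (pow_pos hp.pos k)]
  exact (hp.coprime_iff_not_dvd.mpr hm).symm

end CfsgLib.Alperin
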