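import Cfsg.Agent.Lib.Alperin.SmallAbelian
import Cfsg.Agent.Lib.Alperin.Theorem
import Cfsg.Agent.Lib.FusionBasics.KSaturated

/-!
A saturated subsystem with the same maps on small-exponent abelian subgroups is the whole system.
-/

set_option autoImplicit false
set_option linter.style.haveILetI false

namespace CfsgLib.Alperin

open Cfsg Cfsg.FusionSystem

variable {Ω : Type*} [Group Ω] {S : Subgroup Ω} [Finite S] {p : ℕ} [Fact p.Prime]
  {E F : FusionSystem S}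

/-- A map fixing `C ≤ P` and congruent to the identity modulo `C_S(C)` lies in `E`, if `E` has the
maps of `F` on the larger subgroups and the stabilizer of `C` in `Aut(P)` is a `p`-group. -/
theorem fixing_map_mem (hS : IsPGroup p S) (hF : F.IsSaturated p) {P C : Subgroup Ω}
    (hCr : F.IsReceptive C) (hCP : C ≤ P) (hPC : P ≤ normalizerIn S C)
    (hbig : ∀ R : Subgroup Ω, Nat.card P < Nat.card R → F.Hom R ⊆ E.Hom R)
    (hstab : ∀ β : MulAut P, (∀ x : P, (x : Ω) ∈ C → β x = x) → ∃ k : ℕ, β ^ p ^ k = 1)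
    {θ : P →* Ω} (hθ : θ ∈ F.Hom P) (hfix : ∀ x : P, (x : Ω) ∈ C → θ x = x)
    (hθC : ∀ x : P, (x : Ω)⁻¹ * θ x ∈ centralizerIn S C) : θ ∈ E.Hom P := by
  classical
  have hCS : C ≤ S := hCr.1
  have hPS : P ≤ S := dom_le hθ
  haveI := finite_of_le hPS
  haveI := finite_of_le hCS
  haveI := finite_mulAut (P := C)
  set K : Subgroup (MulAut C) := autInducedBy P C with hK
  have hKp : IsPGroup p K := isPGroup_autInducedBy (isPGroup_of_le hS hPS) C
  set T := FusionBasics.normL S C K with hT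
  have hTS : T ≤ S := hT ▸ fun g hg => hg.1
  haveI : Finite T := finite_of_le hTS
  have hKS : K ≤ autInducedBy S C := fun α hα => by
    obtain ⟨g, hg, hx⟩ := mem_autInducedBy_iff.mp hα
    exact mem_autInducedBy_iff.mpr ⟨g, hPS hg, hx⟩
  have hQK : Nat.card ↥(autInducedBy S C ⊓ K) =
      p ^ (Nat.card ↥(F.autGroup C ⊓ K)).factorization p := by
    rw [inf_eq_right.mpr hKS, inf_eq_right.mpr (hKS.trans (autInducedBy_le_autGroup F hCS))]
    obtain ⟨n, hn⟩ := hKp.exists_card_eq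
    rw [hn, (Fact.out : p.Prime).factorization_pow, Finsupp.single_eq_same]
  let N : FusionSystem T := FusionBasics.kSystem F C K T hCS hTS fun g hg => by
    obtain ⟨-, β, hβ, hx⟩ := FusionBasics.mem_normL.mp (hT.le hg)
    exact ⟨β, hβ, hx⟩
  have hN : N.IsSaturated p := FusionBasics.kSystem_saturated hS hF hCr hQK hT N fun _ => rfl
  have hPT : P ≤ T := fun g hg => by
    rw [hT]
    exact ⟨hPS hg, conjAut C g (hPC hg).2,
      mem_autInducedBy_iff.mpr ⟨g, hg, fun _ => rfl⟩, fun _ => rfl⟩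
  have hθT : ∀ x : P, θ x ∈ T := fun x => by
    have h := T.mul_mem (hPT x.2)
      (hT.ge (FusionBasics.centralizerIn_le_normL S C K (hθC x)))
    rwa [mul_inv_cancel_left] at h
  have hθN : θ ∈ N.Hom P := by
    refine ⟨hθ, hPT, hθT, θ.comp (Subgroup.inclusion (sup_le le_rfl hCP)),
      restrict_mem hθ _, fun x => congrArg θ (Subtype.ext rfl), 1, K.one_mem, fun q => ?_⟩
    exact (hfix _ q.2).trans (by rw [MulAut.one_apply]; rfl)
  -- a conjugate of `P` in `N` has no automorphisms beyond those induced by `T`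
  have hauto : ∀ Q : Subgroup Ω, N.IsFullyNormalized Q → N.IsConj P Q →
      N.autGroup Q ≤ E.autGroup Q := by
    intro Q hQ hPQ
    have hQS : Q ≤ S := hQ.1.trans hTS
    haveI := finite_of_le hQS
    haveI := finite_mulAut (P := Q)
    obtain ⟨ψ, hψ, hψr⟩ := hPQ
    have hψ' := hψ
    obtain ⟨hψF, -, -, ψ', hψ', hψ'x, a, haK, hψ'q⟩ := hψ
    have hψC : ∀ (x : P) (hx : (x : Ω) ∈ C), ψ x = ((a ⟨x, hx⟩ : C) : Ω) := fun x hx =>
      ((hψ'x x).symm.trans (congrArg ψ' (Subtype.ext rfl))).trans (hψ'q ⟨x, hx⟩)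
    have hCQ : C ≤ Q := fun c hc => by
      refine hψr.le ⟨⟨_, hCP (a⁻¹ ⟨c, hc⟩).2⟩, ?_⟩
      rw [hψC _ (a⁻¹ ⟨c, hc⟩).2]
      simp
    let e : P ≃* Q := isoOfHom ψ (F.injective_of_mem hψF) hψr
    have hp' : IsPGroup p (N.autGroup Q) := by
      rintro ⟨α, hα⟩
      obtain ⟨-, -, -, χ, -, hχx, b, hbK, hχq⟩ := (mem_autGroup_iff N hQ.1).mp hα
      have hαC : ∀ (y : Q) (hy : (y : Ω) ∈ C), ((α y : Q) : Ω) = ((b ⟨y, hy⟩ : C) : Ω) :=
        fun y hy => ((hχx y).symm.trans (congrArg χ (Subtype.ext rfl))).trans (hχq ⟨y, hy⟩)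
      have hαn : ∀ (n : ℕ) (y : Q) (hy : (y : Ω) ∈ C),
          (((α ^ n) y : Q) : Ω) = (((b ^ n) ⟨y, hy⟩ : C) : Ω) := by
        intro n
        induction n with
        | zero => simp
        | succ n ih =>
          intro y hy
          have h1 := hαC y hy
          rw [pow_succ, pow_succ, MulAut.mul_apply, MulAut.mul_apply,
            ih (α y) (h1 ▸ (b ⟨y, hy⟩).2)]
          exact congrArg (fun z => (((b ^ n) z : C) : Ω)) (Subtype.ext h1)
      obtain ⟨i, hi⟩ := hKp ⟨b, hbK⟩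
      have hb : b ^ p ^ i = 1 := congrArg Subtype.val hi
      obtain ⟨k, hk⟩ := hstab ((MulAut.congr e).symm (α ^ p ^ i)) fun x hx => e.injective (by
        show e (e.symm ((α ^ p ^ i) (e x))) = e x
        rw [MulEquiv.apply_symm_apply]
        refine Subtype.ext ?_
        have hex : ((e x : Q) : Ω) ∈ C := by
          show ψ x ∈ C
          rw [hψC x hx]; exact (a ⟨x, hx⟩).2
        rw [hαn _ _ hex, hb, MulAut.one_apply])
      refine ⟨i + k, Subtype.ext ?_⟩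
      show α ^ p ^ (i + k) = 1
      rw [← map_pow, MulEquiv.map_eq_one_iff] at hk
      rw [pow_add, pow_mul, hk]
    obtain ⟨-, R, hR⟩ :=
      (centralized_automized_of_fullyNormalized (isPGroup_of_le hS hTS) hN hQ).2
    have hRtop : (R : Subgroup (N.autGroup Q)) = ⊤ :=
      (R.is_maximal' (hp'.to_subgroup ⊤) le_top).symm
    intro α hα
    have hαR : (⟨α, hα⟩ : N.autGroup Q) ∈ (R : Subgroup (N.autGroup Q)) :=
      hRtop ▸ Subgroup.mem_top _
    rw [hR] at hαR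
    obtain ⟨g, hg, hx⟩ := mem_autInducedBy_iff.mp hαR
    exact (mem_autGroup_iff E hQS).mpr (mem_of_conj hQS (hTS hg) fun x => hx x)
  rcases hPT.eq_or_lt with heq | hlt
  · have hr : θ.range = P := by
      exact Subgroup.eq_of_le_of_card_ge ((range_le hθN).trans heq.ge)
        (card_range_eq (F.injective_of_mem hθ)).ge
    obtain ⟨α, hα, hαx⟩ := exists_aut_of_hom N hθN hr
    have hfn : N.IsFullyNormalized P := heq.symm ▸ isFullyNormalized_top N
    exact mem_of_apply_eq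
      ((mem_autGroup_iff E hPS).mp (hauto P hfn (isConj_refl N hPT) hα)) fun x => (hαx x).symm
  obtain ⟨Q, hPQ, hQ⟩ := exists_isFullyNormalized N hPT
  have hcP : Nat.card θ.range = Nat.card P := card_range_eq (F.injective_of_mem hθ)
  have hRT : θ.range < T := by
    refine lt_of_le_of_ne (range_le hθN) fun h => hlt.ne ?_
    exact Subgroup.eq_of_le_of_card_ge hPT (by rw [← hcP, h])
  have hT' := isPGroup_of_le hS hTS
  have hlarge : ∀ P' : Subgroup Ω, Nat.card P' = Nat.card P → P' < T →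
      ∀ φ ∈ N.Hom (normalizerIn T P'), φ ∈ E.Hom _ := by
    intro P' hc hP' φ hφ
    refine hbig _ ?_ hφ.1
    haveI := finite_of_le ((normalizerIn_le T P').trans hTS)
    have h := lt_normalizerIn hT' hP'
    rw [← hc]
    exact lt_of_le_of_ne (Nat.card_le_card_of_injective _ (Subgroup.inclusion_injective h.le))
      fun h' => h.ne (Subgroup.eq_of_le_of_card_ge h.le h'.ge)
  obtain ⟨ψ₁, hψ₁, -, hm₁⟩ := exists_hom_normalizerIn_of_fullyNormalized hT' hN hQ hPQ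
  obtain ⟨ψ₂, hψ₂, -, hm₂⟩ := exists_hom_normalizerIn_of_fullyNormalized hT' hN hQ
    (IsConj.trans (IsConj.symm (isConj_of_hom hθN)) hPQ)
  have hE₁ := hlarge P rfl hlt ψ₁ hψ₁
  have hE₂ := hlarge _ hcP hRT ψ₂ hψ₂
  let a₁ : P →* Ω := ψ₁.comp (Subgroup.inclusion (le_normalizerIn hPT))
  let a₂ : θ.range →* Ω := ψ₂.comp (Subgroup.inclusion (le_normalizerIn (range_le hθN)))
  have ha₁r : a₁.range = Q := (range_comp_inclusion _ _).trans hm₁
  have ha₂r : a₂.range = Q := (range_comp_inclusion _ _).trans hm₂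
  have hN₁ : a₁ ∈ N.Hom P := restrict_mem hψ₁ _
  have hN₂ : a₂ ∈ N.Hom θ.range := restrict_mem hψ₂ _
  have hE₁' : a₁ ∈ E.Hom P := restrict_mem hE₁ _
  have hE₂' : a₂ ∈ E.Hom θ.range := restrict_mem hE₂ _
  set e₁ := isoOfHom a₁ (N.injective_of_mem hN₁) ha₁r
  set e₂ := isoOfHom a₂ (N.injective_of_mem hN₂) ha₂r
  set e₀ := isoOfHom θ (F.injective_of_mem hθ) rfl
  let α : MulAut Q := (e₁.symm.trans e₀).trans e₂
  have hαN : α ∈ N.autGroup Q := by
    refine (mem_autGroup_iff N hQ.1).mpr ?_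
    have h1 : θ.range.subtype.comp (e₁.symm.trans e₀).toMonoidHom ∈ N.Hom Q :=
      comp_mem_apply (isoOfHom_symm_mem hN₁ ha₁r) hθN (fun y => (e₁.symm y).2) fun y => rfl
    exact comp_mem_apply h1 hN₂ (fun y => (e₀ (e₁.symm y)).2) fun y => rfl
  have hαE := hauto Q hQ hPQ hαN
  have h1 : Q.subtype.comp (e₁.trans α).toMonoidHom ∈ E.Hom P :=
    comp_mem_apply hE₁' ((mem_autGroup_iff E (hQ.1.trans hTS)).mp hαE)
      (fun x => ha₁r.le ⟨x, rfl⟩) fun x => rfl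
  refine comp_mem_apply h1 (isoOfHom_symm_mem hE₂' ha₂r) (fun x => (α (e₁ x)).2) fun x => ?_
  show θ x = ((e₂.symm (α (e₁ x)) : θ.range) : Ω)
  simp [α, e₀]

/-- A saturated subsystem containing the maps of `F` on abelian subgroups of exponent `p` (`p` odd),
respectively dividing `4` (`p = 2`), contains all maps of `F`. -/
theorem hom_subset_of_smallExp (hS : IsPGroup p S) (hE : E.IsSaturated p) (hF : F.IsSaturated p)
    (hEF : E.IsSubsystemOf F)
    (hsmall : ∀ (A : Subgroup Ω) (φ : A →* Ω), φ ∈ F.Hom A →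
      (∀ a ∈ A, ∀ b ∈ A, a * b = b * a) →
      ((p ≠ 2 ∧ ∀ a ∈ A, a ^ p = 1) ∨ (p = 2 ∧ ∀ a ∈ A, a ^ 4 = 1)) → φ ∈ E.Hom A) :
    ∀ P : Subgroup Ω, F.Hom P ⊆ E.Hom P := by
  classical
  suffices h : ∀ (n : ℕ) (P : Subgroup Ω), Nat.card S - Nat.card P = n → F.Hom P ⊆ E.Hom P from
    fun P => h _ P rfl
  intro n
  induction n using Nat.strong_induction_on with
  | _ n ih =>
  intro P hn g hg
  have hPS : P ≤ S := dom_le hg
  haveI := finite_of_le hPS
  have hbig : ∀ R : Subgroup Ω, Nat.card P < Nat.card R → F.Hom R ⊆ E.Hom R := by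
    intro R hR φ hφ
    have h2 : Nat.card R ≤ Nat.card S :=
      Nat.card_le_card_of_injective _ (Subgroup.inclusion_injective (dom_le hφ))
    exact ih _ (by omega) R rfl hφ
  obtain ⟨A₀, hA₀n, hA₀c, hA₀p, hA₀2, hA₀s⟩ := exists_smallExp_normal (isPGroup_of_le hS hPS)
  set A : Subgroup Ω := A₀.map P.subtype with hA
  have hAP : A ≤ P := Subgroup.map_subtype_le _
  have hmemA : ∀ x : P, (x : Ω) ∈ A ↔ x ∈ A₀ := fun x => by
    rw [hA]; exact Subgroup.mem_map_iff_mem P.subtype_injective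
  have hAc : ∀ a ∈ A, ∀ b ∈ A, a * b = b * a := by
    rintro _ ⟨a, ha, rfl⟩ _ ⟨b, hb, rfl⟩
    exact congrArg Subtype.val (hA₀c a ha b hb)
  -- the restriction of `g` to `A` lies in `E`
  let φ : A →* Ω := g.comp (Subgroup.inclusion hAP)
  have hφF : φ ∈ F.Hom A := restrict_mem hg hAP
  have hφE : φ ∈ E.Hom A := by
    refine hsmall A φ hφF hAc ?_
    by_cases hp : p = 2
    · exact Or.inr ⟨hp, by rintro _ ⟨a, ha, rfl⟩; exact congrArg Subtype.val (hA₀2 hp a ha)⟩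
    · exact Or.inl ⟨hp, by rintro _ ⟨a, ha, rfl⟩; exact congrArg Subtype.val (hA₀p hp a ha)⟩
  set B := φ.range with hB
  obtain ⟨C, hBC, hC⟩ := exists_isFullyNormalized E (range_le hφE)
  have hCF : F.IsFullyNormalized C := by
    refine ⟨hC.1, fun R hR => ?_⟩
    obtain ⟨τ, hτ, hτr⟩ := hR
    -- `E` and `F` have the same maps on `A`, hence the same classes
    obtain ⟨σ, hσ, hσr⟩ := IsConj.trans (isConj_of_hom hφF)
      (IsConj.trans ⟨_, hEF _ hBC.choose_spec.1, hBC.choose_spec.2⟩ ⟨τ, hτ, hτr⟩)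
    refine hC.2 R (IsConj.trans (IsConj.symm hBC)
      (IsConj.trans (IsConj.symm (isConj_of_hom hφE)) ⟨σ, ?_, hσr⟩))
    refine hsmall A σ hσ hAc ?_
    by_cases hp : p = 2
    · exact Or.inr ⟨hp, by rintro _ ⟨a, ha, rfl⟩; exact congrArg Subtype.val (hA₀2 hp a ha)⟩
    · exact Or.inl ⟨hp, by rintro _ ⟨a, ha, rfl⟩; exact congrArg Subtype.val (hA₀p hp a ha)⟩
  obtain ⟨χ, hχ, hχN, hχm⟩ := exists_hom_normalizerIn_of_fullyNormalized hS hE hC hBC
  -- `g(P)` normalizes `B`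
  have hBN : ∀ x : P, g x ∈ normalizerIn S B := by
    intro x
    refine apply_mem_normalizerIn hg hAP ?_ x ?_
    · rw [hB, range_comp_inclusion]
    · exact Subgroup.mem_normalizer_iff.mpr fun y => by
        constructor
        · rintro ⟨a, ha, rfl⟩
          exact ⟨x * a * x⁻¹, hA₀n.conj_mem a ha x, rfl⟩
        · rintro ⟨a, ha, hay⟩
          refine ⟨x⁻¹ * a * x⁻¹⁻¹, hA₀n.conj_mem a ha x⁻¹, ?_⟩
          show (x : Ω)⁻¹ * (a : Ω) * (x : Ω)⁻¹⁻¹ = y
          rw [show ((a : P) : Ω) = (x : Ω) * y * (x : Ω)⁻¹ from hay]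
          group
  have hgN : g.range ≤ normalizerIn S B := by rintro _ ⟨x, rfl⟩; exact hBN x
  -- `g₁ = χ ∘ g`, with image `P'`
  let g₁ : P →* Ω := χ.comp (g.codRestrict _ hBN)
  have hg₁ : g₁ ∈ F.Hom P := comp_mem_apply hg (hEF _ hχ) hBN fun _ => rfl
  have hφ₁r : (g₁.comp (Subgroup.inclusion hAP)).range = C := by
    refine le_antisymm ?_ ?_
    · rintro _ ⟨a, rfl⟩
      exact hχm.le ⟨_, ⟨a, rfl⟩, rfl⟩
    · intro c hc
      obtain ⟨b, hb, rfl⟩ := hχm.ge hc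
      obtain ⟨a, ha⟩ := (hb : (b : Ω) ∈ φ.range)
      exact ⟨a, congrArg χ (Subtype.ext ha)⟩
  let φ₁ : A →* Ω := g₁.comp (Subgroup.inclusion hAP)
  have hφ₁E : φ₁ ∈ E.Hom A :=
    comp_mem_apply hφE hχ (fun a => hBN _) fun _ => rfl
  have hCr := receptive_of_fullyNormalized hS hE hC
  obtain ⟨h, hh, hhx⟩ := hCr.2 A φ₁ hφ₁E hφ₁r
  have hPext : P ≤ extender S A φ₁ := by
    intro x hx
    refine mem_extender_iff.mpr ⟨hPS hx, ?_, g₁ ⟨x, hx⟩, apply_mem hg₁ _, fun a ha => ?_⟩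
    · exact Subgroup.mem_normalizer_iff.mpr fun y => by
        constructor
        · rintro ⟨a, ha, rfl⟩
          exact ⟨⟨x, hx⟩ * a * ⟨x, hx⟩⁻¹, hA₀n.conj_mem a ha _, rfl⟩
        · rintro ⟨a, ha, hay⟩
          refine ⟨⟨x, hx⟩⁻¹ * a * ⟨x, hx⟩⁻¹⁻¹, hA₀n.conj_mem a ha _, ?_⟩
          show x⁻¹ * (a : Ω) * x⁻¹⁻¹ = y
          rw [show ((a : P) : Ω) = x * y * x⁻¹ from hay]
          group
    · show g₁ _ = g₁ _ * g₁ _ * (g₁ _)⁻¹
      rw [← map_mul, ← map_inv, ← map_mul]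
      exact congrArg g₁ (Subtype.ext rfl)
  let h' : P →* Ω := h.comp (Subgroup.inclusion hPext)
  have hh' : h' ∈ E.Hom P := restrict_mem hh hPext
  have hh'a : ∀ (x : P), (x : Ω) ∈ A → h' x = g₁ x := fun x hx => hhx x hx (hPext x.2)
  set P' := g₁.range with hP'
  let e₁ := isoOfHom g₁ (F.injective_of_mem hg₁) rfl
  let θ : P' →* Ω := h'.comp e₁.symm.toMonoidHom
  have hθ : θ ∈ F.Hom P' := comp_mem_apply (isoOfHom_symm_mem hg₁ rfl) (hEF _ hh')
    (fun y => (e₁.symm y).2) fun _ => rfl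
  have hCP' : C ≤ P' := fun c hc => by
    obtain ⟨a, rfl⟩ := hφ₁r.ge hc
    exact ⟨_, rfl⟩
  have hsymC : ∀ y : P', (y : Ω) ∈ C → ((e₁.symm y : P) : Ω) ∈ A := by
    intro y hy
    obtain ⟨a, ha⟩ := hφ₁r.ge hy
    have : e₁.symm y = Subgroup.inclusion hAP a := e₁.symm_apply_eq.mpr (Subtype.ext ha.symm)
    rw [this]
    exact a.2
  have hg₁e : ∀ y : P', g₁ (e₁.symm y) = y := fun y => congrArg Subtype.val (e₁.apply_symm_apply y)
  have hfixθ : ∀ y : P', (y : Ω) ∈ C → θ y = y := fun y hy =>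
    (hh'a _ (hsymC y hy)).trans (hg₁e y)
  have hP'N : P' ≤ normalizerIn S C := by
    rintro _ ⟨x, rfl⟩
    exact hχN _
  have hCeq : ∀ y : P', (y : Ω)⁻¹ * θ y ∈ centralizerIn S C := by
    intro y
    have hyS : θ y ∈ S := apply_mem hθ y
    refine ⟨S.mul_mem (S.inv_mem ((hP'N y.2).1)) hyS, fun c hc => ?_⟩
    have hyc : (y : Ω) * c * (y : Ω)⁻¹ ∈ C := mem_normalizer_conj (hP'N y.2).2 hc
    have h1 : θ ⟨(y : Ω) * c * (y : Ω)⁻¹, hCP' hyc⟩ = (y : Ω) * c * (y : Ω)⁻¹ := hfixθ _ hyc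
    rw [show (⟨(y : Ω) * c * (y : Ω)⁻¹, hCP' hyc⟩ : P') = y * ⟨c, hCP' hc⟩ * y⁻¹ from Subtype.ext rfl,
      map_mul, map_mul, map_inv, hfixθ ⟨c, hCP' hc⟩ hc] at h1
    have h2 : θ y * c = (y : Ω) * c * (y : Ω)⁻¹ * θ y := mul_inv_eq_iff_eq_mul.mp h1
    show c * ((y : Ω)⁻¹ * θ y) = (y : Ω)⁻¹ * θ y * c
    rw [mul_assoc (y : Ω)⁻¹, h2]
    group
  have hcard : Nat.card P' = Nat.card P := card_range_eq (F.injective_of_mem hg₁)
  have hθE : θ ∈ E.Hom P' := by
    refine fixing_map_mem hS hF (receptive_of_fullyNormalized hS hF hCF) hCP' hP'N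
      (fun R hR => hbig R (hcard ▸ hR)) (fun β hβ => ?_) hθ hfixθ hCeq
    obtain ⟨k, hk⟩ := hA₀s ((MulAut.congr e₁).symm β) fun a ha => e₁.injective (by
      show e₁ (e₁.symm (β (e₁ a))) = e₁ a
      rw [MulEquiv.apply_symm_apply]
      exact hβ _ (hφ₁r.le ⟨⟨a, (hmemA a).mpr ha⟩, congrArg g₁ (Subtype.ext rfl)⟩))
    rw [← map_pow, MulEquiv.map_eq_one_iff] at hk
    exact ⟨k, hk⟩
  -- recover `g`
  obtain ⟨θi, hθi, -, hθ1, -⟩ := exists_inverse hθE rfl
  have hhθ : ∀ x : P, h' x ∈ θ.range := fun x =>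
    ⟨e₁ x, congrArg h' (e₁.symm_apply_apply x)⟩
  have hg₁E : g₁ ∈ E.Hom P := by
    refine comp_mem_apply hh' hθi hhθ fun x => ?_
    have := hθ1 (e₁ x) ⟨e₁ x, rfl⟩
    refine (this.symm.trans ?_).trans rfl
    exact congrArg θi (Subtype.ext (congrArg h' (e₁.symm_apply_apply x)))
  obtain ⟨χi, hχi, -, hχ1, -⟩ := exists_inverse hχ rfl
  refine comp_mem_apply hg₁E hχi (fun x => ⟨_, rfl⟩) fun x => ?_
  exact ((hχ1 ⟨g x, hBN x⟩ ⟨_, rfl⟩).symm)

end CfsgLib.Alperin
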