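import Cfsg.Agent.Lib.Alperin.CyclicSeries
import Cfsg.Agent.Lib.FusionBasics.Extension
import Cfsg.Agent.Lib.FusionBasics.Normal
import Cfsg.Agent.Lib.FusionExamples.Basic
import Mathlib.GroupTheory.SchurZassenhaus

/-!
Supersoluble fusion systems: a chain of strongly closed subgroups with cyclic steps.
-/

set_option autoImplicit false
set_option linter.style.haveILetI false
set_option linter.unusedSectionVars false

open scoped commutatorElement

namespace CfsgLib.Alperin

open Cfsg Cfsg.FusionSystem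

variable {Ω : Type*} [Group Ω] {S : Subgroup Ω}

/-- A chain of strongly closed subgroups from `⊥` to `S` with cyclic steps. -/
def HasCyclicChain (F : FusionSystem S) : Prop :=
  ∃ (m : ℕ) (c : Fin (m + 1) → Subgroup Ω), c 0 = ⊥ ∧ c (Fin.last m) = S ∧
    (∀ i : Fin (m + 1), F.StronglyClosed (c i)) ∧
    ∀ i : Fin m, c i.castSucc ≤ c i.succ ∧ ∃ x ∈ S, c i.succ = c i.castSucc ⊔ Subgroup.zpowers x

theorem normal_subgroupOf_of_stronglyClosed {F : FusionSystem S} {C : Subgroup Ω}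
    (hC : F.StronglyClosed C) {P : Subgroup Ω} (hP : P ≤ S) : (C.subgroupOf P).Normal := by
  refine ⟨fun x hx g => ?_⟩
  show (g : Ω) * (x : Ω) * (g : Ω)⁻¹ ∈ C
  exact hC.2 C le_rfl _ (F.conj_mem hC.1 (hP g.2)) ⟨(x : Ω), hx⟩

/-- A chain of strongly closed subgroups cuts a cyclic series out of every subgroup of `S`. -/
theorem cyclicSeries_of_chain {F : FusionSystem S} {m : ℕ} {c : Fin (m + 1) → Subgroup Ω}
    (h0 : c 0 = ⊥) (hm : c (Fin.last m) = S) (hc : ∀ i, F.StronglyClosed (c i))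
    (hstep : ∀ i : Fin m, c i.castSucc ≤ c i.succ ∧
      ∃ x ∈ S, c i.succ = c i.castSucc ⊔ Subgroup.zpowers x)
    {P : Subgroup Ω} (hP : P ≤ S) : CyclicSeries fun i => (c i).subgroupOf P where
  zero := by rw [h0, Subgroup.bot_subgroupOf]
  last := by rw [hm, Subgroup.subgroupOf_eq_top.mpr hP]
  mono i := Subgroup.comap_mono (hstep i).1
  normal i := normal_subgroupOf_of_stronglyClosed (hc i) hP
  cyclic i := by
    obtain ⟨x, hxS, hx⟩ := (hstep i).2
    haveI := normal_subgroupOf_of_stronglyClosed (hc i.castSucc) (le_refl S)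
    let f : P →* S ⧸ (c i.castSucc).subgroupOf S :=
      (QuotientGroup.mk' _).comp (Subgroup.inclusion hP)
    set J := ((c i.succ).subgroupOf P).map f with hJ
    have hle : J ≤ Subgroup.zpowers (QuotientGroup.mk' _ (⟨x, hxS⟩ : S)) := by
      rintro _ ⟨z, hz, rfl⟩
      have hz' : (⟨(z : Ω), hP z.2⟩ : S) ∈ (c i.succ).subgroupOf S := hz
      rw [hx, Subgroup.subgroupOf_sup (hc _).1 (Subgroup.zpowers_le.mpr hxS),
        Subgroup.mem_sup_of_normal_left] at hz'
      obtain ⟨a, ha, b, hb, hab⟩ := hz'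
      obtain ⟨k, hk⟩ := Subgroup.mem_zpowers_iff.mp hb
      refine Subgroup.mem_zpowers_iff.mpr ⟨k, ?_⟩
      show _ = QuotientGroup.mk' _ (⟨(z : Ω), hP z.2⟩ : S)
      rw [← hab, map_mul, show QuotientGroup.mk' _ a = 1 from (QuotientGroup.eq_one_iff a).mpr ha,
        one_mul, ← map_zpow]
      exact congrArg _ (Subtype.ext hk)
    haveI : IsCyclic J := isCyclic_of_injective (Subgroup.inclusion hle)
      (Subgroup.inclusion_injective hle)
    obtain ⟨⟨g, y₀, hy₀, rfl⟩, hg⟩ := IsCyclic.exists_generator (α := J)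
    refine ⟨y₀, hy₀, fun y hy => ?_⟩
    obtain ⟨k, hk⟩ := Subgroup.mem_zpowers_iff.mp (hg ⟨f y, y, hy, rfl⟩)
    have hk' : f y₀ ^ k = f y := by simpa using congrArg Subtype.val hk
    refine ⟨k, ?_⟩
    show ((y₀ ^ k)⁻¹ * y : P).1 ∈ c i.castSucc
    have : f ((y₀ ^ k)⁻¹ * y) = 1 := by rw [map_mul, map_inv, map_zpow, hk', inv_mul_cancel]
    exact (QuotientGroup.eq_one_iff (Subgroup.inclusion hP ((y₀ ^ k)⁻¹ * y))).mp this

theorem preserves_of_chain {F : FusionSystem S} {m : ℕ} {c : Fin (m + 1) → Subgroup Ω}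
    (hc : ∀ i, F.StronglyClosed (c i)) {P : Subgroup Ω} (hP : P ≤ S) {α : MulAut P}
    (hα : α ∈ F.autGroup P) : Preserves (fun i => (c i).subgroupOf P) α := fun i y hy =>
  CfsgLib.FusionBasics.aut_apply_mem_of_stronglyClosed (hc i) hP hα y hy

/-- A saturated system with a cyclic chain of strongly closed subgroups has `S` normal. -/
theorem isNormal_of_hasCyclicChain [Finite S] {p : ℕ} [Fact p.Prime] (hS : IsPGroup p S)
    {F : FusionSystem S} (hF : F.IsSaturated p) (h : HasCyclicChain F) : F.IsNormal S := by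
  obtain ⟨m, c, h0, hm, hc, hstep⟩ := h
  refine CfsgLib.FusionExamples.isNormal_top_of_radical hS hF fun P _ hcen hrad => ?_
  have hP := hcen.1
  haveI := finite_of_le hP
  set d := fun i => (c i).subgroupOf P with hd
  have hser : CyclicSeries d := cyclicSeries_of_chain h0 hm hc hstep hP
  set G := F.autGroup P
  let N : Subgroup G := (factorStab d).subgroupOf G
  have hcomm : ∀ a b : G, ⁅a, b⁆ ∈ N := fun a b => by
    show ((⁅a, b⁆ : G) : MulAut P) ∈ factorStab d
    exact commutatorElement_mem_factorStab hser (preserves_of_chain hc hP a.2)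
      (preserves_of_chain hc hP b.2)
  haveI hNn : N.Normal := ⟨fun x hx g => by
    rw [show g * x * g⁻¹ = ⁅g, x⁆ * x by simp [commutatorElement_def]]
    exact mul_mem (hcomm g x) hx⟩
  let R : Subgroup G := (autInducedBy S P).subgroupOf G
  haveI : (N ⊔ R).Normal := ⟨fun x hx g => by
    rw [show g * x * g⁻¹ = ⁅g, x⁆ * x by simp [commutatorElement_def]]
    exact mul_mem (Subgroup.mem_sup_left (hcomm g x)) hx⟩
  refine CfsgLib.FusionExamples.eq_top_of_radical hS hcen (Or.inr hrad) (K := N ⊔ R) ?_ le_sup_right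
  refine IsPGroup.to_sup_of_normal_left ?_ ?_
  · exact (isPGroup_factorStab (isPGroup_of_le hS hP) hser.zero hser.last).comap_of_injective _
      G.subtype_injective
  · exact (isPGroup_autInducedBy hS P).comap_of_injective _ G.subtype_injective

/-! ### The system of the restrictions of a group of automorphisms -/

theorem autInducedBy_self_normal (S : Subgroup Ω) : (autInducedBy S S).Normal := by
  refine ⟨fun β hβ α => ?_⟩
  obtain ⟨g, hg, hx⟩ := mem_autInducedBy_iff.mp hβ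
  refine mem_autInducedBy_iff.mpr ⟨(α ⟨g, hg⟩ : S), (α ⟨g, hg⟩).2, fun x => ?_⟩
  have h : β (α⁻¹ x) = ⟨g, hg⟩ * α⁻¹ x * ⟨g, hg⟩⁻¹ := Subtype.ext (hx _)
  rw [MulAut.mul_apply, MulAut.mul_apply, h, map_mul, map_mul, map_inv, MulAut.apply_inv_self]
  rfl

/-- The maps that are restrictions of members of `A`. -/
def autSystem (A : Subgroup (MulAut S)) (hA : autInducedBy S S ≤ A) : FusionSystem S where
  Hom P := {φ | ∃ hP : P ≤ S, ∃ α ∈ A, ∀ x : P, φ x = ((α ⟨x, hP x.2⟩ : S) : Ω)}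
  le_of_mem := by
    rintro P φ ⟨hP, α, -, h⟩
    exact ⟨hP, fun x => h x ▸ (α _).2⟩
  injective_of_mem := by
    rintro P φ ⟨hP, α, -, h⟩ a b hab
    rw [h, h] at hab
    exact Subgroup.inclusion_injective hP (α.injective (Subtype.ext hab))
  conj_mem := by
    intro P g hP hg
    exact ⟨hP, conjAut S g (Subgroup.le_normalizer hg), hA (conjAut_mem hg _), fun x => rfl⟩
  comp_mem := by
    rintro P Q φ ψ ⟨hP, α, hα, hαx⟩ ⟨hQ, β, hβ, hβx⟩ h
    refine ⟨hP, β * α, mul_mem hβ hα, fun x => ?_⟩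
    show ψ ⟨φ x, h x⟩ = _
    rw [hβx, MulAut.mul_apply]
    exact congrArg (fun z => ((β z : S) : Ω)) (Subtype.ext (hαx x))
  inv_mem := by
    rintro P φ ⟨hP, α, hα, hαx⟩
    have hr : φ.range ≤ S := by rintro _ ⟨x, rfl⟩; rw [hαx]; exact (α _).2
    refine ⟨S.subtype.comp (α⁻¹.toMonoidHom.comp (Subgroup.inclusion hr)),
      ⟨hr, α⁻¹, inv_mem hα, fun y => rfl⟩, fun x => ?_⟩
    show ((α⁻¹ ⟨φ x, _⟩ : S) : Ω) = x
    rw [show (⟨φ x, _⟩ : S) = α ⟨x, hP x.2⟩ from Subtype.ext (hαx x), MulAut.inv_apply_self]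

variable {A : Subgroup (MulAut S)} {hA : autInducedBy S S ≤ A}

theorem autSystem_autGroup_top : (autSystem A hA).autGroup S = A := by
  ext α
  rw [mem_autGroup_iff _ le_rfl]
  constructor
  · rintro ⟨_, β, hβ, h⟩
    have : α = β := MulEquiv.ext fun x => Subtype.ext (h x)
    exact this ▸ hβ
  · exact fun hα => ⟨le_rfl, α, hα, fun x => rfl⟩

theorem autSystem_isSaturated [Finite S] {p : ℕ} [Fact p.Prime] (hS : IsPGroup p S)
    (hidx : ¬ p ∣ ((autInducedBy S S).subgroupOf A).index) : (autSystem A hA).IsSaturated p := by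
  refine CfsgLib.FusionBasics.isSaturated_of_top_of_receptive hS _ ?_ fun P hP => ?_
  · have hR : ¬ p ∣ ((autInducedBy S S).subgroupOf ((autSystem A hA).autGroup S)).index := by
      rw [autSystem_autGroup_top]; exact hidx
    exact ⟨le_rfl, IsPGroup.toSylow ((isPGroup_autInducedBy hS S).comap_of_injective _
      (Subgroup.subtype_injective _)) hR, IsPGroup.toSylow_coe _ _⟩
  · refine ⟨hP.1, fun R φ hφ _ => ?_⟩
    obtain ⟨hR, α, hα, hx⟩ := hφ
    have hN := extender_le (S := S) R φ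
    exact ⟨S.subtype.comp (α.toMonoidHom.comp (Subgroup.inclusion hN)), ⟨hN, α, hα, fun y => rfl⟩,
      fun x hxR hxN => (hx ⟨x, hxR⟩).symm⟩

theorem index_sup_autInducedBy [Finite S] {p : ℕ} [Fact p.Prime] (H : Subgroup (MulAut S))
    (hH : (Nat.card H).Coprime p) :
    ¬ p ∣ ((autInducedBy S S).subgroupOf (autInducedBy S S ⊔ H)).index := by
  haveI := autInducedBy_self_normal S
  intro h
  have h2 : ((autInducedBy S S).subgroupOf (autInducedBy S S ⊔ H)).index ∣ Nat.card H := by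
    show (autInducedBy S S).relIndex (autInducedBy S S ⊔ H) ∣ _
    rw [sup_comm, Subgroup.relIndex_sup_right]
    exact Subgroup.relIndex_dvd_card _ _
  exact (Fact.out : p.Prime).ne_one (Nat.eq_one_of_dvd_coprimes hH (h.trans h2) dvd_rfl)

/-- If every saturated system has a cyclic chain then `p'`-groups of automorphisms of `S` are
abelian of exponent dividing `p - 1`. -/
theorem pPrimeAut_of_hasCyclicChain [Finite S] {p : ℕ} [Fact p.Prime] (hS : IsPGroup p S)
    (h : ∀ F : FusionSystem S, F.IsSaturated p → HasCyclicChain F) (H : Subgroup (MulAut S))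
    (hH : (Nat.card H).Coprime p) :
    IsMulCommutative H ∧ ∀ a ∈ H, a ^ (p - 1) = 1 := by
  haveI := finite_mulAut (P := S)
  have hF := autSystem_isSaturated (A := autInducedBy S S ⊔ H) (hA := le_sup_left) hS
    (index_sup_autInducedBy H hH)
  obtain ⟨m, c, h0, hm, hc, hstep⟩ := h _ hF
  have hser := cyclicSeries_of_chain h0 hm hc hstep (le_refl S)
  have hpres : ∀ a ∈ H, Preserves (fun i => (c i).subgroupOf S) a := fun a ha =>
    preserves_of_chain hc le_rfl
      ((autSystem_autGroup_top (A := autInducedBy S S ⊔ H) (hA := le_sup_left)).ge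
        (Subgroup.mem_sup_right ha))
  have hcop : ∀ a ∈ H, (orderOf a).Coprime p := fun a ha =>
    hH.coprime_dvd_left ((H.orderOf_mk a ha).symm ▸ orderOf_dvd_natCard (⟨a, ha⟩ : H))
  refine ⟨⟨⟨fun a b => Subtype.ext ?_⟩⟩, fun a ha => pow_sub_one_eq_one hS hser (hpres a ha) (hcop a ha)⟩
  show (a : MulAut S) * b = b * a
  refine commutatorElement_eq_one_iff_mul_comm.mp (eq_one_of_factorStab hS hser.zero hser.last ?_
    (commutatorElement_mem_factorStab hser (hpres a a.2) (hpres b b.2)))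
  exact hcop _ (by
    have : ⁅(a : MulAut S), (b : MulAut S)⁆ = ((⁅a, b⁆ : H) : MulAut S) := rfl
    rw [this]; exact SetLike.coe_mem _)

/-- One step of a chain in `S`: a larger normal `H`-invariant subgroup with cyclic quotient. -/
def InvStep (H : Subgroup (MulAut S)) (N M : Subgroup S) : Prop :=
  M.Normal ∧ (∀ h ∈ H, ∀ x ∈ M, h x ∈ M) ∧ ∃ x, M = N ⊔ Subgroup.zpowers x

theorem exists_invStep [Finite S] {p : ℕ} [Fact p.Prime] (hS : IsPGroup p S)
    {H : Subgroup (MulAut S)} (hc : ∀ a ∈ H, ∀ b ∈ H, a * b = b * a)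
    (he : ∀ a ∈ H, a ^ (p - 1) = 1) {N : Subgroup S} [hN : N.Normal]
    (hinv : ∀ h ∈ H, ∀ x ∈ N, h x ∈ N) (hne : N ≠ ⊤) : ∃ M, InvStep H N M ∧ N < M := by
  haveI : Nontrivial (S ⧸ N) :=
    QuotientGroup.nontrivial_iff.mpr hne
  have hmap : ∀ h ∈ H, N.map (h : MulAut S).toMonoidHom = N := fun h hh =>
    Subgroup.eq_of_le_of_card_ge (by rintro _ ⟨x, hx, rfl⟩; exact hinv h hh x hx)
      (Subgroup.card_map_of_injective h.injective).ge
  let q : H → MulAut (S ⧸ N) := fun h => QuotientGroup.congr N N h.1 (hmap h.1 h.2)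
  have hq : ∀ (h : H) (x : S), q h (x : S ⧸ N) = ((h.1 x : S) : S ⧸ N) := fun h x => rfl
  have hqm : ∀ a b : H, q (a * b) = q a * q b := fun a b => MulEquiv.ext fun z => by
    obtain ⟨x, rfl⟩ := QuotientGroup.mk_surjective z
    rw [MulAut.mul_apply, hq, hq, hq]
    rfl
  let Q : H →* MulAut (S ⧸ N) := MonoidHom.mk' q hqm
  obtain ⟨z, hz1, hzc, -, hza⟩ := exists_common_eigen (P := S ⧸ N) (hS.to_quotient N)
    (Set.range q) (by
      rintro _ ⟨a, rfl⟩ _ ⟨b, rfl⟩
      rw [← hqm, ← hqm]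
      exact congrArg q (Subtype.ext (hc a a.2 b b.2)))
    (by
      rintro _ ⟨a, rfl⟩
      show Q a ^ (p - 1) = 1
      rw [← map_pow, show a ^ (p - 1) = 1 from Subtype.ext (he a a.2), map_one])
  obtain ⟨x, rfl⟩ := QuotientGroup.mk_surjective z
  have hgen : ∀ y ∈ N ⊔ Subgroup.zpowers x, ∃ a ∈ N, ∃ k : ℤ, y = a * x ^ k := by
    intro y hy
    obtain ⟨a, ha, b, ⟨k, rfl⟩, rfl⟩ := Subgroup.mem_sup_of_normal_left.mp hy
    exact ⟨a, ha, k, rfl⟩
  refine ⟨N ⊔ Subgroup.zpowers x, ⟨⟨fun y hy g => ?_⟩, fun h hh y hy => ?_, x, rfl⟩, ?_⟩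
  · obtain ⟨a, ha, k, rfl⟩ := hgen y hy
    have hgx : g * x * g⁻¹ * x⁻¹ ∈ N := by
      rw [← QuotientGroup.eq_one_iff]
      simp only [QuotientGroup.mk_mul, QuotientGroup.mk_inv]
      rw [Subgroup.mem_center_iff.mp hzc (g : S ⧸ N), mul_inv_cancel_right, mul_inv_cancel]
    rw [show g * (a * x ^ k) * g⁻¹ = g * a * g⁻¹ * (g * x * g⁻¹ * x⁻¹ * x) ^ k by
      rw [inv_mul_cancel_right, conj_zpow]; group]
    exact mul_mem (Subgroup.mem_sup_left (hN.conj_mem a ha g)) (zpow_mem (mul_mem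
      (Subgroup.mem_sup_left hgx) (Subgroup.mem_sup_right (Subgroup.mem_zpowers x))) k)
  · obtain ⟨a, ha, k, rfl⟩ := hgen y hy
    obtain ⟨e, he'⟩ := hza _ ⟨⟨h, hh⟩, rfl⟩
    rw [map_mul, map_zpow]
    refine mul_mem (Subgroup.mem_sup_left (hinv h hh a ha)) (zpow_mem ?_ k)
    rw [hq] at he'
    rw [← QuotientGroup.mk_pow, eq_comm, QuotientGroup.eq] at he'
    have := mul_mem (Subgroup.mem_sup_right (S := N) (pow_mem (Subgroup.mem_zpowers x) e))
      (Subgroup.mem_sup_left he')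
    rwa [mul_inv_cancel_left] at this
  · refine lt_of_le_of_ne le_sup_left fun h => hz1 ((QuotientGroup.eq_one_iff x).mpr ?_)
    exact h.ge (Subgroup.mem_sup_right (Subgroup.mem_zpowers x))

theorem exists_invChain [Finite S] {p : ℕ} [Fact p.Prime] (hS : IsPGroup p S)
    {H : Subgroup (MulAut S)} (hc : ∀ a ∈ H, ∀ b ∈ H, a * b = b * a)
    (he : ∀ a ∈ H, a ^ (p - 1) = 1) :
    ∀ N : Subgroup S, N.Normal → (∀ h ∈ H, ∀ x ∈ N, h x ∈ N) →
      ∃ (m : ℕ) (c : Fin (m + 1) → Subgroup S), c 0 = N ∧ c (Fin.last m) = ⊤ ∧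
        (∀ i, (c i).Normal ∧ ∀ h ∈ H, ∀ x ∈ c i, h x ∈ c i) ∧
        ∀ i : Fin m, ∃ x, c i.succ = c i.castSucc ⊔ Subgroup.zpowers x := by
  intro N
  induction N using (wellFounded_gt (α := Subgroup S)).induction with
  | _ N ih =>
  intro hN hinv
  by_cases hne : N = ⊤
  · exact ⟨0, fun _ => N, rfl, hne, fun _ => ⟨hN, hinv⟩, fun i => i.elim0⟩
  haveI := hN
  obtain ⟨M, ⟨hM, hMinv, x, hx⟩, hlt⟩ := exists_invStep hS hc he hinv hne
  obtain ⟨m, c, h0, hm, hci, hcs⟩ := ih M hlt hM hMinv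
  refine ⟨m + 1, Fin.cons N c, rfl, ?_, fun i => ?_, fun i => ?_⟩
  · rw [← Fin.succ_last, Fin.cons_succ]; exact hm
  · induction i using Fin.cases with
    | zero => exact ⟨hN, hinv⟩
    | succ j => rw [Fin.cons_succ]; exact hci j
  · induction i using Fin.cases with
    | zero => exact ⟨x, by rw [Fin.cons_succ, h0, hx]; rfl⟩
    | succ j => rw [Fin.cons_succ, ← Fin.succ_castSucc, Fin.cons_succ]; exact hcs j

/-- If `S` is normal in `F` and the `p'`-groups of automorphisms of `S` are abelian of exponent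
dividing `p - 1`, then `F` has a cyclic chain. -/
theorem hasCyclicChain_of_isNormal [Finite S] {p : ℕ} [Fact p.Prime] (hS : IsPGroup p S)
    {F : FusionSystem S} (hF : F.IsSaturated p) (hn : F.IsNormal S)
    (hH : ∀ H : Subgroup (MulAut S), (Nat.card H).Coprime p →
      IsMulCommutative H ∧ ∀ a ∈ H, a ^ (p - 1) = 1) : HasCyclicChain F := by
  haveI := finite_autGroup F (le_refl S)
  haveI := autInducedBy_self_normal S
  set G := F.autGroup S
  set R : Subgroup G := (autInducedBy S S).subgroupOf G with hR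
  obtain ⟨-, T, hT⟩ :=
    (centralized_automized_of_fullyNormalized hS hF (isFullyNormalized_top F)).2
  have hcop : (Nat.card R).Coprime R.index := by
    show (Nat.card ((autInducedBy S S).subgroupOf G)).Coprime _
    obtain ⟨k, hk⟩ :=
      ((isPGroup_autInducedBy hS S).comap_of_injective _ G.subtype_injective).exists_card_eq
    rw [show Nat.card ((autInducedBy S S).subgroupOf G) = p ^ k from hk]
    refine Nat.Coprime.pow_left k ((Fact.out : p.Prime).coprime_iff_not_dvd.mpr ?_)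
    rw [hR, ← hT]
    exact T.not_dvd_index
  obtain ⟨H', hH'⟩ := Subgroup.exists_right_complement'_of_coprime (N := R) hcop
  have hcardH : Nat.card (H'.map G.subtype) = R.index := by
    rw [Subgroup.card_map_of_injective G.subtype_injective, hH'.symm.index_eq_card]
  obtain ⟨hc, he⟩ := hH (H'.map G.subtype) (by
    rw [hcardH]
    refine ((Fact.out : p.Prime).coprime_iff_not_dvd.mpr ?_).symm
    rw [hR, ← hT]
    exact T.not_dvd_index)
  obtain ⟨m, c, h0, hm, hci, hcs⟩ := exists_invChain hS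
    (fun a ha b hb => congrArg Subtype.val (hc.is_comm.comm (⟨a, ha⟩ : H'.map G.subtype) ⟨b, hb⟩))
    he ⊥ inferInstance (fun h _ x hx => by
      rw [Subgroup.mem_bot] at hx; rw [hx, map_one]; exact Subgroup.one_mem _)
  have hall : ∀ α ∈ G, ∀ i, ∀ x ∈ c i, α x ∈ c i := by
    intro α hα i x hx
    have hsup : (⟨α, hα⟩ : G) ∈ R ⊔ H' := hH'.sup_eq_top.ge (Subgroup.mem_top _)
    obtain ⟨r, hr, h, hh, hrh⟩ := Subgroup.mem_sup_of_normal_left.mp hsup
    have he' : α = (r : MulAut S) * (h : MulAut S) := (congrArg Subtype.val hrh).symm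
    obtain ⟨g, hg, hgx⟩ := mem_autInducedBy_iff.mp (Subgroup.mem_subgroupOf.mp hr)
    rw [he', MulAut.mul_apply]
    have h2 := (hci i).1.conj_mem _ ((hci i).2 _ ⟨h, hh, rfl⟩ x hx) ⟨g, hg⟩
    convert h2 using 1
    exact Subtype.ext (hgx _)
  refine ⟨m, fun i => (c i).map S.subtype, by simp only [h0, Subgroup.map_bot],
    by simp only [hm, ← MonoidHom.range_eq_map, Subgroup.range_subtype], fun i => ?_, fun i => ?_⟩
  · refine ⟨Subgroup.map_subtype_le _, fun R hR φ hφ y => ?_⟩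
    obtain ⟨ψ, hψ, hψx, -⟩ := hn.2 R φ hφ
    obtain ⟨α, hα, hαx⟩ := exists_aut_of_hom' F (restrict_mem hψ le_sup_right)
      fun x => apply_mem hψ _
    obtain ⟨z, hz, hzy⟩ := hR y.2
    refine ⟨α z, hall α hα i z hz, ?_⟩
    show ((α z : S) : Ω) = φ y
    rw [hαx, ← hψx]
    exact congrArg ψ (Subtype.ext hzy)
  · obtain ⟨x, hx⟩ := hcs i
    refine ⟨Subgroup.map_mono (le_sup_left.trans hx.ge), x, x.2, ?_⟩
    show (c i.succ).map S.subtype = _
    rw [hx, Subgroup.map_sup, MonoidHom.map_zpowers]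
    rfl

end CfsgLib.Alperin
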