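import Cfsg.Prelude.Def_FusionComponents
import Cfsg.Agent.Lib.Alperin.Induced
import Cfsg.Agent.Lib.FusionBasics.Transport
import Cfsg.Agent.Lib.FusionSub.Residual

/-!
The image of a fusion system along an injective homomorphism of the underlying group.
-/

set_option autoImplicit false
set_option linter.style.haveILetI false
set_option linter.unusedSectionVars false

namespace CfsgLib.Alperin

open Cfsg Cfsg.FusionSystem CfsgLib.FusionBasics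

variable {Ω : Type*} [Group Ω] {Γ : Type*} [Group Γ] {Δ : Type*} [Group Δ]
variable {S : Subgroup Ω} {T : Subgroup Γ} {W : Subgroup Δ}
variable {F : FusionSystem S} {F' : FusionSystem T} {ι : S →* Γ}

theorem mem_restrict_eq {P Q : Subgroup Ω} {φ : P →* Ω} {x : Ω} (h : Q ≤ P) (hx : x ∈ Q) :
    (φ.comp (Subgroup.inclusion h)) ⟨x, hx⟩ = φ ⟨x, h hx⟩ := rfl

theorem preimage_img (hι : Function.Injective ι) {P : Subgroup Ω} (hP : P ≤ S) :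
    preimageAlong ι (img ι P) = P := by
  ext x
  constructor
  · intro hx
    obtain ⟨hxS, h⟩ := mem_preimageAlong.mp hx
    exact (mem_img_iff hι ⟨x, hxS⟩).mp h
  · exact fun hx => mem_preimageAlong.mpr ⟨hP hx, (mem_img_iff hι ⟨x, hP hx⟩).mpr hx⟩

theorem stronglyClosed_bot' (F : FusionSystem S) : F.StronglyClosed ⊥ := by
  refine ⟨bot_le, fun R hR φ _ x => ?_⟩
  rw [show x = 1 from Subtype.ext (Subgroup.mem_bot.mp (hR x.2)), map_one]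
  exact Subgroup.one_mem _

/-- Forward transport of a map, stated on elements. -/
theorem iso_fwd (h : SystemIso F F' ι) {P : Subgroup Ω} {φ : P →* Ω} (hφ : φ ∈ F.Hom P) :
    ∃ φ' ∈ F'.Hom (img ι P), ∀ (x : S) (hx : (x : Ω) ∈ P) (hx' : ι x ∈ img ι P),
      φ' ⟨ι x, hx'⟩ = ι ⟨φ ⟨x, hx⟩, apply_mem hφ _⟩ := by
  obtain ⟨φ', hφ', hx⟩ := h.forward φ hφ
  exact ⟨φ', hφ', fun x hxP hx' => hx ⟨x, hxP⟩⟩

/-- Backward transport of a map, stated on elements. -/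
theorem iso_bwd (h : SystemIso F F' ι) {P : Subgroup Ω} (hP : P ≤ S) {φ' : img ι P →* Γ}
    (hφ' : φ' ∈ F'.Hom (img ι P)) :
    ∃ φ ∈ F.Hom P, ∀ (x : S) (hx : (x : Ω) ∈ P) (hφx : φ ⟨x, hx⟩ ∈ S) (hx' : ι x ∈ img ι P),
      φ' ⟨ι x, hx'⟩ = ι ⟨φ ⟨x, hx⟩, hφx⟩ := by
  obtain ⟨φ, hφ, hx⟩ := h.backward hP φ' hφ'
  exact ⟨φ, hφ, fun x hxP hφx hx' => hx ⟨x, hxP⟩ hφx⟩

theorem iso_aut_fwd (h : SystemIso F F' ι) {P : Subgroup Ω} (hP : P ≤ S) {α : MulAut P}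
    (hα : α ∈ F.autGroup P) :
    ∃ β ∈ F'.autGroup (img ι P), ∀ (x : S) (hx : (x : Ω) ∈ P) (hx' : ι x ∈ img ι P),
      ((β ⟨ι x, hx'⟩ : img ι P) : Γ) = ι ⟨α ⟨x, hx⟩, hP (α ⟨x, hx⟩).2⟩ := by
  refine ⟨MulAut.congr (imgEquiv ι h.inj hP) α, (h.autGroup_img hP).le ⟨α, hα, rfl⟩,
    fun x hx hx' => ?_⟩
  show ((imgEquiv ι h.inj hP (α ((imgEquiv ι h.inj hP).symm (imgEquiv ι h.inj hP ⟨x, hx⟩))) :
    img ι P) : Γ) = _
  rw [MulEquiv.symm_apply_apply]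
  rfl

theorem iso_aut_bwd (h : SystemIso F F' ι) {P : Subgroup Ω} (hP : P ≤ S) {β : MulAut (img ι P)}
    (hβ : β ∈ F'.autGroup (img ι P)) :
    ∃ α ∈ F.autGroup P, ∀ (x : S) (hx : (x : Ω) ∈ P) (hx' : ι x ∈ img ι P),
      ((β ⟨ι x, hx'⟩ : img ι P) : Γ) = ι ⟨α ⟨x, hx⟩, hP (α ⟨x, hx⟩).2⟩ := by
  obtain ⟨α, hα, rfl⟩ := (h.autGroup_img hP).ge hβ
  refine ⟨α, hα, fun x hx hx' => ?_⟩
  show ((imgEquiv ι h.inj hP (α ((imgEquiv ι h.inj hP).symm (imgEquiv ι h.inj hP ⟨x, hx⟩))) :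
    img ι P) : Γ) = _
  rw [MulEquiv.symm_apply_apply]
  rfl

/-- A factor system modulo the trivial subgroup is an isomorphic copy. -/
theorem systemIso_of_factor (hE : F.IsFactorSystem ⊥ ι F') : SystemIso F F' ι := by
  obtain ⟨-, hker, hrange, hmem⟩ := hE
  have hinj : Function.Injective ι := (injective_iff_map_eq_one ι).mpr fun s hs =>
    Subtype.ext (Subgroup.mem_bot.mp ((hker s).mp hs))
  refine ⟨hinj, hrange, fun {P} φ hφ => ?_, fun {P} hP φ' hφ' => ?_⟩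
  · have hP := dom_le hφ
    obtain ⟨φ', hind⟩ := exists_inducedAlong ι hP φ (apply_mem hφ) fun x hx => by
      have hx1 : x = 1 := Subtype.ext (Subgroup.mem_bot.mp ((hker _).mp hx))
      subst hx1
      rw [show (⟨φ 1, apply_mem hφ 1⟩ : S) = 1 from Subtype.ext (map_one φ), map_one]
    have hind' := hind
    obtain ⟨_, _, _, hx⟩ := hind'
    refine ⟨φ', (hmem _ _).mpr ⟨(img_le_range ι P).trans hrange.le,
      φ.comp (Subgroup.inclusion (preimage_img hinj hP).le), restrict_mem hφ _,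
      preimageAlong_le ι _, fun x => apply_mem hφ _, fun x => (mem_preimageAlong.mp x.2).2,
      fun x => hx ⟨x, (preimage_img hinj hP).le x.2⟩⟩, hx⟩
  · obtain ⟨-, φ, hφ, hQ, hφS, hPP, hind⟩ := (hmem _ φ').mp hφ'
    exact ⟨φ.comp (Subgroup.inclusion (preimage_img hinj hP).ge), restrict_mem hφ _,
      fun x _ => hind ⟨x, (preimage_img hinj hP).ge x.2⟩⟩

theorem exists_image [Finite S] (F : FusionSystem S) (hι : Function.Injective ι) {T : Subgroup Γ}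
    (hr : ι.range = T) : ∃ E : FusionSystem T, SystemIso F E ι := by
  obtain ⟨E, hE⟩ := exists_isFactorSystem F (stronglyClosed_bot' F) ι
    (fun s => ⟨fun hs => Subgroup.mem_bot.mpr (congrArg Subtype.val (hι (hs.trans (map_one ι).symm))),
      fun hs => by rw [show s = 1 from Subtype.ext (Subgroup.mem_bot.mp hs), map_one]⟩) hr
  exact ⟨E, systemIso_of_factor hE⟩

theorem iso_hom_le {E : FusionSystem T} (h : SystemIso F F' ι) (h' : SystemIso F E ι)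
    (P' : Subgroup Γ) : F'.Hom P' ⊆ E.Hom P' := by
  intro φ' hφ'
  obtain ⟨P, hP, rfl⟩ := exists_img_eq ι ((dom_le hφ').trans h.range_eq.ge)
  obtain ⟨φ, hφ, hx⟩ := iso_bwd h hP hφ'
  obtain ⟨ψ', hψ', hy⟩ := iso_fwd h' hφ
  refine mem_of_apply_eq hψ' fun z => ?_
  obtain ⟨_, ⟨x, hxP, rfl⟩⟩ := z
  exact (hx x hxP (apply_mem hφ _) _).trans (hy x hxP _).symm

/-- The image of a system is determined. -/
theorem iso_unique {E : FusionSystem T} (h : SystemIso F F' ι) (h' : SystemIso F E ι) : F' = E :=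
  CfsgLib.FusionSub.system_ext fun P =>
    Set.Subset.antisymm (iso_hom_le h h' P) (iso_hom_le h' h P)

theorem img_img {κ : T →* Δ} {ι₁ : S →* Γ} (hι : ∀ s, ι₁ s ∈ T) (P : Subgroup Ω) :
    img (κ.comp (ι₁.codRestrict T hι)) P = img κ (img ι₁ P) := by
  ext z
  constructor
  · rintro ⟨s, hs, rfl⟩
    exact ⟨⟨ι₁ s, hι s⟩, ⟨s, hs, rfl⟩, rfl⟩
  · rintro ⟨⟨_, _⟩, ⟨s, hs, rfl⟩, rfl⟩
    exact ⟨s, hs, rfl⟩

/-- Composition of isomorphisms of systems. -/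
theorem iso_comp {F'' : FusionSystem W} {κ : T →* Δ} (h : SystemIso F F' ι)
    (h' : SystemIso F' F'' κ) :
    SystemIso F F'' (κ.comp (ι.codRestrict T fun s => h.range_eq.le ⟨s, rfl⟩)) := by
  have hι : ∀ s, ι s ∈ T := fun s => h.range_eq.le ⟨s, rfl⟩
  refine ⟨fun a b hab => h.inj (congrArg Subtype.val (h'.inj hab)), ?_, fun {P} φ hφ => ?_,
    fun {P} hP φ'' hφ'' => ?_⟩
  · refine le_antisymm (fun z hz => ?_) fun z hz => ?_
    · obtain ⟨s, rfl⟩ := hz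
      exact h'.range_eq.le ⟨_, rfl⟩
    · obtain ⟨⟨y, hy⟩, rfl⟩ := h'.range_eq.ge hz
      obtain ⟨s, rfl⟩ := h.range_eq.ge hy
      exact ⟨s, rfl⟩
  · obtain ⟨φ', hφ', hx⟩ := iso_fwd h hφ
    obtain ⟨φ'', hφ'', hy⟩ := iso_fwd h' hφ'
    refine ⟨_, restrict_mem hφ'' (img_img hι P).le, fun x => ?_⟩
    show φ'' ⟨κ ⟨ι ⟨x, dom_le hφ x.2⟩, hι _⟩, _⟩ = _
    refine (hy ⟨ι ⟨x, dom_le hφ x.2⟩, hι _⟩ ⟨_, x.2, rfl⟩ _).trans
      (congrArg κ (Subtype.ext ?_))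
    exact hx ⟨x, dom_le hφ x.2⟩ x.2 _
  · have hP' : img ι P ≤ T := (img_le_range ι P).trans h.range_eq.le
    obtain ⟨φ', hφ', hy⟩ := iso_bwd h' hP' (restrict_mem hφ'' (img_img hι P).ge)
    obtain ⟨φ, hφ, hx⟩ := iso_bwd h hP hφ'
    refine ⟨φ, hφ, fun x hφx => ?_⟩
    have h1 : ι ⟨x, hP x.2⟩ ∈ img ι P := ⟨_, x.2, rfl⟩
    refine (hy ⟨ι ⟨x, hP x.2⟩, hι _⟩ h1 (apply_mem hφ' _) ⟨_, h1, rfl⟩).trans
      (congrArg κ (Subtype.ext ?_))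
    exact hx ⟨x, hP x.2⟩ x.2 hφx _

theorem img_restrict {U : Subgroup Ω} (hU : U ≤ S) {P : Subgroup Ω} (hP : P ≤ U) :
    img (ι.comp (Subgroup.inclusion hU)) P = img ι P := by
  ext z
  constructor
  · rintro ⟨u, hu, rfl⟩
    exact ⟨_, hu, rfl⟩
  · rintro ⟨s, hs, rfl⟩
    exact ⟨⟨s, hP hs⟩, hs, rfl⟩

/-- The inverse isomorphism. -/
theorem iso_symm (h : SystemIso F F' ι) : ∃ κ : T →* Ω, SystemIso F' F κ ∧
    (∀ (s : S) (hs : ι s ∈ T), κ ⟨ι s, hs⟩ = (s : Ω)) ∧ ∀ P, P ≤ S → img κ (img ι P) = P := by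
  let e : S ≃* T := (MonoidHom.ofInjective h.inj).trans (MulEquiv.subgroupCongr h.range_eq)
  let κ : T →* Ω := S.subtype.comp e.symm.toMonoidHom
  have hκ : ∀ (s : S) (hs : ι s ∈ T), κ ⟨ι s, hs⟩ = (s : Ω) := fun s hs =>
    congrArg Subtype.val (e.symm_apply_apply s)
  have hinj : Function.Injective κ := S.subtype_injective.comp e.symm.injective
  have himg : ∀ P, P ≤ S → img κ (img ι P) = P := by
    intro P hP
    ext z
    constructor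
    · rintro ⟨⟨_, hy⟩, ⟨s, hs, rfl⟩, rfl⟩
      rw [hκ]
      exact hs
    · intro hz
      exact ⟨⟨ι ⟨z, hP hz⟩, h.range_eq.le ⟨_, rfl⟩⟩, ⟨_, hz, rfl⟩, hκ ⟨z, hP hz⟩ _⟩
  refine ⟨κ, ⟨hinj, ?_, fun {P'} φ' hφ' => ?_, fun {P'} hP' φ hφ => ?_⟩, hκ, himg⟩
  · refine le_antisymm ?_ fun z hz => ?_
    · rintro _ ⟨t, rfl⟩
      exact (e.symm t).2
    · exact ⟨⟨ι ⟨z, hz⟩, h.range_eq.le ⟨_, rfl⟩⟩, hκ ⟨z, hz⟩ _⟩
  · obtain ⟨P, hP, rfl⟩ := exists_img_eq ι ((dom_le hφ').trans h.range_eq.ge)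
    obtain ⟨φ, hφ, hx⟩ := iso_bwd h hP hφ'
    refine ⟨φ.comp (Subgroup.inclusion (himg P hP).le), restrict_mem hφ _, fun z => ?_⟩
    obtain ⟨_, ⟨x, hxP, rfl⟩⟩ := z
    have h2 := hx x hxP (apply_mem hφ _) ⟨x, hxP, rfl⟩
    show φ ⟨κ ⟨ι x, _⟩, _⟩ = _
    refine (congrArg φ (a₂ := ⟨x, hxP⟩) (Subtype.ext (hκ x _))).trans (Eq.trans ?_
      (congrArg κ (a₁ := ⟨_, h.range_eq.le ⟨⟨φ ⟨x, hxP⟩, apply_mem hφ _⟩, rfl⟩⟩)
        (Subtype.ext h2.symm)))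
    exact (hκ ⟨φ ⟨x, hxP⟩, apply_mem hφ _⟩ _).symm
  · obtain ⟨P, hP, rfl⟩ := exists_img_eq ι (hP'.trans h.range_eq.ge)
    obtain ⟨φ', hφ', hx⟩ := iso_fwd h (restrict_mem hφ (himg P hP).ge)
    refine ⟨φ', hφ', fun z hz => ?_⟩
    obtain ⟨_, ⟨x, hxP, rfl⟩⟩ := z
    have h2 := hx x hxP ⟨x, hxP, rfl⟩
    have hm := apply_mem hφ (Subgroup.inclusion (himg P hP).ge ⟨x, hxP⟩)
    refine (congrArg φ (a₂ := Subgroup.inclusion (himg P hP).ge ⟨x, hxP⟩)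
      (Subtype.ext (hκ x _))).trans ?_
    exact (hκ ⟨_, hm⟩ (h.range_eq.le ⟨_, rfl⟩)).symm.trans (congrArg κ (Subtype.ext h2.symm))

theorem iso_isSaturated [Finite S] (h : SystemIso F F' ι) {p : ℕ} [Fact p.Prime]
    (hF : F.IsSaturated p) : F'.IsSaturated p := by
  haveI : Finite T := h.range_eq ▸ Finite.of_surjective ι.rangeRestrict ι.rangeRestrict_surjective
  obtain ⟨κ, hκ, -⟩ := iso_symm h
  exact hκ.isSaturated hF

end CfsgLib.Alperin
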