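import Cfsg.Agent.Lib.Alperin.SystemImageNormal
import Cfsg.Agent.Lib.FusionExamples.Basic

/-!
Subnormal subsystems, simple and quasisimple systems and components under isomorphisms of systems.
-/

set_option autoImplicit false
set_option linter.style.haveILetI false
set_option linter.unusedSectionVars false

namespace CfsgLib.Alperin

open Cfsg Cfsg.FusionSystem CfsgLib.FusionBasics

section

variable {Ω : Type*} [Group Ω]

/-- Restriction of an isomorphism of systems to the image of a system over a smaller subgroup. -/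
theorem subnormal_iso {p : ℕ} {X0 : Subgroup Ω} {C : FusionSystem X0}
    {S : Subgroup Ω} {D : FusionSystem S} (hC : C.IsSubnormalIn D p) :
    ∀ [Fact p.Prime] [Finite S] {S' : Subgroup Ω} (D' : FusionSystem S') (f : S →* Ω), SystemIso D D' f →
      ∃ hle : X0 ≤ S, ∀ {X' : Subgroup Ω} (C' : FusionSystem X'),
        SystemIso C C' (f.comp (Subgroup.inclusion hle)) → C'.IsSubnormalIn D' p := by
  induction hC with
  | refl F p =>
    intro _ _ S' D' f hf
    refine ⟨le_rfl, fun {X'} C' hC' => ?_⟩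
    have hr : X' = S' := by
      rw [← hC'.range_eq, ← hf.range_eq]
      rfl
    subst hr
    rw [iso_unique hC' (show SystemIso F D' (f.comp (Subgroup.inclusion le_rfl)) from hf)]
    exact IsSubnormalIn.refl _ _
  | @step U S E D F p h1 h2 ih =>
    intro _ _ S' D' f hf
    have hUS : U ≤ S := h2.1.2.2.2.1.1
    haveI := finite_of_le hUS
    have hinj : Function.Injective (f.comp (Subgroup.inclusion hUS)) :=
      hf.inj.comp (Subgroup.inclusion_injective hUS)
    obtain ⟨D₁, hD₁⟩ := exists_image D hinj rfl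
    obtain ⟨hXU, hsub⟩ := ih D₁ _ hD₁
    exact ⟨hXU.trans hUS, fun C' hC' =>
      IsSubnormalIn.step (hsub C' hC') (iso_isNormalIn hf hUS hD₁ h2)⟩

/-- An automorphism in `F` of a normal subsystem's group is an automorphism of the subsystem. -/
theorem iso_of_autGroup {S U : Subgroup Ω} [Finite S] {F : FusionSystem S} {D : FusionSystem U}
    {p : ℕ} (hD : D.IsNormalIn F p) {α : MulAut U} (hα : α ∈ F.autGroup U) :
    SystemIso D D (U.subtype.comp α.toMonoidHom) := by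
  obtain ⟨⟨-, -, -, -, hinv, -⟩, -⟩ := hD
  set f := U.subtype.comp α.toMonoidHom with hf
  have hinj : Function.Injective f := U.subtype_injective.comp α.injective
  have hr : f.range = U := le_antisymm (by rintro _ ⟨x, rfl⟩; exact (α x).2)
    fun y hy => ⟨α.symm ⟨y, hy⟩, congrArg Subtype.val (α.apply_symm_apply ⟨y, hy⟩)⟩
  refine ⟨hinj, hr, fun {P} φ hφ => ?_, fun {P} hP φ' hφ' => ?_⟩
  · obtain ⟨χ, hχ, hx⟩ := hinv P (dom_le hφ) φ hφ α hα
    exact ⟨χ, hχ, fun x => hx x (apply_mem hφ x) ⟨⟨x, dom_le hφ x.2⟩, x.2, rfl⟩⟩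
  · have hP' : img f P ≤ U := (img_le_range f P).trans hr.le
    obtain ⟨χ, hχ, hx⟩ := hinv _ hP' φ' hφ' α⁻¹ (Subgroup.inv_mem _ hα)
    have hle : P ≤ ((img f P).subgroupOf U).map (U.subtype.comp (α⁻¹).toMonoidHom) := fun x hxP =>
      ⟨⟨f ⟨x, hP hxP⟩, (α _).2⟩, ⟨⟨x, hP hxP⟩, hxP, rfl⟩,
        congrArg Subtype.val (α.symm_apply_apply ⟨x, hP hxP⟩)⟩
    refine ⟨_, restrict_mem hχ hle, fun x hφx => ?_⟩
    have h0 := apply_mem hφ' (imgEquiv f hinj hP x)
    have h1 : ((α⁻¹ ⟨_, hP' (imgEquiv f hinj hP x).2⟩ : U) : Ω) = (x : Ω) :=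
      congrArg Subtype.val (α.symm_apply_apply ⟨x, hP x.2⟩)
    have h2 := hx (imgEquiv f hinj hP x) h0 (h1 ▸ hle x.2)
    have h3 : ((χ.comp (Subgroup.inclusion hle)) x : Ω) = ((α⁻¹ ⟨_, h0⟩ : U) : Ω) :=
      (congrArg χ (Subtype.ext h1.symm)).trans h2
    show φ' _ = ((α ⟨_, hφx⟩ : U) : Ω)
    rw [show (⟨_, hφx⟩ : U) = α⁻¹ ⟨_, h0⟩ from Subtype.ext h3]
    exact (congrArg Subtype.val (α.apply_symm_apply ⟨_, h0⟩)).symm

/-- The image of a subnormal subsystem under a map of the system is subnormal. -/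
theorem subnormal_image {p : ℕ} {X0 : Subgroup Ω} {C : FusionSystem X0}
    {S : Subgroup Ω} {F : FusionSystem S} (hC : C.IsSubnormalIn F p) :
    ∀ [Fact p.Prime] [Finite S], X0 ≤ S ∧ ∀ (γ : X0 →* Ω), γ ∈ F.Hom X0 → ∀ {X' : Subgroup Ω}
      (C' : FusionSystem X'), SystemIso C C' γ → C'.IsSubnormalIn F p := by
  induction hC with
  | refl F p =>
    intro _ _
    refine ⟨le_rfl, fun γ hγ {X'} C' hC' => ?_⟩
    have hr : X' = X0 := by
      refine hC'.range_eq.symm.trans ?_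
      exact Subgroup.eq_of_le_of_card_ge (range_le hγ) (card_range_eq (F.injective_of_mem hγ)).ge
    subst hr
    suffices SystemIso F F γ by
      rw [iso_unique hC' this]
      exact IsSubnormalIn.refl _ _
    refine ⟨F.injective_of_mem hγ, hC'.range_eq, fun {P} φ hφ => ?_, fun {P} hP φ' hφ' => ?_⟩
    · obtain ⟨θ, hθ, -, hθx, -⟩ := exists_inverse
        (restrict_mem hγ (dom_le hφ)) ((range_comp_inclusion γ (dom_le hφ)).trans rfl)
      have hm : ∀ z, θ z ∈ P := fun z => by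
        obtain ⟨_, ⟨w, hw, rfl⟩⟩ := z
        exact (congrArg (· ∈ P) (hθx ⟨w, hw⟩ ⟨w, hw, rfl⟩)).mpr hw
      refine ⟨_, F.comp_mem (F.comp_mem hθ hφ hm) hγ (fun z => apply_mem hφ _), fun x => ?_⟩
      exact congrArg γ (Subtype.ext (congrArg φ (Subtype.ext (hθx x _))))
    · have hm : ∀ z : P, (γ.comp (Subgroup.inclusion hP)) z ∈ img γ P := fun z => ⟨_, z.2, rfl⟩
      have h1 := F.comp_mem (restrict_mem hγ hP) hφ' hm
      obtain ⟨θ, hθ, hθr, -, hθy⟩ := exists_inverse hγ hC'.range_eq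
      refine ⟨_, F.comp_mem h1 hθ (fun z => apply_mem h1 z), fun x hφx => ?_⟩
      exact (hθy ⟨_, apply_mem h1 x⟩ hφx).symm
  | @step U S E D F p h1 h2 ih =>
    intro _ _
    have hUS : U ≤ S := h2.1.2.2.2.1.1
    haveI := finite_of_le hUS
    obtain ⟨hXU, hsub⟩ := ih
    refine ⟨hXU.trans hUS, fun γ hγ {X'} C' hC' => ?_⟩
    obtain ⟨α, hα, γ₀, hγ₀, hx⟩ := h2.1.2.2.2.2.2 X0 hXU γ hγ
    haveI := finite_of_le hXU
    obtain ⟨C₀, hC₀⟩ := exists_image E (D.injective_of_mem hγ₀) rfl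
    have hs := hsub γ₀ hγ₀ C₀ hC₀
    obtain ⟨hle, hiso⟩ := subnormal_iso hs D _ (iso_of_autGroup h2 hα)
    haveI := finite_of_le hle
    have hinj : Function.Injective ((U.subtype.comp α.toMonoidHom).comp (Subgroup.inclusion hle)) :=
      (U.subtype_injective.comp α.injective).comp (Subgroup.inclusion_injective hle)
    have he : γ = ((U.subtype.comp α.toMonoidHom).comp (Subgroup.inclusion hle)).comp
        (γ₀.codRestrict _ fun x => hC₀.range_eq.le ⟨x, rfl⟩) :=
      MonoidHom.ext fun x => hx x (apply_mem hγ₀ x)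
    subst he
    have hr : ((U.subtype.comp α.toMonoidHom).comp (Subgroup.inclusion hle)).range = X' := by
      refine le_antisymm ?_ ?_
      · rintro _ ⟨⟨_, x, rfl⟩, rfl⟩
        exact hC'.range_eq.le ⟨x, rfl⟩
      · rw [← hC'.range_eq]
        rintro _ ⟨x, rfl⟩
        exact ⟨_, rfl⟩
    obtain ⟨C'', hC''⟩ := exists_image C₀ hinj hr
    rw [iso_unique hC' (iso_comp hC₀ hC'')]
    exact IsSubnormalIn.step (hiso C'' hC'') h2

end

section

variable {Ω : Type*} [Group Ω] {Γ : Type*} [Group Γ]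
variable {S : Subgroup Ω} {T : Subgroup Γ}
variable {F : FusionSystem S} {F' : FusionSystem T} {ι : S →* Γ}

theorem iso_isCentral (h : SystemIso F F' ι) {Q : Subgroup Ω} (hQ : F.IsCentral Q) :
    F'.IsCentral (img ι Q) := by
  refine ⟨(img_le_range ι Q).trans h.range_eq.le, fun P' φ' hφ' => ?_⟩
  obtain ⟨P, hP, rfl⟩ := exists_img_eq ι ((dom_le hφ').trans h.range_eq.ge)
  obtain ⟨φ, hφ, hx⟩ := iso_bwd h hP hφ'
  obtain ⟨ψ, hψ, hψx, hψq⟩ := hQ.2 P φ hφ
  obtain ⟨ψ', hψ', hy⟩ := iso_fwd h hψ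
  refine ⟨_, restrict_mem hψ' (img_sup ι hP hQ.1).ge, ?_, ?_⟩
  · rintro ⟨_, ⟨x, hxP, rfl⟩⟩
    refine (hy x (Subgroup.mem_sup_left hxP) _).trans (Eq.trans ?_ (hx x hxP (apply_mem hφ _) _).symm)
    exact congrArg ι (Subtype.ext (hψx ⟨x, hxP⟩))
  · rintro ⟨_, ⟨x, hxQ, rfl⟩⟩
    exact (hy x (Subgroup.mem_sup_right hxQ) _).trans
      (congrArg ι (Subtype.ext (hψq ⟨x, hxQ⟩)))

theorem iso_img_center [Finite S] (h : SystemIso F F' ι) : img ι F.center = F'.center := by
  haveI : Finite T := h.range_eq ▸ Finite.of_surjective ι.rangeRestrict ι.rangeRestrict_surjective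
  refine le_antisymm (CfsgLib.FusionExamples.isCentral_le_center
    (iso_isCentral h (CfsgLib.FusionExamples.isCentral_center F))) ?_
  obtain ⟨κ, hκ, -, himg⟩ := iso_symm h
  obtain ⟨Q, hQ, hQe⟩ := exists_img_eq ι
    ((CfsgLib.FusionExamples.center_le F').trans h.range_eq.ge)
  have h1 := iso_isCentral hκ (CfsgLib.FusionExamples.isCentral_center F')
  rw [← hQe, himg Q hQ] at h1
  rw [← hQe]
  exact img_mono ι (CfsgLib.FusionExamples.isCentral_le_center h1)

theorem iso_hyperfocal (h : SystemIso F F' ι) (p : ℕ) (hF : F.hyperfocalSubgroup p = S) :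
    F'.hyperfocalSubgroup p = T := by
  refine le_antisymm ?_ ?_
  · refine (Subgroup.closure_le _).mpr ?_
    rintro _ ⟨P, α, x, hP, -, rfl⟩
    exact T.mul_mem (T.inv_mem (hP x.2)) (hP ((α : MulAut P) x).2)
  · intro y hy
    obtain ⟨s, rfl⟩ := h.range_eq.ge hy
    suffices hle : F.hyperfocalSubgroup p ≤
        ((F'.hyperfocalSubgroup p).comap ι).map S.subtype by
      obtain ⟨s', hs', he⟩ := hle (hF.ge s.2)
      exact Subtype.ext he ▸ hs'
    refine (Subgroup.closure_le _).mpr ?_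
    rintro _ ⟨P, α, x, hP, hα, rfl⟩
    refine ⟨⟨x, hP x.2⟩⁻¹ * ⟨((α : MulAut P) x : P), hP ((α : MulAut P) x).2⟩, ?_, rfl⟩
    show ι _ ∈ F'.hyperfocalSubgroup p
    let c : F.autGroup P ≃* F'.autGroup (img ι P) :=
      ((F.autGroup P).equivMapOfInjective (MulAut.congr (imgEquiv ι h.inj hP)).toMonoidHom
        (MulAut.congr (imgEquiv ι h.inj hP)).injective).trans
        (MulEquiv.subgroupCongr (h.autGroup_img hP))
    have hc : c α ∈ pResidual p (F'.autGroup (img ι P)) := by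
      have hle : pResidual p (F.autGroup P) ≤
          (pResidual p (F'.autGroup (img ι P))).comap c.toMonoidHom := by
        refine (Subgroup.closure_le _).mpr fun g hg => Subgroup.subset_closure ?_
        show Nat.Coprime (orderOf (c.toMonoidHom g)) p
        rw [orderOf_injective c.toMonoidHom c.injective]
        exact hg
      exact hle hα
    refine Subgroup.subset_closure ⟨img ι P, c α, imgEquiv ι h.inj hP x,
      (img_le_range ι P).trans h.range_eq.le, hc, ?_⟩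
    rw [map_mul, map_inv]
    refine congrArg₂ (· * ·) rfl ?_
    show _ = ((imgEquiv ι h.inj hP ((α : MulAut P)
      ((imgEquiv ι h.inj hP).symm (imgEquiv ι h.inj hP x))) : img ι P) : Γ)
    rw [MulEquiv.symm_apply_apply]
    rfl

theorem iso_isSimple [Finite S] {p : ℕ} [Fact p.Prime] (h : SystemIso F F' ι)
    (hF : F.IsSimple p) : F'.IsSimple p := by
  haveI : Finite T := h.range_eq ▸ Finite.of_surjective ι.rangeRestrict ι.rangeRestrict_surjective
  obtain ⟨hs, hne, hsim⟩ := hF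
  refine ⟨iso_isSaturated h hs, fun hT => hne ((Subgroup.eq_bot_iff_forall _).mpr fun x hx => ?_),
    fun V E hE => ?_⟩
  · have hιx : ι ⟨x, hx⟩ = 1 := Subgroup.mem_bot.mp (hT ▸ h.range_eq.le ⟨⟨x, hx⟩, rfl⟩)
    exact congrArg Subtype.val (h.inj (hιx.trans (map_one ι).symm))
  · obtain ⟨κ, hκ, hκι, himg⟩ := iso_symm h
    have hVT : V ≤ T := hE.1.2.2.2.1.1
    haveI := finite_of_le hVT
    obtain ⟨E₀, hE₀⟩ := exists_image E (ι := κ.comp (Subgroup.inclusion hVT))
      (hκ.inj.comp (Subgroup.inclusion_injective hVT)) rfl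
    rcases hsim _ E₀ (iso_isNormalIn hκ hVT hE₀ hE) with h0 | ⟨h0, hE₀F⟩
    · left
      refine (Subgroup.eq_bot_iff_forall _).mpr fun y hy => ?_
      have h1 : κ ⟨y, hVT hy⟩ = 1 := Subgroup.mem_bot.mp (h0 ▸ (⟨⟨y, hy⟩, rfl⟩ :
        κ ⟨y, hVT hy⟩ ∈ (κ.comp (Subgroup.inclusion hVT)).range))
      exact congrArg Subtype.val (hκ.inj (h1.trans (map_one κ).symm))
    · right
      have hV : V = T := le_antisymm hVT fun y hy => by
        obtain ⟨s, rfl⟩ := h.range_eq.ge hy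
        obtain ⟨⟨v, hv⟩, hve⟩ := h0.ge s.2
        have hvv : (⟨v, hVT hv⟩ : T) = ⟨ι s, hy⟩ :=
          hκ.inj (hve.trans (hκι s hy).symm)
        have e : v = ι s := congrArg Subtype.val hvv
        exact e ▸ hv
      subst hV
      refine ⟨rfl, fun P' => Set.Subset.antisymm (hE.1.2.2.1 P') fun φ' hφ' => ?_⟩
      obtain ⟨φ, hφ, hx⟩ := iso_fwd hκ hφ'
      obtain ⟨χ, hχ, hy⟩ := sub_bwd hE₀ (dom_le hφ') ((hE₀F _).ge hφ)
      refine mem_of_apply_eq hχ fun z => ?_
      have h1 := (hx ⟨z, dom_le hφ' z.2⟩ z.2 ⟨_, z.2, rfl⟩).symm.trans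
        (hy ⟨z, dom_le hφ' z.2⟩ z.2 (apply_mem hχ _) ⟨_, z.2, rfl⟩)
      exact congrArg Subtype.val (hκ.inj h1)

theorem iso_quasisimple [Finite S] {p : ℕ} [Fact p.Prime] (h : SystemIso F F' ι)
    (hF : F.Quasisimple p) : F'.Quasisimple p := by
  haveI : Finite T := h.range_eq ▸ Finite.of_surjective ι.rangeRestrict ι.rangeRestrict_surjective
  obtain ⟨hs, hh, hsim⟩ := hF
  refine ⟨iso_isSaturated h hs, iso_hyperfocal h p hh, fun E' hE' => ?_⟩
  obtain ⟨hle', hker', hrange', hmem'⟩ := hE'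
  set Z' := F'.center.subgroupOf T
  set Z := F.center.subgroupOf S
  let f : S →* T := ι.codRestrict T fun s => h.range_eq.le ⟨s, rfl⟩
  have hf : Function.Bijective f := ⟨fun a b hab => h.inj (congrArg Subtype.val hab), fun t => by
    obtain ⟨s, hs⟩ := h.range_eq.ge t.2
    exact ⟨s, Subtype.ext hs⟩⟩
  have hfmem : ∀ s : S, f s ∈ Z' ↔ (s : Ω) ∈ F.center := fun s => by
    show ι s ∈ F'.center ↔ _
    rw [← iso_img_center h]
    exact mem_img_iff h.inj s
  let e : (S ⧸ Z) ≃* (T ⧸ Z') := QuotientGroup.congr Z Z' (MulEquiv.ofBijective f hf) (by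
    ext t
    obtain ⟨s, rfl⟩ := hf.2 t
    exact ⟨fun ⟨w, hw, hwe⟩ => hf.1 hwe ▸ (hfmem w).mpr hw, fun ht => ⟨s, (hfmem s).mp ht, rfl⟩⟩)
  have he : ∀ s : S, e (QuotientGroup.mk' Z s) = QuotientGroup.mk' Z' (f s) := fun s => rfl
  have hT' : (⊤ : Subgroup (T ⧸ Z')) = e.toMonoidHom.range :=
    (MonoidHom.range_eq_top.mpr e.surjective).symm
  haveI : Finite (⊤ : Subgroup (T ⧸ Z')) := inferInstance
  obtain ⟨E, hE⟩ := exists_image E' (ι := e.symm.toMonoidHom.comp (Subgroup.subtype ⊤))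
    (e.symm.injective.comp (Subgroup.subtype_injective _)) (T := (⊤ : Subgroup (S ⧸ Z)))
    ((eq_top_iff).mpr fun y _ => ⟨⟨e y, trivial⟩, e.symm_apply_apply y⟩)
  obtain ⟨κ, hκ, -, -⟩ := iso_symm hE
  refine iso_isSimple hκ (hsim E ⟨CfsgLib.FusionExamples.center_le F, fun s => ?_, ?_, ?_⟩)
  · exact QuotientGroup.eq_one_iff s
  · exact MonoidHom.range_eq_top.mpr (QuotientGroup.mk'_surjective _)
  intro P φ'
  set g := e.symm.toMonoidHom.comp (Subgroup.subtype (⊤ : Subgroup (T ⧸ Z'))) with hg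
  obtain ⟨P', -, rfl⟩ := exists_img_eq g (show P ≤ g.range from fun y _ =>
    ⟨⟨e y, trivial⟩, e.symm_apply_apply y⟩)
  have hpre : img ι (preimageAlong (QuotientGroup.mk' Z) (img g P')) =
      preimageAlong (QuotientGroup.mk' Z') P' := by
    ext y
    constructor
    · rintro ⟨s, hs, rfl⟩
      obtain ⟨_, ⟨w, hwP, hw⟩⟩ := mem_preimageAlong.mp hs
      refine mem_preimageAlong.mpr ⟨h.range_eq.le ⟨s, rfl⟩, ?_⟩
      have hw' : (w : T ⧸ Z') = QuotientGroup.mk' Z' (f s) := by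
        rw [← he]
        exact (e.apply_symm_apply w.1).symm.trans (congrArg e hw)
      exact hw' ▸ hwP
    · intro hy
      obtain ⟨hyT, hyP⟩ := mem_preimageAlong.mp hy
      obtain ⟨s, rfl⟩ := h.range_eq.ge hyT
      refine ⟨s, mem_preimageAlong.mpr ⟨s.2, ⟨⟨_, trivial⟩, hyP, ?_⟩⟩, rfl⟩
      exact (congrArg e.symm (he s).symm).trans (e.symm_apply_apply _)
  constructor
  · intro hφ'
    refine ⟨le_top, ?_⟩
    obtain ⟨φ, hφ, hx⟩ := iso_bwd hE le_top hφ'
    obtain ⟨-, ψ, hψ, hQ, hψS, hPP, hind⟩ := (hmem' P' φ).mp hφ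
    obtain ⟨χ, hχ, hy⟩ := iso_bwd h (preimageAlong_le _ _) (restrict_mem hψ hpre.le)
    refine ⟨χ, hχ, preimageAlong_le _ _, fun z => apply_mem hχ z,
      fun z => (mem_preimageAlong.mp z.2).2, fun z => ?_⟩
    have hz : ι ⟨z, preimageAlong_le _ _ z.2⟩ ∈ img ι (preimageAlong (QuotientGroup.mk' Z) (img g P')) :=
      ⟨_, z.2, rfl⟩
    have h1 := hx ⟨QuotientGroup.mk' Z' (f ⟨z, preimageAlong_le _ _ z.2⟩), trivial⟩
      (hPP ⟨_, hpre.le hz⟩) trivial ⟨_, hPP ⟨_, hpre.le hz⟩, rfl⟩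
    refine (congrArg φ' (Subtype.ext ?_)).trans (h1.trans ?_)
    · exact ((congrArg e.symm (he _).symm).trans (e.symm_apply_apply _)).symm
    · refine (congrArg e.symm (hind ⟨_, hpre.le hz⟩)).trans ?_
      refine (congrArg e.symm ?_).trans (e.symm_apply_apply _)
      refine Eq.trans ?_ (he _).symm
      exact congrArg (QuotientGroup.mk' Z') (Subtype.ext
        (hy ⟨z, preimageAlong_le _ _ z.2⟩ z.2 (apply_mem hχ _) hz))
  · rintro ⟨-, χ, hχ, hQ, hχS, hPP, hind⟩
    obtain ⟨ψ, hψ, hy⟩ := iso_fwd h hχ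
    have hψS := apply_mem (restrict_mem hψ hpre.ge)
    obtain ⟨φ, hφind⟩ : ∃ φ : P' →* T ⧸ Z', φ = ((e.toMonoidHom.comp φ').comp
        ((g.comp (Subgroup.inclusion (le_top : P' ≤ ⊤))).codRestrict (img g P')
          fun x => ⟨⟨x, trivial⟩, x.2, rfl⟩)) := ⟨_, rfl⟩
    have hφ : φ ∈ E'.Hom P' := by
      refine (hmem' P' φ).mpr ⟨le_top, _, restrict_mem hψ hpre.ge, preimageAlong_le _ _, hψS,
        fun z => (mem_preimageAlong.mp z.2).2, fun z => ?_⟩
      obtain ⟨z, hz⟩ := z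
      obtain ⟨s, hs, rfl⟩ := hpre.ge hz
      rw [hφind]
      refine (congrArg e ((congrArg φ' (Subtype.ext ?_)).trans (hind ⟨s, hs⟩))).trans ?_
      · exact (congrArg e.symm (he s).symm).trans (e.symm_apply_apply _)
      refine (he _).trans (congrArg (QuotientGroup.mk' Z') (Subtype.ext ?_))
      exact (hy s hs ⟨s, hs, rfl⟩).symm
    obtain ⟨χ', hχ', hz⟩ := iso_fwd hE hφ
    refine mem_of_apply_eq hχ' fun z => ?_
    obtain ⟨_, ⟨w, hwP, rfl⟩⟩ := z
    refine Eq.trans ?_ (hz w hwP ⟨w, hwP, rfl⟩).symm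
    subst hφind
    exact (e.symm_apply_apply _).symm

/-- The image of a component under a map of the system is a component. -/
theorem component_image {Ω : Type*} [Group Ω] {S : Subgroup Ω} [Finite S] {p : ℕ} [Fact p.Prime]
    {F : FusionSystem S} {T : Subgroup Ω} {C : FusionSystem T} (hC : C.IsComponentIn F p)
    {γ : T →* Ω} (hγ : γ ∈ F.Hom T) {E : FusionSystem γ.range}
    (hE : C.IsFactorSystem ⊥ γ E) : E.IsComponentIn F p := by
  obtain ⟨hle, hsub⟩ := subnormal_image hC.1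
  haveI := finite_of_le hle
  exact ⟨hsub γ hγ E (systemIso_of_factor hE), iso_quasisimple (systemIso_of_factor hE) hC.2⟩

end

end CfsgLib.Alperin
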