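import Cfsg.Agent.Lib.Alperin.SystemImage

/-!
Transport of normal and subnormal subsystems along an isomorphism of systems.
-/

set_option autoImplicit false
set_option linter.style.haveILetI false
set_option linter.unusedSectionVars false

namespace CfsgLib.Alperin

open Cfsg Cfsg.FusionSystem CfsgLib.FusionBasics

variable {Ω : Type*} [Group Ω] {Γ : Type*} [Group Γ]
variable {S V : Subgroup Ω} {T V' : Subgroup Γ}
variable {F : FusionSystem S} {F' : FusionSystem T} {ι : S →* Γ}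
variable {E : FusionSystem V} {E' : FusionSystem V'}

section

variable {hV : V ≤ S}

theorem sub_img (hι' : SystemIso E E' (ι.comp (Subgroup.inclusion hV))) :
    V' = img ι V := by
  rw [← hι'.range_eq, ← img_top, img_restrict hV le_rfl]

theorem sub_exists_img (hι' : SystemIso E E' (ι.comp (Subgroup.inclusion hV))) {P' : Subgroup Γ}
    (hP' : P' ≤ V') : ∃ P, P ≤ V ∧ img ι P = P' := by
  obtain ⟨P, hP, rfl⟩ := exists_img_eq _ (hP'.trans hι'.range_eq.ge)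
  exact ⟨P, hP, (img_restrict hV hP).symm⟩

theorem sub_fwd (hι' : SystemIso E E' (ι.comp (Subgroup.inclusion hV))) {P : Subgroup Ω}
    {φ : P →* Ω} (hφ : φ ∈ E.Hom P) :
    ∃ φ' ∈ E'.Hom (img ι P), ∀ (x : S) (hx : (x : Ω) ∈ P) (hx' : ι x ∈ img ι P),
      φ' ⟨ι x, hx'⟩ = ι ⟨φ ⟨x, hx⟩, hV (apply_mem hφ _)⟩ := by
  obtain ⟨φ', hφ', hx⟩ := iso_fwd hι' hφ
  exact ⟨_, restrict_mem hφ' (img_restrict hV (dom_le hφ)).ge,
    fun x hxP hx' => hx ⟨x, dom_le hφ hxP⟩ hxP _⟩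

theorem sub_bwd (hι' : SystemIso E E' (ι.comp (Subgroup.inclusion hV))) {P : Subgroup Ω}
    (hP : P ≤ V) {φ' : img ι P →* Γ} (hφ' : φ' ∈ E'.Hom (img ι P)) :
    ∃ φ ∈ E.Hom P, ∀ (x : S) (hx : (x : Ω) ∈ P) (hφx : φ ⟨x, hx⟩ ∈ S) (hx' : ι x ∈ img ι P),
      φ' ⟨ι x, hx'⟩ = ι ⟨φ ⟨x, hx⟩, hφx⟩ := by
  obtain ⟨φ, hφ, hx⟩ := iso_bwd hι' hP (restrict_mem hφ' (img_restrict hV hP).le)
  exact ⟨φ, hφ, fun x hxP _ hx' =>
    hx ⟨x, hP hxP⟩ hxP (apply_mem hφ _) ((img_restrict hV hP).ge hx')⟩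

theorem sub_isSubsystemOf (h : SystemIso F F' ι)
    (hι' : SystemIso E E' (ι.comp (Subgroup.inclusion hV))) (hEF : E.IsSubsystemOf F) :
    E'.IsSubsystemOf F' := by
  intro P' φ' hφ'
  obtain ⟨P, hP, rfl⟩ := sub_exists_img hι' (dom_le hφ')
  obtain ⟨φ, hφ, hx⟩ := sub_bwd hι' hP hφ'
  obtain ⟨ψ', hψ', hy⟩ := iso_fwd h (hEF P hφ)
  refine mem_of_apply_eq hψ' fun z => ?_
  obtain ⟨_, ⟨x, hxP, rfl⟩⟩ := z
  exact (hx x hxP (apply_mem (hEF P hφ) _) _).trans (hy x hxP _).symm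

theorem sub_stronglyClosed (h : SystemIso F F' ι)
    (hι' : SystemIso E E' (ι.comp (Subgroup.inclusion hV))) (hc : F.StronglyClosed V) :
    F'.StronglyClosed V' := by
  rw [sub_img hι']
  refine ⟨(img_le_range ι V).trans h.range_eq.le, fun R' hR' φ' hφ' z => ?_⟩
  obtain ⟨R, hR, rfl⟩ := exists_img_eq ι (hR'.trans (img_le_range ι V))
  obtain ⟨φ, hφ, hx⟩ := iso_bwd h hR hφ'
  have hRV : R ≤ V := fun r hr => by
    obtain ⟨s, hs, he⟩ := hR' (show ι ⟨r, hR hr⟩ ∈ img ι R from ⟨_, hr, rfl⟩)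
    have : s = ⟨r, hR hr⟩ := h.inj he
    subst this
    exact hs
  obtain ⟨_, ⟨x, hxR, rfl⟩⟩ := z
  refine (congrArg (· ∈ img ι V) (hx x hxR (apply_mem hφ _) _)).mpr ?_
  exact ⟨_, hc.2 R hRV φ hφ _, rfl⟩

end

theorem sub_invariance (h : SystemIso F F' ι) {hV : V ≤ S}
    (hι' : SystemIso E E' (ι.comp (Subgroup.inclusion hV))) (hVV : V' = img ι V)
    (hinv : ∀ (P : Subgroup Ω) (hPT : P ≤ V) (φ : P →* Ω), φ ∈ E.Hom P → ∀ α ∈ F.autGroup V,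
      ∃ χ ∈ E.Hom ((P.subgroupOf V).map (V.subtype.comp α.toMonoidHom)),
        ∀ (x : P) (hφx : φ x ∈ V)
          (hαx : ((α ⟨x, hPT x.2⟩ : V) : Ω) ∈ (P.subgroupOf V).map (V.subtype.comp α.toMonoidHom)),
          χ ⟨(α ⟨x, hPT x.2⟩ : V), hαx⟩ = ((α ⟨φ x, hφx⟩ : V) : Ω)) :
    ∀ (P : Subgroup Γ) (hPT : P ≤ V') (φ : P →* Γ), φ ∈ E'.Hom P → ∀ α ∈ F'.autGroup V',
      ∃ χ ∈ E'.Hom ((P.subgroupOf V').map (V'.subtype.comp α.toMonoidHom)),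
        ∀ (x : P) (hφx : φ x ∈ V')
          (hαx : ((α ⟨x, hPT x.2⟩ : V') : Γ) ∈
            (P.subgroupOf V').map (V'.subtype.comp α.toMonoidHom)),
          χ ⟨(α ⟨x, hPT x.2⟩ : V'), hαx⟩ = ((α ⟨φ x, hφx⟩ : V') : Γ) := by
  subst hVV
  intro P' hPT φ' hφ' α' hα'
  obtain ⟨α, hα, hαx⟩ := iso_aut_bwd h hV hα'
  obtain ⟨P, hP, rfl⟩ := sub_exists_img hι' hPT
  obtain ⟨φ, hφ, hφx⟩ := sub_bwd hι' hP hφ'
  obtain ⟨χ, hχ, hχx⟩ := hinv P hP φ hφ α hα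
  obtain ⟨χ', hχ', hχy⟩ := sub_fwd hι' hχ
  have hle : ((img ι P).subgroupOf (img ι V)).map ((img ι V).subtype.comp α'.toMonoidHom) ≤
      img ι ((P.subgroupOf V).map (V.subtype.comp α.toMonoidHom)) := by
    rintro _ ⟨⟨_, _⟩, ⟨x, hxP, rfl⟩, rfl⟩
    exact ⟨⟨α ⟨x, hP hxP⟩, hV (α _).2⟩, ⟨⟨x, hP hxP⟩, hxP, rfl⟩, (hαx x (hP hxP) _).symm⟩
  refine ⟨_, restrict_mem hχ' hle, ?_⟩
  rintro ⟨_, ⟨x, hxP, rfl⟩⟩ hφm hαm
  have hm : ((α ⟨x, hP hxP⟩ : V) : Ω) ∈ (P.subgroupOf V).map (V.subtype.comp α.toMonoidHom) :=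
    ⟨⟨x, hP hxP⟩, hxP, rfl⟩
  have h1 := hαx x (hP hxP) ⟨x, hP hxP, rfl⟩
  have h2 := hφx x hxP (hV (apply_mem hφ _)) ⟨x, hxP, rfl⟩
  have h3 := hαx ⟨φ ⟨x, hxP⟩, hV (apply_mem hφ _)⟩ (apply_mem hφ _) ⟨_, apply_mem hφ _, rfl⟩
  have hm' : ι ⟨α ⟨x, hP hxP⟩, hV (α _).2⟩ ∈
      img ι ((P.subgroupOf V).map (V.subtype.comp α.toMonoidHom)) := ⟨_, hm, rfl⟩
  have hm'' : ι ⟨φ ⟨x, hxP⟩, hV (apply_mem hφ _)⟩ ∈ img ι V := ⟨_, apply_mem hφ _, rfl⟩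
  have e1 : χ' ⟨ι ⟨α ⟨x, hP hxP⟩, hV (α _).2⟩, hm'⟩ =
      ((α' ⟨φ' ⟨ι x, ⟨x, hxP, rfl⟩⟩, hφm⟩ : img ι V) : Γ) := by
    rw [hχy _ hm hm']
    refine Eq.trans ?_ (congrArg (fun z : img ι V => ((α' z : img ι V) : Γ))
      (a₁ := ⟨_, hm''⟩) (Subtype.ext h2.symm))
    exact (congrArg ι (Subtype.ext (hχx ⟨x, hxP⟩ (apply_mem hφ _) hm))).trans h3.symm
  exact (congrArg χ' (Subtype.ext h1)).trans e1

theorem sub_frattini (h : SystemIso F F' ι) {hV : V ≤ S}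
    (hι' : SystemIso E E' (ι.comp (Subgroup.inclusion hV))) (hVV : V' = img ι V)
    (hfr : ∀ (P : Subgroup Ω), P ≤ V → ∀ (φ : P →* Ω), φ ∈ F.Hom P →
      ∃ α ∈ F.autGroup V, ∃ φ₀ ∈ E.Hom P,
        ∀ (x : P) (hx : φ₀ x ∈ V), φ x = ((α ⟨φ₀ x, hx⟩ : V) : Ω)) :
    ∀ (P : Subgroup Γ), P ≤ V' → ∀ (φ : P →* Γ), φ ∈ F'.Hom P →
      ∃ α ∈ F'.autGroup V', ∃ φ₀ ∈ E'.Hom P,
        ∀ (x : P) (hx : φ₀ x ∈ V'), φ x = ((α ⟨φ₀ x, hx⟩ : V') : Γ) := by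
  subst hVV
  intro P' hP' φ' hφ'
  obtain ⟨P, hP, rfl⟩ := sub_exists_img hι' hP'
  obtain ⟨φ, hφ, hφx⟩ := iso_bwd h (hP.trans hV) hφ'
  obtain ⟨α, hα, φ₀, hφ₀, hx⟩ := hfr P hP φ hφ
  obtain ⟨α', hα', hαx⟩ := iso_aut_fwd h hV hα
  obtain ⟨φ₀', hφ₀', hy⟩ := sub_fwd hι' hφ₀
  refine ⟨α', hα', φ₀', hφ₀', ?_⟩
  rintro ⟨_, ⟨x, hxP, rfl⟩⟩ hm
  refine Eq.trans ?_ ((congrArg (fun z : img ι V => ((α' z : img ι V) : Γ))
    (a₁ := ⟨ι ⟨φ₀ ⟨x, hxP⟩, hV (apply_mem hφ₀ _)⟩, ⟨_, apply_mem hφ₀ _, rfl⟩⟩)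
    (Subtype.ext (hy x hxP _).symm)))
  refine (hφx x hxP (apply_mem hφ _) _).trans (Eq.trans ?_ (hαx _ (apply_mem hφ₀ _) _).symm)
  exact congrArg ι (Subtype.ext (hx ⟨x, hxP⟩ (apply_mem hφ₀ _)))

theorem sub_extension [Finite S] (h : SystemIso F F' ι) {hV : V ≤ S}
    (hι' : SystemIso E E' (ι.comp (Subgroup.inclusion hV))) (hVV : V' = img ι V)
    (hext : ∀ α ∈ E.autGroup V, ∃ β ∈ F.autGroup (V ⊔ centralizerIn S V),
      (∀ x : V, ((β (Subgroup.inclusion le_sup_left x) : ↥(V ⊔ centralizerIn S V)) : Ω) =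
        ((α x : V) : Ω)) ∧
      ∀ c : ↥(V ⊔ centralizerIn S V), (c : Ω) ∈ centralizerIn S V →
        (c : Ω)⁻¹ * ((β c : ↥(V ⊔ centralizerIn S V)) : Ω) ∈
          V ⊓ Subgroup.centralizer (V : Set Ω)) :
    ∀ α ∈ E'.autGroup V', ∃ β ∈ F'.autGroup (V' ⊔ centralizerIn T V'),
      (∀ x : V', ((β (Subgroup.inclusion le_sup_left x) : ↥(V' ⊔ centralizerIn T V')) : Γ) =
        ((α x : V') : Γ)) ∧
      ∀ c : ↥(V' ⊔ centralizerIn T V'), (c : Γ) ∈ centralizerIn T V' →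
        (c : Γ)⁻¹ * ((β c : ↥(V' ⊔ centralizerIn T V')) : Γ) ∈
          V' ⊓ Subgroup.centralizer (V' : Set Γ) := by
  subst hVV
  intro α' hα'
  have hV' : img ι V ≤ T := (img_le_range ι V).trans h.range_eq.le
  haveI : Finite T := h.range_eq ▸ Finite.of_surjective ι.rangeRestrict ι.rangeRestrict_surjective
  haveI := finite_of_le hV
  obtain ⟨φ, hφ, hφx⟩ := sub_bwd hι' le_rfl ((mem_autGroup_iff E' le_rfl).mp hα')
  obtain ⟨α, hα, hαx⟩ := exists_aut_of_hom' E hφ (apply_mem hφ)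
  obtain ⟨β, hβ, hβx, hβc⟩ := hext α hα
  have hle : V ⊔ centralizerIn S V ≤ S := sup_le hV (centralizerIn_le S V)
  obtain ⟨β', hβ', hy⟩ := iso_aut_fwd h hle hβ
  have he : img ι (V ⊔ centralizerIn S V) = img ι V ⊔ centralizerIn T (img ι V) := by
    rw [img_sup ι hV (centralizerIn_le S V), h.img_centralizerIn hV]
  have hW : img ι V ⊔ centralizerIn T (img ι V) ≤ T := sup_le hV' (centralizerIn_le T _)
  haveI := finite_of_le hW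
  have hm : ∀ z : ↥(img ι V ⊔ centralizerIn T (img ι V)),
      ((β' (Subgroup.inclusion he.ge z) : img ι (V ⊔ centralizerIn S V)) : Γ) ∈
        img ι V ⊔ centralizerIn T (img ι V) := fun z => he.le (β' _).2
  obtain ⟨γ, hγ, hγx⟩ := exists_aut_of_hom' F'
    (restrict_mem ((mem_autGroup_iff F' (he.le.trans hW)).mp hβ') he.ge) hm
  refine ⟨γ, hγ, ?_, ?_⟩
  · rintro ⟨_, ⟨x, hxV, rfl⟩⟩
    refine (hγx _).trans ?_
    refine (hy x (Subgroup.mem_sup_left hxV) _).trans (Eq.trans ?_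
      (hφx x hxV (hV (apply_mem hφ _)) _).symm)
    exact congrArg ι (Subtype.ext ((hβx ⟨x, hxV⟩).trans (hαx ⟨x, hxV⟩)))
  · rintro ⟨_, hc0⟩ hc
    obtain ⟨c, hcC, rfl⟩ := (h.img_centralizerIn hV).ge hc
    have e : ((γ ⟨ι c, hc0⟩ : ↥(img ι V ⊔ centralizerIn T (img ι V))) : Γ) =
        ι ⟨(β ⟨c, Subgroup.mem_sup_right hcC⟩ : ↥(V ⊔ centralizerIn S V)), hle (β _).2⟩ :=
      (hγx _).trans (hy c (Subgroup.mem_sup_right hcC) _)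
    show (ι c)⁻¹ * ((γ ⟨ι c, hc0⟩ : ↥(img ι V ⊔ centralizerIn T (img ι V))) : Γ) ∈ _
    rw [e, ← map_inv, ← map_mul]
    obtain ⟨h1, h2⟩ := hβc ⟨c, Subgroup.mem_sup_right hcC⟩ hcC
    refine ⟨⟨_, h1, rfl⟩, ?_⟩
    rintro _ ⟨x, hx, rfl⟩
    rw [← map_mul ι x, ← map_mul]
    exact congrArg ι (Subtype.ext (h2 x hx))

/-- Normal subsystems are carried to normal subsystems by an isomorphism of systems. -/
theorem iso_isNormalIn [Finite S] {p : ℕ} [Fact p.Prime] (h : SystemIso F F' ι) (hV : V ≤ S)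
    (hι' : SystemIso E E' (ι.comp (Subgroup.inclusion hV))) (hE : E.IsNormalIn F p) :
    E'.IsNormalIn F' p := by
  obtain ⟨⟨hEs, hFs, hEF, hc, hinv, hfr⟩, hext⟩ := hE
  haveI := finite_of_le hV
  exact ⟨⟨iso_isSaturated hι' hEs, iso_isSaturated h hFs, sub_isSubsystemOf h hι' hEF,
    sub_stronglyClosed h hι' hc, sub_invariance h hι' (sub_img hι') hinv,
    sub_frattini h hι' (sub_img hι') hfr⟩, sub_extension h hι' (sub_img hι') hext⟩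

end CfsgLib.Alperin
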