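import Cfsg.Agent.Lib.Alperin.SystemImageComponent
import Cfsg.Agent.Lib.Alperin.Theorem
import Cfsg.Agent.Lib.FusionExamples.Hyperfocal
import Cfsg.Agent.Lib.FusionExamples.Basic
import Cfsg.Agent.Lib.FusionBasics.Normal

/-!
Constrained normal subsystems of prime-to-`p` index or of `p`-power index.
-/

set_option autoImplicit false
set_option linter.style.haveILetI false
set_option linter.unusedSectionVars false

namespace CfsgLib.Alperin

open Cfsg Cfsg.FusionSystem CfsgLib.FusionBasics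

variable {Ω : Type*} [Group Ω] {S T : Subgroup Ω} [Finite S] {F : FusionSystem S}
  {E : FusionSystem T} {p : ℕ} [Fact p.Prime]

/-- The largest normal subgroup of a normal subsystem is invariant under `Aut_F(T)`. -/
theorem core_aut_mem (hE : E.IsNormalIn F p) {α : MulAut T} (hα : α ∈ F.autGroup T) {x : T}
    (hx : (x : Ω) ∈ E.core) : ((α x : T) : Ω) ∈ E.core := by
  have hT : T ≤ S := hE.1.2.2.2.1.1
  haveI := finite_of_le hT
  set f := T.subtype.comp (α⁻¹).toMonoidHom with hf
  have hiso : SystemIso E E f := iso_of_autGroup hE (Subgroup.inv_mem _ hα)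
  have hn := CfsgLib.FusionExamples.isNormal_core E
  obtain ⟨Q, hQ, hQe⟩ := exists_img_eq f (hn.1.trans hiso.range_eq.ge)
  have hQn : E.IsNormal Q := hiso.isNormal_of_img hQ (hQe.symm ▸ hn)
  obtain ⟨q, hq, hqx⟩ := hQe.ge hx
  have h1 : α⁻¹ q = x := Subtype.ext hqx
  rw [show α x = q by rw [← h1]; exact α.apply_symm_apply q]
  exact CfsgLib.FusionExamples.isNormal_le_core hQn hq

/-- The core of a constrained normal subsystem over `S` is normal and centric. -/
theorem isConstrained_of_index (hF : F.IsSaturated p) {E : FusionSystem S}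
    (hE : E.IsNormalIn F p) (hc : E.IsConstrained p) : F.IsConstrained p := by
  obtain ⟨-, Q, hQ, hQc⟩ := hc
  have hn := CfsgLib.FusionExamples.isNormal_core E
  have hN : F.IsNormal E.core := by
    refine ⟨hn.1, fun P φ hφ => ?_⟩
    obtain ⟨α, hα, φ₀, hφ₀, hx⟩ := hE.1.2.2.2.2.2 P (dom_le hφ) φ hφ
    obtain ⟨ψ₀, hψ₀, hψx, hψQ⟩ := hn.2 P φ₀ hφ₀
    refine ⟨_, comp_mem_apply (χ := (S.subtype.comp α.toMonoidHom).comp
      (ψ₀.codRestrict S (apply_mem hψ₀))) (hE.1.2.2.1 _ hψ₀) ((mem_autGroup_iff F le_rfl).mp hα)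
      (apply_mem hψ₀) (fun _ => rfl), fun x => ?_, ?_⟩
    · exact (congrArg (fun z => ((α z : S) : Ω)) (Subtype.ext (hψx x))).trans
        (hx x (apply_mem hφ₀ x)).symm
    · refine le_antisymm ?_ fun y hy => ?_
      · rintro _ ⟨w, hw, rfl⟩
        exact core_aut_mem hE hα (hψQ.le ⟨w, hw, rfl⟩)
      · have h1 := core_aut_mem hE (Subgroup.inv_mem _ hα) (x := ⟨y, hn.1 hy⟩) hy
        obtain ⟨w, hw, hwy⟩ := hψQ.ge h1
        refine ⟨w, hw, ?_⟩
        exact (congrArg (fun z => ((α z : S) : Ω)) (Subtype.ext hwy)).trans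
          (congrArg Subtype.val (α.apply_symm_apply _))
  refine ⟨hF, E.core, hN, hn.1, fun R hR => ?_⟩
  have hRQ : R = E.core := by
    obtain ⟨φ, hφ, rfl⟩ := hR
    haveI := finite_of_le hn.1
    refine Subgroup.eq_of_le_of_card_ge ?_ (card_range_eq (F.injective_of_mem hφ)).ge
    rintro _ ⟨x, rfl⟩
    exact (CfsgLib.FusionSub.isNormal_stronglyClosed hN).2 _ le_rfl φ hφ x
  rw [hRQ]
  have hQle : Q ≤ E.core := CfsgLib.FusionExamples.isNormal_le_core hQ
  exact (inf_le_inf_left S (Subgroup.centralizer_le hQle)).trans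
    ((hQc.2 Q (isConj_refl E hQ.1)).trans hQle)

/-- The core of a normal subsystem is normal. -/
theorem core_isNormal (hS : IsPGroup p S) (hF : F.IsSaturated p) (hE : E.IsNormalIn F p) :
    F.IsNormal E.core := by
  have hT : T ≤ S := hE.1.2.2.2.1.1
  haveI := finite_of_le hT
  have hn := CfsgLib.FusionExamples.isNormal_core E
  set Q := E.core
  haveI := finite_of_le (hn.1.trans hT)
  obtain ⟨n, Qs, h0, hlast, -, hchar, hc⟩ :=
    exists_central_series (isPGroup_of_le hS (hn.1.trans hT))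
  refine CfsgLib.FusionSub.isNormal_of_central_series hS hF Q Qs h0 hlast (fun i => ?_) hc
  obtain ⟨hle, hch⟩ := hchar i.succ
  have hEsc := stronglyClosed_of_characteristic hn hle hch
  refine ⟨hle.trans (hn.1.trans hT), fun R hR φ hφ x => ?_⟩
  obtain ⟨α, hα, φ₀, hφ₀, hx⟩ := hE.1.2.2.2.2.2 R (hR.trans (hle.trans hn.1)) φ hφ
  have h1 := hEsc.2 R hR φ₀ hφ₀ x
  rw [hx x (apply_mem hφ₀ x)]
  let β : MulAut Q :=
    MulEquiv.ofBijective
      (((T.subtype.comp α.toMonoidHom).comp (Subgroup.inclusion hn.1)).codRestrict Q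
        fun q => core_aut_mem hE hα q.2)
      (Finite.injective_iff_bijective.mp fun a b hab => by
        have h0 := congrArg Subtype.val hab
        have := α.injective (a₁ := ⟨a, hn.1 a.2⟩) (a₂ := ⟨b, hn.1 b.2⟩) (Subtype.ext h0)
        exact Subtype.ext (congrArg Subtype.val this :))
  haveI := hch
  have h2 := (Subgroup.characteristic_iff_map_le.mp hch β)
    ⟨⟨φ₀ x, hle h1⟩, h1, rfl⟩
  exact h2

/-- Constrainedness ascends along normal subsystems containing the hyperfocal subgroup. -/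
theorem isConstrained_of_pIndex (hS : IsPGroup p S) (hF : F.IsSaturated p)
    (hE : E.IsNormalIn F p) (hhyp : F.hyperfocalSubgroup p ≤ T) (hc : E.IsConstrained p) :
    F.IsConstrained p := by
  obtain ⟨-, Q, hQ, hQc⟩ := hc
  have hN := CfsgLib.FusionExamples.isNormal_core F
  set N := F.core with hNdef
  have hQN : Q ≤ N := (CfsgLib.FusionExamples.isNormal_le_core hQ).trans
    (CfsgLib.FusionExamples.isNormal_le_core (core_isNormal hS hF hE))
  have hTC : T ⊓ Subgroup.centralizer (N : Set Ω) ≤ N :=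
    (inf_le_inf_left T (Subgroup.centralizer_le hQN)).trans
      ((hQc.2 Q (isConj_refl E hQ.1)).trans hQN)
  have hNsc := CfsgLib.FusionSub.isNormal_stronglyClosed hN
  have hNconj : ∀ {s : Ω}, s ∈ S → ∀ {m : Ω}, m ∈ N → s * m * s⁻¹ ∈ N := fun hs _ hm =>
    CfsgLib.FusionSub.stronglyClosed_conj hNsc hs hm
  -- automorphisms fixing `N` form `p`-groups
  have hfix : ∀ {P : Subgroup Ω} (hP : P ≤ S) (hNP : N ≤ P) (a : F.autGroup P) {m : ℕ},
      a ^ m = 1 → m.Coprime p → (∀ x : P, (x : Ω) ∈ N → (a : MulAut P) x = x) → a = 1 := by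
    intro P hP hNP a m ham hm hfix
    haveI := finite_of_le hP
    refine Subtype.ext (MulEquiv.ext fun x => ?_)
    refine CfsgLib.FusionExamples.eq_of_stable (isPGroup_of_le hS hP) (a : MulAut P) (m := m)
      (congrArg Subtype.val ham) hm (hfix _ ?_)
    refine hTC ⟨?_, fun n hn => ?_⟩
    · exact hhyp (CfsgLib.FusionExamples.hyperfocal_gen_mem hP
        (CfsgLib.FusionExamples.mem_pResidual_of_pow_eq_one ham hm) x)
    · have hn' : (x : Ω) * n * (x : Ω)⁻¹ ∈ N := hNconj (hP x.2) hn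
      have e1 := hfix (x * ⟨n, hNP hn⟩ * x⁻¹) hn'
      rw [map_mul, map_mul, map_inv, hfix ⟨n, hNP hn⟩ hn] at e1
      have e2 : ((a : MulAut P) x : Ω) * n * ((a : MulAut P) x : Ω)⁻¹ =
          (x : Ω) * n * (x : Ω)⁻¹ := congrArg Subtype.val e1
      show n * ((x : Ω)⁻¹ * ((a : MulAut P) x : Ω)) = (x : Ω)⁻¹ * ((a : MulAut P) x : Ω) * n
      calc n * ((x : Ω)⁻¹ * ((a : MulAut P) x : Ω))
          = (x : Ω)⁻¹ * ((x : Ω) * n * (x : Ω)⁻¹) * ((a : MulAut P) x : Ω) := by group
        _ = (x : Ω)⁻¹ * ((a : MulAut P) x : Ω) * n := by rw [← e2]; group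
  set C := centralizerIn S N with hCdef
  have hCconj : ∀ {s : Ω}, s ∈ S → ∀ {c : Ω}, c ∈ C → s * c * s⁻¹ ∈ C := by
    intro s hs c hc
    refine ⟨S.mul_mem (S.mul_mem hs hc.1) (S.inv_mem hs), fun n hn => ?_⟩
    have h1 : s⁻¹ * n * s ∈ N := by simpa using hNconj (S.inv_mem hs) hn
    have h2 := hc.2 _ h1
    calc n * (s * c * s⁻¹) = s * (s⁻¹ * n * s * c) * s⁻¹ := by group
      _ = s * (c * (s⁻¹ * n * s)) * s⁻¹ := by rw [h2]
      _ = s * c * s⁻¹ * n := by group
  have hCn : F.IsNormal C := by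
    refine isNormal_of_generators hS hF fun P hP => ?_
    have hPS : P ≤ S := by
      rcases hP with rfl | hP
      exacts [le_rfl, hP.1.1]
    have hNP : N ≤ P := by
      rcases hP with rfl | hP
      exacts [hN.1, normal_le_centric_radical hS hN hP.1 (isRadical_of_essential hS hP)]
    haveI := finite_autGroup F hPS
    have hCP : C ≤ P := by
      rcases hP with rfl | hP
      · exact inf_le_left
      by_contra hCP
      have hlt : P < P ⊔ C := lt_of_le_of_ne le_sup_left fun h => hCP (le_sup_right.trans h.ge)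
      obtain ⟨g, hg, hgN, hgP⟩ :=
        CfsgLib.FusionSub.exists_mem_normalizer_not_mem hS hlt (sup_le hPS inf_le_left)
      -- automorphisms fixing `N` pointwise
      let K : Subgroup (F.autGroup P) :=
        { carrier := {a | ∀ x : P, (x : Ω) ∈ N → (a : MulAut P) x = x}
          one_mem' := fun _ _ => rfl
          mul_mem' := fun {a b} ha hb x hx => by
            show (a : MulAut P) ((b : MulAut P) x) = x
            rw [hb x hx, ha x hx]
          inv_mem' := fun {a} ha x hx => by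
            show (a : MulAut P)⁻¹ x = x
            conv_lhs => rw [← ha x hx]
            exact (a : MulAut P).symm_apply_apply x }
      haveI : K.Normal := by
        refine ⟨fun a ha b x hx => ?_⟩
        have h1 : ((((b : MulAut P)⁻¹) x : P) : Ω) ∈ N :=
          aut_apply_mem_of_stronglyClosed hNsc hPS (Subgroup.inv_mem _ b.2) x hx
        show (b : MulAut P) ((a : MulAut P) ((b : MulAut P)⁻¹ x)) = x
        rw [ha _ h1]
        exact (b : MulAut P).apply_symm_apply x
      have hKp : IsPGroup p K := by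
        intro a
        obtain ⟨k, m, hkm, hm⟩ :=
          CfsgLib.FusionExamples.exists_coprime_power (p := p) (a : F.autGroup P)
        exact ⟨k, Subtype.ext (hfix hPS hNP _ hkm hm fun x hx => (K.pow_mem a.2 (p ^ k)) x hx)⟩
      obtain ⟨c, hc, q, hq, hgcq⟩ : ∃ c ∈ C, ∃ q ∈ P, g = c * q := by
        have h1 : (g : Ω) ∈ ((C ⊔ P : Subgroup Ω) : Set Ω) := sup_comm P C ▸ hg
        rw [Subgroup.coe_mul_of_right_le_normalizer_left C P (fun w hw =>
          Subgroup.mem_normalizer_iff.mpr fun z => ⟨fun hz => hCconj (hPS hw) hz, fun hz => by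
            simpa [mul_assoc] using hCconj (S.inv_mem (hPS hw)) hz⟩)] at h1
        obtain ⟨c, hc, q, hq, he⟩ := Set.mem_mul.mp h1
        exact ⟨c, hc, q, hq, he.symm⟩
      have hcN : c ∈ Subgroup.normalizer (P : Set Ω) := by
        rw [show c = g * q⁻¹ by rw [hgcq, mul_inv_cancel_right]]
        exact Subgroup.mul_mem _ hgN (Subgroup.le_normalizer (P.inv_mem hq))
      have hcA := autInducedBy_le_autGroup F hPS (conjAut_mem hc.1 hcN)
      have hmem : (⟨conjAut P c hcN, hcA⟩ : F.autGroup P) ∈ pCore p _ :=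
        le_sSup (show K ∈ {M : Subgroup (F.autGroup P) | M.Normal ∧ IsPGroup p M} from
          ⟨inferInstance, hKp⟩) (fun x hx => Subtype.ext (by
            show c * (x : Ω) * c⁻¹ = x
            rw [← hc.2 x hx, mul_inv_cancel_right]))
      refine hgP (hgcq ▸ P.mul_mem ?_ hq)
      refine mem_of_conjAut_mem_inn hPS (hP.1.2 P (isConj_refl F hPS)) hc.1
        (α := conjAut P c hcN) (fun _ => rfl) ?_
      rw [← (isRadical_of_essential hS hP).2]
      exact ⟨_, hmem, rfl⟩
    refine ⟨hCP, fun α hα x hx => ⟨hPS (α x).2, fun n hn => ?_⟩⟩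
    have h1 : ((((α : MulAut P)⁻¹) ⟨n, hNP hn⟩ : P) : Ω) ∈ N :=
      aut_apply_mem_of_stronglyClosed hNsc hPS (Subgroup.inv_mem _ hα) ⟨n, hNP hn⟩ hn
    have h2 : (α⁻¹ ⟨n, hNP hn⟩) * x = x * α⁻¹ ⟨n, hNP hn⟩ := Subtype.ext (hx.2 _ h1)
    have h3 := congrArg (fun z => ((α z : P) : Ω)) h2
    simpa using h3
  refine ⟨hF, N, hN, hN.1, fun R hR => ?_⟩
  have hRN : R = N := by
    obtain ⟨φ, hφ, rfl⟩ := hR
    haveI := finite_of_le hN.1
    refine Subgroup.eq_of_le_of_card_ge ?_ (card_range_eq (F.injective_of_mem hφ)).ge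
    rintro _ ⟨x, rfl⟩
    exact hNsc.2 _ le_rfl φ hφ x
  rw [hRN]
  exact CfsgLib.FusionExamples.isNormal_le_core hCn

end CfsgLib.Alperin
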