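import Cfsg.Agent.Lib.Alperin.TerminatingGroup
import Cfsg.Agent.Lib.Alperin.TerminatingConstrained
import Cfsg.Agent.Lib.Alperin.NormalResidual
import Cfsg.Agent.Lib.FusionModels.Model
import Cfsg.Agent.Lib.FusionBasics.PPower.Main
import Cfsg.Agent.S5120
import Cfsg.Agent.S5141

/-!
Terminating residual series and constrained systems with `p`-soluble models.
-/

set_option autoImplicit false
set_option linter.style.haveILetI false
set_option linter.unusedSectionVars false

namespace CfsgLib.Alperin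

open Cfsg Cfsg.FusionSystem CfsgLib.FusionBasics

universe u

variable {Ω : Type u} [Group Ω]

/-- A saturated system is weakly normal in itself. -/
theorem isWeaklyNormalIn_self {S : Subgroup Ω} [Finite S] {F : FusionSystem S} {p : ℕ}
    (hF : F.IsSaturated p) : F.IsWeaklyNormalIn F p := by
  refine ⟨hF, hF, fun _ _ h => h, CfsgLib.FusionSub.stronglyClosed_self F, ?_,
    fun P hP φ hφ => ⟨1, Subgroup.one_mem _, φ, hφ, fun x hx => rfl⟩⟩
  intro P hP φ hφ α hα
  have hαF := (mem_autGroup_iff F le_rfl).mp hα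
  set f := (S.subtype.comp α.toMonoidHom).comp (Subgroup.inclusion hP) with hf
  obtain ⟨θ, hθ, hθr, hθx, -⟩ := exists_inverse (restrict_mem hαF hP) rfl
  rw [show (P.subgroupOf S).map (S.subtype.comp α.toMonoidHom) = f.range from
    (range_comp_inclusion _ _).symm]
  have hm : ∀ z, θ z ∈ P := fun z => hθr.le ⟨z, rfl⟩
  have hm2 : ∀ z, (φ.comp (θ.codRestrict P hm)) z ∈ S := fun z => apply_mem hφ _
  refine ⟨_, F.comp_mem (F.comp_mem hθ hφ hm) hαF hm2, fun x hφx hαx => ?_⟩
  exact congrArg (fun v : S => ((α v : S) : Ω))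
    (Subtype.ext (congrArg φ (Subtype.ext (hθx x hαx))))

variable {p : ℕ} [Fact p.Prime]

theorem isNormalIn_pResidual {S : Subgroup Ω} [Finite S] (hS : IsPGroup p S) {E : FusionSystem S}
    (hE : E.IsSaturated p) {D : FusionSystem (E.hyperfocalSubgroup p)}
    (hD : E.IsPResidual p D) : D.IsNormalIn E p := by
  refine Cfsg.Agent.S5120.result p hS E hE _ (CfsgLib.FusionSub.hyperfocal_le E p)
    ⟨fun h hh s => ?_⟩ le_rfl D hD.1 hD.2
  exact CfsgLib.FusionExamples.hyperfocal_conj_mem s.2 hh

theorem terminating_of_constrained : ∀ (n : ℕ) (S : Subgroup Ω) [Finite S], Nat.card S = n →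
    IsPGroup p S → ∀ F : FusionSystem S, F.IsConstrained p →
      (∃ (G : Type u) (_ : Group G) (ι : S →* G), F.IsModel p G ι ∧ IsPSolvable p G) →
        F.HasTerminatingResidualSeries p := by
  intro n
  induction n using Nat.strong_induction_on with
  | _ n ih =>
  intro S _ hn hS F hc hmod
  by_cases hne : S = ⊥
  · exact .trivial F p hne
  obtain ⟨G, _, ι, hM, hG⟩ := hmod
  haveI := hM.1
  obtain ⟨E, hE⟩ := exists_isPPrimeResidual hS hc.1
  have hEn : E.IsNormalIn F p :=
    Cfsg.Agent.S5141.result p hS F hc.1 F (isWeaklyNormalIn_self hc.1) E hE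
  obtain ⟨H, hHn, κ, hκ, -⟩ := exists_normal_model hM hEn
  have hlt := hyperfocal_pPrimeResidual_ne hM hG hne hE
  have hle := CfsgLib.FusionSub.hyperfocal_le E p
  haveI := finite_of_le hle
  obtain ⟨D, hDs, hDi⟩ := PPower.exists_pPowerIndex hS hE.1 hle le_rfl
  have hD : E.IsPResidual p D := ⟨hDs, hDi⟩
  have hDn := isNormalIn_pResidual hS hE.1 hD
  refine .step F E p D hE hD (ih _ ?_ _ rfl (isPGroup_of_le hS hle) D ?_ ?_)
  · rw [← hn]
    exact CfsgLib.FusionSub.card_lt_card le_rfl (lt_of_le_of_ne hle hlt)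
  · obtain ⟨K, hKn, κ', hκ', -⟩ := exists_normal_model hκ hDn
    exact isConstrained_of_isModel hκ'
  · obtain ⟨K, hKn, κ', hκ', -⟩ := exists_normal_model hκ hDn
    exact ⟨K, inferInstance, κ', hκ',
      CfsgLib.PSolvable.isPSolvable_subgroup (CfsgLib.PSolvable.isPSolvable_subgroup hG H) K⟩

theorem terminating_of_models {S : Subgroup Ω} [Finite S] (hS : IsPGroup p S)
    {F : FusionSystem S} (hc : F.IsConstrained p)
    (hmod : ∀ (G : Type u) [Group G] (ι : S →* G), F.IsModel p G ι → IsPSolvable p G) :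
    F.HasTerminatingResidualSeries p := by
  obtain ⟨G, _, ι, hM⟩ := CfsgLib.FusionModels.exists_model hS hc
  exact terminating_of_constrained _ S rfl hS F hc ⟨G, inferInstance, ι, hM, hmod G ι hM⟩

theorem constrained_of_terminating {S : Subgroup Ω} {F : FusionSystem S} {q : ℕ}
    (h : F.HasTerminatingResidualSeries q) : ∀ [Fact q.Prime] [Finite S], IsPGroup q S →
      F.IsSaturated q → F.IsConstrained q ∧
        ∀ (G : Type u) [Group G] (ι : S →* G), F.IsModel q G ι → IsPSolvable q G := by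
  induction h with
  | @trivial S F q hbot =>
    intro _ _ hS hF
    refine ⟨⟨hF, ⊥, CfsgLib.FusionExamples.isNormal_bot F, bot_le, fun R hR =>
      (inf_le_left.trans hbot.le).trans bot_le⟩, ?_⟩
    intro G _ ι hM
    obtain ⟨hfin, -, ⟨R, hR⟩, hC⟩ := hM
    subst hbot
    have hr : ι.range = ⊥ := by
      rw [MonoidHom.range_eq_bot_iff]
      exact MonoidHom.ext fun x => by
        rw [Subsingleton.elim x 1, map_one]; rfl
    have hcore : pCore q G = ⊥ := by
      refine le_bot_iff.mp ?_
      rw [← hr, ← hR]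
      haveI : (pCore q G).Normal := Subgroup.sSup_normal _ fun N hN => hN.1
      exact (CfsgLib.Cores.isPGroup_pCore q G).le_sylow_of_normal R
    haveI : Subsingleton G := by
      refine ⟨fun a b => ?_⟩
      have h1 : ∀ g : G, g = 1 := fun g => Subgroup.mem_bot.mp (hcore ▸ hC (fun x hx => by
        rw [hcore] at hx
        rw [Subgroup.mem_bot.mp hx, one_mul, mul_one]))
      rw [h1 a, h1 b]
    exact CfsgLib.PSolvable.isPSolvable_of_subsingleton
  | @step S F E q D hE hD _ ih =>
    intro _ _ hS hF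
    have hle := CfsgLib.FusionSub.hyperfocal_le E q
    haveI := finite_of_le hle
    obtain ⟨hDc, hDm⟩ := ih (isPGroup_of_le hS hle) hD.1
    have hDn := isNormalIn_pResidual hS hE.1 hD
    have hEn : E.IsNormalIn F q :=
      Cfsg.Agent.S5141.result q hS F hF F (isWeaklyNormalIn_self hF) E hE
    have hEc := isConstrained_of_pIndex hS hE.1 hDn le_rfl hDc
    refine ⟨isConstrained_of_index hF hEn hEc, fun G _ ι hM => ?_⟩
    haveI := hM.1
    obtain ⟨H, hHn, κ, hκ, hκι⟩ := exists_normal_model hM hEn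
    haveI := hκ.1
    -- `H` is `p`-soluble
    obtain ⟨K, hKn, κ', hκ', hκκ⟩ := exists_normal_model hκ hDn
    haveI := hKn
    haveI := hHn
    have hK : IsPSolvable q K := hDm K κ' hκ'
    obtain ⟨-, hreal, ⟨R, hR⟩, -⟩ := hκ
    have hSK : κ.range ⊓ pResidual q H ≤ K := by
      rintro x ⟨hx, hxp⟩
      obtain ⟨μ, hμ, hμκ, -⟩ := iso_symm (systemIso_of_isRealizedBy hreal)
      have h1 : x ∈ (groupFusionSystem κ.range).hyperfocalSubgroup q := by
        rw [← hR, hyperfocal_group R, hR]
        exact ⟨hx, hxp⟩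
      have h2 := iso_hyperfocal_le hμ q ⟨⟨x, hx⟩, h1, rfl⟩
      obtain ⟨s, rfl⟩ := hx
      have h3 : (s : Ω) ∈ E.hyperfocalSubgroup q := hμκ s ⟨s, rfl⟩ ▸ h2
      exact (hκκ ⟨s, h3⟩ s.2) ▸ (κ' ⟨s, h3⟩).2
    have hq : IsPSolvable q (H ⧸ K) := by
      haveI := CfsgLib.FusionExamples.pResidual_normal q H
      haveI : ((pResidual q H).map (QuotientGroup.mk' K)).Normal :=
        Subgroup.Normal.map inferInstance _ (QuotientGroup.mk'_surjective K)
      refine CfsgLib.PSolvable.isPSolvable_of_extension ((pResidual q H).map (QuotientGroup.mk' K)) ?_ ?_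
      · refine CfsgLib.PSolvable.isPSolvable_of_not_dvd fun hdvd => ?_
        obtain ⟨⟨_, a, ha, rfl⟩, hord⟩ := exists_prime_orderOf_dvd_card' q hdvd
        obtain ⟨k, m, hm, hkm⟩ := Nat.exists_eq_pow_mul_and_not_dvd (orderOf_pos a).ne' q
          (Fact.out : q.Prime).ne_one
        have hb : IsPGroup q (Subgroup.zpowers (a ^ m)) := by
          rintro ⟨w, i, rfl⟩
          refine ⟨k, Subtype.ext ?_⟩
          show ((a ^ m) ^ i) ^ q ^ k = 1
          rw [← zpow_natCast, ← zpow_mul, mul_comm, zpow_mul, zpow_natCast, ← pow_mul,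
            mul_comm m, ← hkm, pow_orderOf_eq_one, one_zpow]
        obtain ⟨Q, hQ⟩ := hb.exists_le_sylow
        obtain ⟨l, hl⟩ := MulAction.exists_smul_eq H R Q
        have h1 : a ^ m ∈ ((l • R : Sylow q H) : Subgroup H) := hl ▸ hQ (Subgroup.mem_zpowers _)
        rw [Sylow.coe_subgroup_smul] at h1
        obtain ⟨r, hr, hre⟩ := h1
        have hre' : l * r * l⁻¹ = a ^ m := hre
        have hr' : r ∈ κ.range ⊓ pResidual q H := by
          refine ⟨hR ▸ hr, ?_⟩
          have := Subgroup.Normal.conj_mem (inferInstance : (pResidual q H).Normal) _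
            (Subgroup.pow_mem _ ha m) l⁻¹
          rw [← hre'] at this
          simpa [mul_assoc] using this
        have hK' : QuotientGroup.mk' K (a ^ m) = 1 := (QuotientGroup.eq_one_iff _).mpr
          (hre' ▸ Subgroup.Normal.conj_mem hKn _ (hSK hr') l)
        rw [map_pow] at hK'
        have hordq : orderOf (QuotientGroup.mk' K a) = q := by
          rw [← hord]; exact (Subgroup.orderOf_mk (QuotientGroup.mk' K a) (Subgroup.mem_map_of_mem _ ha)).symm
        exact hm (hordq ▸ orderOf_dvd_of_pow_eq_one hK')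
      · refine CfsgLib.PSolvable.isPSolvable_of_isPGroup fun x => ?_
        obtain ⟨y, rfl⟩ := QuotientGroup.mk'_surjective _ x
        obtain ⟨a, rfl⟩ := QuotientGroup.mk'_surjective K y
        obtain ⟨k, m, hkm, hm⟩ := CfsgLib.FusionExamples.exists_coprime_power (p := q) a
        refine ⟨k, ?_⟩
        rw [← map_pow, ← map_pow]
        exact (QuotientGroup.eq_one_iff _).mpr
          ⟨_, CfsgLib.FusionExamples.mem_pResidual_of_pow_eq_one hkm hm, rfl⟩
    have hH : IsPSolvable q H := CfsgLib.PSolvable.isPSolvable_of_extension K hK hq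
    refine CfsgLib.PSolvable.isPSolvable_of_extension H hH
      (CfsgLib.PSolvable.isPSolvable_of_not_dvd ?_)
    obtain ⟨-, -, ⟨R₀, hR₀⟩, -⟩ := hM
    rw [← Subgroup.index_eq_card]
    exact fun hd => R₀.not_dvd_index (hd.trans (Subgroup.index_dvd_of_le (hR₀.trans_le (by
      rintro _ ⟨s, rfl⟩
      exact hκι s s.2 ▸ (κ s).2))))

end CfsgLib.Alperin
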