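import Cfsg.Agent.Lib.Alperin.SystemImageNormal
import Cfsg.Agent.Lib.Alperin.NormalModel
import Cfsg.Agent.Lib.Alperin.SubgroupSystem
import Cfsg.Agent.Lib.Quasithin.CharP
import Cfsg.Agent.Lib.PSolvable.Basic

/-!
Models of normal subsystems; hyperfocal subgroups in `p`-soluble models.
-/

set_option autoImplicit false
set_option linter.style.haveILetI false
set_option linter.unusedSectionVars false

namespace CfsgLib.Alperin

open Cfsg Cfsg.FusionSystem CfsgLib.FusionBasics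

universe u

variable {Ω : Type*} [Group Ω] {S : Subgroup Ω}

/-- One direction of the transport of hyperfocal subgroups. -/
theorem iso_hyperfocal_le {Γ : Type*} [Group Γ] {T : Subgroup Γ} {F : FusionSystem S}
    {F' : FusionSystem T} {ι : S →* Γ} (h : SystemIso F F' ι) (p : ℕ) :
    img ι (F.hyperfocalSubgroup p) ≤ F'.hyperfocalSubgroup p := by
  rintro _ ⟨s, hs, rfl⟩
  suffices hle : F.hyperfocalSubgroup p ≤
      ((F'.hyperfocalSubgroup p).comap ι).map S.subtype by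
    obtain ⟨s', hs', he⟩ := hle hs
    exact Subtype.ext he ▸ hs'
  refine (Subgroup.closure_le _).mpr ?_
  rintro _ ⟨P, α, x, hP, hα, rfl⟩
  refine ⟨⟨x, hP x.2⟩⁻¹ * ⟨((α : MulAut P) x : P), hP ((α : MulAut P) x).2⟩, ?_, rfl⟩
  show ι _ ∈ F'.hyperfocalSubgroup p
  let c : F.autGroup P ≃* F'.autGroup (img ι P) :=
    ((F.autGroup P).equivMapOfInjective (MulAut.congr (imgEquiv ι h.inj hP)).toMonoidHom
      (MulAut.congr (imgEquiv ι h.inj hP)).injective).trans
      (MulEquiv.subgroupCongr (h.autGroup_img hP))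
  have hc : c α ∈ pResidual p (F'.autGroup (img ι P)) := by
    have hle : pResidual p (F.autGroup P) ≤
        (pResidual p (F'.autGroup (img ι P))).comap c.toMonoidHom := by
      refine (Subgroup.closure_le _).mpr fun g hg => Subgroup.subset_closure ?_
      show Nat.Coprime (orderOf (c.toMonoidHom g)) p
      rw [orderOf_injective c.toMonoidHom c.injective]
      exact hg
    exact hle hα
  refine Subgroup.subset_closure ⟨img ι P, c α, imgEquiv ι h.inj hP x,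
    (img_le_range ι P).trans h.range_eq.le, hc, ?_⟩
  rw [map_mul, map_inv]
  refine congrArg₂ (· * ·) rfl ?_
  show _ = ((imgEquiv ι h.inj hP ((α : MulAut P)
    ((imgEquiv ι h.inj hP).symm (imgEquiv ι h.inj hP x))) : img ι P) : Γ)
  rw [MulEquiv.symm_apply_apply]
  rfl

variable {p : ℕ} [Fact p.Prime] [Finite S] {G : Type u} [Group G] {F : FusionSystem S}
  {ι : S →* G}

/-- A normal subsystem of a system with a model has a normal subgroup of the model as a model. -/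
theorem exists_normal_model (hM : F.IsModel p G ι) {T : Subgroup Ω} {E : FusionSystem T}
    (hE : E.IsNormalIn F p) :
    ∃ H : Subgroup G, H.Normal ∧ ∃ κ : T →* H, E.IsModel p H κ ∧
      ∀ (t : T) (ht : (t : Ω) ∈ S), ((κ t : H) : G) = ι ⟨t, ht⟩ := by
  obtain ⟨hfin, hreal, ⟨R, hR⟩, hC⟩ := hM
  have hiso : SystemIso F (groupFusionSystem (R : Subgroup G)) ι :=
    hR ▸ systemIso_of_isRealizedBy hreal
  have hT : T ≤ S := hE.1.2.2.2.1.1
  haveI := finite_of_le hT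
  obtain ⟨E', hE'⟩ := exists_image E (ι := ι.comp (Subgroup.inclusion hT))
    (hiso.inj.comp (Subgroup.inclusion_injective hT)) rfl
  have hn := iso_isNormalIn hiso hT hE' hE
  have hTR : (ι.comp (Subgroup.inclusion hT)).range ≤ (R : Subgroup G) := by
    rw [hR]
    rintro _ ⟨t, rfl⟩
    exact ⟨_, rfl⟩
  obtain ⟨H, ⟨hTH, hHn, ⟨R', hR'⟩, hHom⟩, -⟩ := exists_unique_normal_model R hC hTR E' hn
  haveI := hHn
  let κ : T →* H := (ι.comp (Subgroup.inclusion hT)).codRestrict H fun t => hTH ⟨t, rfl⟩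
  have hκ : ∀ t : T, ((κ t : H) : G) = ι ⟨t, hT t.2⟩ := fun t => rfl
  have hκinj : Function.Injective κ := fun a b h =>
    hE'.inj (congrArg Subtype.val h)
  refine ⟨H, hHn, κ, ⟨inferInstance, ⟨hκinj, fun P hP φ hφ => ?_⟩, ⟨R', ?_⟩, ?_⟩, fun t ht => rfl⟩
  · constructor
    · intro h
      obtain ⟨φ', hφ', hx⟩ := iso_fwd hE' h
      obtain ⟨-, -, g, hg, hgx⟩ := (hHom _).le hφ'
      refine ⟨⟨g, hg⟩, fun x => Subtype.ext ?_⟩
      exact (hx ⟨x, hP x.2⟩ x.2 ⟨_, x.2, rfl⟩).symm.trans (hgx _)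
    · rintro ⟨⟨g, hg⟩, hgx⟩
      have hgx' : ∀ x : P, (ι.comp (Subgroup.inclusion hT)) ⟨φ x, hφ x⟩ =
          g * (ι.comp (Subgroup.inclusion hT)) ⟨x, hP x.2⟩ * g⁻¹ := fun x =>
        congrArg Subtype.val (hgx x)
      have hmem : conjHom (img (ι.comp (Subgroup.inclusion hT)) P) g ∈
          E'.Hom (img (ι.comp (Subgroup.inclusion hT)) P) := by
        refine (hHom _).ge ⟨img_le_range _ P, ?_, g, hg, fun _ => rfl⟩
        rintro ⟨_, t, ht, rfl⟩
        exact ⟨⟨φ ⟨t, ht⟩, hφ _⟩, hgx' ⟨t, ht⟩⟩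
      obtain ⟨ψ, hψ, hy⟩ := iso_bwd hE' hP hmem
      refine mem_of_apply_eq hψ fun x => congrArg Subtype.val (hE'.inj
        (a₁ := ⟨φ x, hφ x⟩) (a₂ := ⟨ψ x, apply_mem hψ x⟩) ?_)
      exact (hgx' x).trans (hy ⟨x, hP x.2⟩ x.2 (apply_mem hψ _) ⟨_, x.2, rfl⟩)
  · rw [hR']
    ext h
    exact ⟨fun ⟨t, ht⟩ => ⟨t, Subtype.ext ht⟩, fun ⟨t, ht⟩ => ⟨t, congrArg Subtype.val ht⟩⟩
  · exact CfsgLib.Quasithin.charPGroup_of_subnormal (show CfsgLib.Quasithin.CharPGroup p G from hC)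
      (Subgroup.Normal.isSubnormal hHn)

/-- A `p`-soluble group equal to its `p`-residual and generated by its `p`-elements is trivial. -/
theorem eq_bot_of_residuals {L : Type*} [Group L] [Finite L] (hL : IsPSolvable p L)
    (h₁ : pResidual p L = ⊤) (h₂ : Subgroup.closure {g : L | ∃ k, g ^ p ^ k = 1} = ⊤) :
    (⊤ : Subgroup L) = ⊥ := by
  by_contra hne
  obtain ⟨n, C, h0, hn, hmono, hnorm, hfac⟩ := hL
  obtain ⟨i, hi, hi'⟩ : ∃ i : Fin n, C i.castSucc ≠ ⊤ ∧ C i.succ = ⊤ := by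
    by_contra h
    push Not at h
    have key : ∀ j, C j ≠ ⊤ := fun j =>
      Fin.induction (motive := fun j => C j ≠ ⊤) (by rw [h0]; exact fun h => hne h.symm) h j
    exact key _ hn
  haveI := hnorm i.castSucc
  have hidx : (C i.castSucc).index = (C i.castSucc).relIndex (C i.succ) := by
    rw [hi', Subgroup.relIndex_top_right]
  have hpow : ∀ x : L, x ^ (C i.castSucc).index ∈ C i.castSucc := fun x =>
    Subgroup.pow_index_mem _ x
  rcases hfac i with ⟨m, hm⟩ | hm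
  · refine hi (top_le_iff.mp (h₁ ▸ (Subgroup.closure_le _).mpr fun x (hx : (orderOf x).Coprime p) => ?_))
    have hxm : x ^ p ^ m ∈ C i.castSucc := hm ▸ hidx ▸ hpow x
    obtain ⟨k, hk, -⟩ := Nat.chineseRemainder (hx.pow_right m) 1 0
    obtain ⟨k, hk1, hk2⟩ := Nat.chineseRemainder (hx.pow_right m) 1 0
    obtain ⟨c, hc⟩ := Nat.modEq_zero_iff_dvd.mp hk2
    have : x ^ k = x := by
      conv_rhs => rw [← pow_one x]
      exact pow_eq_pow_iff_modEq.mpr hk1
    rw [← this, hc, pow_mul]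
    exact (C i.castSucc).pow_mem hxm c
  · refine hi (top_le_iff.mp (h₂ ▸ (Subgroup.closure_le _).mpr fun x ⟨k, hx⟩ => ?_))
    have hco : (orderOf x).Coprime (C i.castSucc).index :=
      (hidx ▸ hm.symm.pow_left k).coprime_dvd_left (orderOf_dvd_of_pow_eq_one hx)
    obtain ⟨j, hj1, hj2⟩ := Nat.chineseRemainder hco 1 0
    obtain ⟨c, hc⟩ := Nat.modEq_zero_iff_dvd.mp hj2
    have : x ^ j = x := by
      conv_rhs => rw [← pow_one x]
      exact pow_eq_pow_iff_modEq.mpr hj1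
    rw [← this, hc, pow_mul]
    exact (C i.castSucc).pow_mem (hpow x) c

/-- In a `p`-soluble model the hyperfocal subgroup of the `p'`-residual is proper. -/
theorem hyperfocal_pPrimeResidual_ne (hM : F.IsModel p G ι) (hG : IsPSolvable p G) (hne : S ≠ ⊥)
    {E : FusionSystem S} (hE : F.IsPPrimeResidual p E) : E.hyperfocalSubgroup p ≠ S := by
  obtain ⟨hfin, hreal, ⟨R, hR⟩, hC⟩ := hM
  set L : Subgroup G := Subgroup.closure {g : G | ∃ k, g ^ p ^ k = 1} with hLdef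
  have hRL : (R : Subgroup G) ≤ L := fun x hx => Subgroup.subset_closure (by
    obtain ⟨k, hk⟩ := R.isPGroup' ⟨x, hx⟩
    exact ⟨k, by simpa using congrArg Subtype.val hk⟩)
  have hrL : ι.range ≤ L := hR ▸ hRL
  obtain ⟨κ, hκ, hκι, himg⟩ := iso_symm (systemIso_of_isRealizedBy hreal)
  have hLs : (fusionSystemOfSubgroup L ι.range hrL).IsSaturated p :=
    fusionSystemOfSubgroup_isSaturated hrL (R.subtype hRL) (by
      rw [Sylow.coe_subtype]; exact congrArg (fun X => Subgroup.subgroupOf X L) hR)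
  haveI : Finite ι.range := Finite.of_surjective ι.rangeRestrict ι.rangeRestrict_surjective
  obtain ⟨D, hD⟩ := exists_image (fusionSystemOfSubgroup L ι.range hrL) hκ.inj hκ.range_eq
  -- the maps of `D` are conjugations by elements of `L`
  have hDr : ∀ {P : Subgroup Ω} {φ : P →* Ω} (hφ : φ ∈ D.Hom P), ∃ g ∈ L, ∀ x : P,
      ι ⟨φ x, apply_mem hφ x⟩ = g * ι ⟨x, dom_le hφ x.2⟩ * g⁻¹ := by
    intro P φ hφ
    have hP := dom_le hφ
    obtain ⟨φ', hφ', hx⟩ := iso_bwd hD (img_le_range ι P)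
      (restrict_mem hφ (himg P hP).le)
    obtain ⟨-, hφS, g, hg, hgx⟩ := id hφ'
    refine ⟨g, hg, fun x => ?_⟩
    have hm : ι ⟨x, hP x.2⟩ ∈ img ι P := ⟨_, x.2, rfl⟩
    have h1 := hx ⟨ι ⟨x, hP x.2⟩, ⟨_, rfl⟩⟩ hm (hφS ⟨_, hm⟩) ⟨_, hm, rfl⟩
    have h2 : φ x = κ ⟨φ' ⟨_, hm⟩, hφS _⟩ :=
      (congrArg φ (Subtype.ext (hκι ⟨x, hP x.2⟩ _).symm)).trans h1
    obtain ⟨s, hs⟩ := hφS ⟨_, hm⟩
    have h3 : κ ⟨φ' ⟨_, hm⟩, hφS _⟩ = (s : Ω) :=
      (congrArg κ (Subtype.ext hs.symm)).trans (hκι s ⟨s, rfl⟩)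
    rw [show (⟨φ x, apply_mem hφ x⟩ : S) = s from Subtype.ext (h2.trans h3), hs]
    exact hgx _
  have hDsub : D.IsSubsystemOf F := fun P φ hφ => by
    obtain ⟨g, -, hg⟩ := hDr hφ
    exact (hreal.2 P (dom_le hφ) φ (apply_mem hφ)).mpr ⟨g, hg⟩
  have hDi : D.HasPrimeToPIndexIn F p := by
    refine ⟨hDsub, fun P hP => ?_⟩
    rw [MonoidHom.map_closure, Subgroup.closure_le]
    rintro _ ⟨⟨α, hα⟩, ⟨k, hk⟩, rfl⟩
    show α ∈ D.autGroup P
    obtain ⟨g, hg⟩ := (hreal.2 P hP _ fun x => hP (α x).2).mp ((mem_autGroup_iff F hP).mp hα)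
    obtain ⟨a, m, hm, hgam⟩ := Nat.exists_eq_pow_mul_and_not_dvd (orderOf_pos g).ne' p
      (Fact.out : p.Prime).ne_one
    obtain ⟨n, hn1, hn2⟩ := Nat.chineseRemainder
      (((Fact.out : p.Prime).coprime_iff_not_dvd.mpr hm).pow_left k) 1 0
    have hgn : g ^ n ∈ L := by
      obtain ⟨c, hc⟩ := Nat.modEq_zero_iff_dvd.mp hn2
      refine Subgroup.subset_closure ⟨a, ?_⟩
      rw [← pow_mul, hc, show m * c * p ^ a = orderOf g * c by rw [hgam]; ring, pow_mul,
        pow_orderOf_eq_one, one_pow]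
    have hit : ∀ (j : ℕ) (x : P), ι ⟨((α ^ j) x : P), hP ((α ^ j) x).2⟩ =
        g ^ j * ι ⟨x, hP x.2⟩ * (g ^ j)⁻¹ := by
      intro j
      induction j with
      | zero => intro x; simp
      | succ j ih =>
        intro x
        rw [pow_succ g j, mul_inv_rev]
        refine (show ι ⟨((α ^ (j + 1)) x : P), hP ((α ^ (j + 1)) x).2⟩ =
          ι ⟨((α ^ j) (α x) : P), hP ((α ^ j) (α x)).2⟩ by simp only [pow_succ]; rfl).trans ?_
        rw [ih (α x), show ι ⟨(α x : P), hP (α x).2⟩ = g * ι ⟨x, hP x.2⟩ * g⁻¹ from hg x]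
        group
    have hαn : α ^ n = α := by
      have hord : orderOf α = p ^ k := (Subgroup.orderOf_coe (⟨α, hα⟩ : F.autGroup P)).trans hk
      conv_rhs => rw [← pow_one α]
      exact pow_eq_pow_iff_modEq.mpr (hord ▸ hn1)
    have hmem : conjHom (img ι P) (g ^ n) ∈ (fusionSystemOfSubgroup L ι.range hrL).Hom (img ι P) := by
      refine ⟨img_le_range ι P, ?_, g ^ n, hgn, fun _ => rfl⟩
      rintro ⟨_, s, hs, rfl⟩
      exact ⟨_, hit n ⟨s, hs⟩⟩
    obtain ⟨φ, hφ, hx⟩ := iso_fwd hD hmem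
    refine (mem_autGroup_iff D hP).mpr (mem_of_apply_eq (restrict_mem hφ (himg P hP).ge) fun x => ?_)
    have hm' : ι ⟨x, hP x.2⟩ ∈ img ι P := ⟨_, x.2, rfl⟩
    refine Eq.trans ?_ (((congrArg φ (Subtype.ext (hκι ⟨x, hP x.2⟩ ⟨_, rfl⟩).symm)).trans
      (hx ⟨ι ⟨x, hP x.2⟩, ⟨_, rfl⟩⟩ hm' ⟨_, hm', rfl⟩)).symm)
    refine Eq.trans ?_ (congrArg κ (a₁ := ⟨ι ⟨((α ^ n) x : P), hP ((α ^ n) x).2⟩, ⟨_, rfl⟩⟩)
      (Subtype.ext (hit n x)))
    refine Eq.trans ?_ (hκι _ _).symm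
    show ((α x : P) : Ω) = (((α ^ n) x : P) : Ω)
    rw [hαn]
  have hED := hE.2.2 D (iso_isSaturated hD hLs) hDi
  intro hEh
  -- the Sylow subgroup lies in the `p`-residual of `L`
  haveI := CfsgLib.FusionExamples.pResidual_normal p L
  set M : Subgroup G := (pResidual p L).map L.subtype with hMdef
  have hLn : ∀ {x : G}, x ∈ M → ∀ g ∈ L, g * x * g⁻¹ ∈ M := by
    rintro _ ⟨x, hx, rfl⟩ g hg
    exact ⟨⟨g, hg⟩ * x * ⟨g, hg⟩⁻¹, Subgroup.Normal.conj_mem inferInstance x hx _, rfl⟩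
  have hSM : ι.range ≤ M := by
    rintro _ ⟨s, rfl⟩
    suffices hle : E.hyperfocalSubgroup p ≤ (M.comap ι).map S.subtype by
      obtain ⟨s', hs', he⟩ := hle (hEh.ge s.2)
      exact Subtype.ext he ▸ hs'
    refine (Subgroup.closure_le _).mpr ?_
    rintro _ ⟨P, α, x, hP, hα, rfl⟩
    refine ⟨⟨x, hP x.2⟩⁻¹ * ⟨((α : MulAut P) x : P), hP ((α : MulAut P) x).2⟩, ?_, rfl⟩
    show ι _ ∈ M
    suffices h : ∃ l ∈ M, ∀ y : P, ι ⟨((α : MulAut P) y : P), hP ((α : MulAut P) y).2⟩ =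
        l * ι ⟨y, hP y.2⟩ * l⁻¹ by
      obtain ⟨l, hl, hlx⟩ := h
      rw [map_mul, map_inv, hlx]
      have := M.mul_mem (hLn hl _ (L.inv_mem (hrL ⟨⟨x, hP x.2⟩, rfl⟩))) (M.inv_mem hl)
      simpa [mul_assoc] using this
    induction hα using Subgroup.closure_induction with
    | one => exact ⟨1, M.one_mem, fun y => by simp⟩
    | mul a b _ _ ha hb =>
      obtain ⟨l, hl, hlx⟩ := ha
      obtain ⟨l', hl', hlx'⟩ := hb
      refine ⟨l * l', M.mul_mem hl hl', fun y => ?_⟩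
      refine (hlx ((b : MulAut P) y)).trans ?_
      rw [hlx' y]
      group
    | inv a _ ha =>
      obtain ⟨l, hl, hlx⟩ := ha
      refine ⟨l⁻¹, M.inv_mem hl, fun y => ?_⟩
      have h1 := hlx ((a : MulAut P)⁻¹ y)
      have h2 : (a : MulAut P) ((a : MulAut P)⁻¹ y) = y := (a : MulAut P).apply_symm_apply y
      simp only [h2] at h1
      rw [h1]
      simp [mul_assoc]
    | mem a ha =>
      obtain ⟨g, hgL, hgx⟩ := hDr (hED P ((mem_autGroup_iff E hP).mp a.2))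
      obtain ⟨k, m, hm, hkm⟩ := Nat.exists_eq_pow_mul_and_not_dvd
        (orderOf_pos (⟨g, hgL⟩ : L)).ne' p (Fact.out : p.Prime).ne_one
      obtain ⟨n, hn1, hn2⟩ := Nat.chineseRemainder
        ((show (orderOf a).Coprime p from ha).pow_right k) 1 0
      have hgn : (⟨g, hgL⟩ : L) ^ n ∈ pResidual p L := by
        obtain ⟨c, hc⟩ := Nat.modEq_zero_iff_dvd.mp hn2
        refine CfsgLib.FusionExamples.mem_pResidual_of_pow_eq_one (m := m) ?_
          ((Fact.out : p.Prime).coprime_iff_not_dvd.mpr hm).symm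
        rw [← pow_mul, hc, show p ^ k * c * m = orderOf (⟨g, hgL⟩ : L) * c by rw [hkm]; ring,
          pow_mul, pow_orderOf_eq_one, one_pow]
      refine ⟨g ^ n, ⟨_, hgn, SubmonoidClass.coe_pow _ _⟩, ?_⟩
      have hit : ∀ (j : ℕ) (y : P),
          ι ⟨((((a : MulAut P)) ^ j) y : P), hP ((((a : MulAut P)) ^ j) y).2⟩ =
          g ^ j * ι ⟨y, hP y.2⟩ * (g ^ j)⁻¹ := by
        intro j
        induction j with
        | zero => intro y; simp
        | succ j ih =>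
          intro y
          rw [pow_succ g j, mul_inv_rev]
          refine (show ι ⟨(((a : MulAut P) ^ (j + 1)) y : P), hP (((a : MulAut P) ^ (j + 1)) y).2⟩ =
            ι ⟨(((a : MulAut P) ^ j) ((a : MulAut P) y) : P),
              hP (((a : MulAut P) ^ j) ((a : MulAut P) y)).2⟩ by simp only [pow_succ]; rfl).trans ?_
          rw [ih ((a : MulAut P) y), show ι ⟨((a : MulAut P) y : P), hP ((a : MulAut P) y).2⟩ =
            g * ι ⟨y, hP y.2⟩ * g⁻¹ from hgx y]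
          group
      have han : (a : MulAut P) ^ n = a := by
        conv_rhs => rw [← pow_one (a : MulAut P)]
        exact pow_eq_pow_iff_modEq.mpr ((Subgroup.orderOf_coe a).symm ▸ hn1)
      intro y
      have := hit n y
      rwa [show (⟨(((a : MulAut P) ^ n) y : P), hP (((a : MulAut P) ^ n) y).2⟩ : S) =
        ⟨((a : MulAut P) y : P), hP ((a : MulAut P) y).2⟩ from Subtype.ext (by rw [han])] at this
  -- so `L` is trivial
  have hp1 : pResidual p L = ⊤ := by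
    refine top_le_iff.mp fun x _ => ?_
    suffices hall : L ≤ M by
      obtain ⟨y, hy, he⟩ := hall x.2
      exact Subtype.ext he ▸ hy
    refine (Subgroup.closure_le _).mpr ?_
    rintro z ⟨k, hk⟩
    have hz : IsPGroup p (Subgroup.zpowers z) := by
      rintro ⟨w, i, rfl⟩
      refine ⟨k, Subtype.ext ?_⟩
      show (z ^ i) ^ p ^ k = 1
      rw [← zpow_natCast, ← zpow_mul, mul_comm, zpow_mul, zpow_natCast, hk, one_zpow]
    have hzL : z ∈ L := Subgroup.subset_closure ⟨k, hk⟩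
    obtain ⟨Q, hQ⟩ := (hz.comap_of_injective L.subtype L.subtype_injective).exists_le_sylow
    obtain ⟨l, hl⟩ := MulAction.exists_smul_eq L (R.subtype hRL) Q
    have h1 : (⟨z, hzL⟩ : L) ∈ ((l • R.subtype hRL : Sylow p L) : Subgroup L) :=
      hl ▸ hQ (Subgroup.mem_zpowers z)
    rw [Sylow.coe_subgroup_smul] at h1
    obtain ⟨r, hr, hre⟩ := h1
    have hr' : (r : G) ∈ (R : Subgroup G) := hr
    have hz' : (l : G) * r * (l : G)⁻¹ = z := congrArg Subtype.val hre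
    rw [← hz']
    exact hLn (hSM (hR ▸ hr')) _ l.2
  have hp2 : Subgroup.closure {g : L | ∃ k, g ^ p ^ k = 1} = ⊤ := by
    rw [← Subgroup.closure_closure_coe_preimage (k := {g : G | ∃ k, g ^ p ^ k = 1})]
    congr 1
    ext g
    exact exists_congr fun k =>
      ⟨fun h => congrArg Subtype.val h, fun h => Subtype.ext ((SubmonoidClass.coe_pow _ _).trans h)⟩
  have hbot := eq_bot_of_residuals (CfsgLib.PSolvable.isPSolvable_subgroup hG L) hp1 hp2
  refine hne ((Subgroup.eq_bot_iff_forall _).mpr fun s hs => ?_)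
  have h1 : (⟨ι ⟨s, hs⟩, hrL ⟨_, rfl⟩⟩ : L) = 1 := Subgroup.mem_bot.mp (hbot ▸ Subgroup.mem_top _)
  exact congrArg Subtype.val (hreal.1 ((congrArg Subtype.val h1).trans (map_one ι).symm))

end CfsgLib.Alperin
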